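import Cfsg.Agent.Lib.S8Three.Model

/-!
Finite facts about the centralisers in the chart.
-/

set_option autoImplicit false
set_option maxRecDepth 20000
set_option synthInstance.maxSize 4096

namespace Cfsg.Agent.S8Three

open Equiv

theorem cent_z_card : Fintype.card {q : LL // q * z0 = z0 * q} = 360 := by decide +kernel

theorem comm_t_norm : ∀ q : LL, q * t0 = t0 * q → q * z0 * q⁻¹ ∈ Dm ∧ q * w0 * q⁻¹ ∈ Dm := by
  decide +kernel

theorem norm_comm_t : ∀ q : LL, q * z0 * q⁻¹ ∈ Dm → q * w0 * q⁻¹ ∈ Dm → q * t0 = t0 * q := by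
  decide +kernel

theorem comm_t_card : Fintype.card {q : LL // q * t0 = t0 * q} = 72 := by decide +kernel

theorem z_move : z0 ≠ 1 ∧ w0 ≠ 1 ∧ y0 ≠ 1 ∧ w0 ≠ z0 ∧ w0 ≠ z0 * z0 ∧ z0 * w0 = y0 ∧ w0 * z0 = y0 := by
  decide +kernel

theorem y_out : ∀ d : LL, d ∈ Dm → d ≠ 1 → d ≠ y0 → d ≠ y0 * y0 →
    ∃ i j : Fin 3, z0 = d ^ (i : ℕ) * y0 ^ (j : ℕ) := by
  decide +kernel

end Cfsg.Agent.S8Three
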