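import Cfsg.Agent.Lib.S8Three.Setup
import Cfsg.Agent.Lib.S8Three.Facts
import Mathlib.GroupTheory.PGroup

/-!
Sylow subgroups, the normaliser of `D` and the distinctness of the four classes of involutions.
-/

set_option autoImplicit false
set_option linter.style.haveILetI false
set_option maxRecDepth 20000

namespace Cfsg.Agent.S8Three

open Equiv Subgroup

theorem Dm_comm {a b : LL} (ha : a ∈ Dm) (hb : b ∈ Dm) : a * b = b * a :=
  Prod.ext (P_closed.1 _ ha.1 _ hb.1).2 (P_closed.2.1 _ ha.2 _ hb.2).2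

theorem mem_zpowers_three {G : Type*} [Group G] {x a : G} (hx : x ^ 3 = 1) (h : a ∈ zpowers x) :
    a = 1 ∨ a = x ∨ a = x * x := by
  obtain ⟨k, rfl⟩ := h
  have hx3 : x ^ (3 : ℤ) = 1 := by exact_mod_cast hx
  show x ^ k = 1 ∨ x ^ k = x ∨ x ^ k = x * x
  have hk : x ^ k = x ^ (k % 3) := by
    conv_lhs => rw [← Int.emod_add_ediv_mul k 3, zpow_add, mul_comm (k / 3) 3, zpow_mul, hx3, one_zpow,
      mul_one]
  rcases (show k % 3 = 0 ∨ k % 3 = 1 ∨ k % 3 = 2 by omega) with h | h | h <;> rw [hk, h]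
  · exact Or.inl (zpow_zero x)
  · exact Or.inr (Or.inl (zpow_one x))
  · exact Or.inr (Or.inr (by rw [show (2 : ℤ) = 1 + 1 from rfl, zpow_add, zpow_one]))

namespace Cfg

variable {G : Type*} [Group G] [Finite G] (C : Cfg G)
include C

theorem F_comm {a b : LL} : C.F a * C.F b = C.F b * C.F a ↔ a * b = b * a := by
  rw [← map_mul, ← map_mul]
  exact C.F_inj.eq_iff

theorem sconj_mul (a b : G) : C.s * (a * b) * C.s = (C.s * a * C.s) * (C.s * b * C.s) := by
  calc C.s * (a * b) * C.s = C.s * a * 1 * b * C.s := by group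
    _ = C.s * a * (C.s * C.s) * b * C.s := by rw [C.ss]
    _ = _ := by group

theorem sconj_sconj (a : G) : C.s * (C.s * a * C.s) * C.s = a := by
  calc C.s * (C.s * a * C.s) * C.s = (C.s * C.s) * a * (C.s * C.s) := by group
    _ = a := by rw [C.ss, one_mul, mul_one]

theorem sconj_comm {a b : G} (h : a * b = b * a) :
    (C.s * a * C.s) * (C.s * b * C.s) = (C.s * b * C.s) * (C.s * a * C.s) := by
  rw [← C.sconj_mul, ← C.sconj_mul, h]

theorem sw : C.s * C.F w0 * C.s = C.F z0 := by rw [← C.sz, C.sconj_sconj]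

theorem s_comm_t : C.s * C.F t0 = C.F t0 * C.s := by
  calc C.s * C.F t0 = C.s * C.F t0 * (C.s * C.s) := by rw [C.ss, mul_one]
    _ = (C.s * C.F t0 * C.s) * C.s := by group
    _ = _ := by rw [C.st]

theorem s_comm_y : C.s * C.F y0 = C.F y0 * C.s := by
  have h : C.s * C.F y0 * C.s = C.F y0 := by
    rw [← z_move.2.2.2.2.2.1, map_mul, C.sconj_mul, C.sz, C.sw]
    exact C.F_comm.2 (Dm_comm Dm_facts.2.1 Dm_facts.1)
  calc C.s * C.F y0 = C.s * C.F y0 * (C.s * C.s) := by rw [C.ss, mul_one]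
    _ = (C.s * C.F y0 * C.s) * C.s := by group
    _ = _ := by rw [h]

theorem cube {d : G} (hd : d ∈ Dm.map C.F) : d ^ 3 = 1 := by
  obtain ⟨p, hp, rfl⟩ := hd
  rw [pow_succ, pow_two, ← map_mul, ← map_mul, (Dm_facts.2.2.2.1 p hp).1, map_one]

theorem card_D : Nat.card (Dm.map C.F) = 9 := by
  rw [card_map_of_injective C.F_inj, Nat.card_eq_fintype_card, Dm_card]

/-- The Sylow 3-subgroup. -/
theorem exists_sylow : ∃ R : Sylow 3 G, (R : Subgroup G) = Dm.map C.F := by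
  haveI : Fact (Nat.Prime 3) := ⟨Nat.prime_three⟩
  obtain ⟨R, hR⟩ := (IsPGroup.of_card (p := 3) (n := 2) (G := Dm.map C.F) (by rw [C.card_D]; norm_num)).exists_le_sylow
  refine ⟨R, (eq_of_le_of_card_ge hR ?_).symm⟩
  obtain ⟨n, hn⟩ := IsPGroup.iff_card.1 R.isPGroup'
  rw [C.card_D, hn]
  rcases Nat.lt_or_ge n 3 with h | h
  · exact le_trans (Nat.pow_le_pow_right (by norm_num) (by omega : n ≤ 2)) (by norm_num)
  · exact absurd ((pow_dvd_pow 3 h).trans (hn ▸ card_subgroup_dvd_card (R : Subgroup G))) C.sylow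

/-- Every 3-subgroup is abelian of exponent three. -/
theorem three_group {R : Subgroup G} (hR : IsPGroup 3 R) :
    ∀ a ∈ R, ∀ b ∈ R, a * b = b * a ∧ a ^ 3 = 1 := by
  haveI : Fact (Nat.Prime 3) := ⟨Nat.prime_three⟩
  obtain ⟨Q, hQ⟩ := hR.exists_le_sylow
  obtain ⟨R0, hR0⟩ := C.exists_sylow
  obtain ⟨g, hg⟩ := MulAction.exists_smul_eq G Q R0
  intro a ha b hb
  have hmem : ∀ x ∈ R, g * x * g⁻¹ ∈ Dm.map C.F := fun x hx => by
    rw [← hR0, ← hg, Sylow.coe_subgroup_smul]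
    exact ⟨x, hQ hx, rfl⟩
  obtain ⟨p, hp, ep⟩ := hmem a ha
  obtain ⟨q, hq, eq⟩ := hmem b hb
  constructor
  · have h : g * (a * b) * g⁻¹ = g * (b * a) * g⁻¹ := by
      calc g * (a * b) * g⁻¹ = (g * a * g⁻¹) * (g * b * g⁻¹) := by group
        _ = (g * b * g⁻¹) * (g * a * g⁻¹) := by rw [← ep, ← eq, C.F_comm.2 (Dm_comm hp hq)]
        _ = _ := by group
    exact mul_left_cancel (mul_right_cancel h)
  · have h := C.cube (hmem a ha)
    rw [conj_pow] at h
    exact conj_eq_one_iff.1 h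

/-- In a subgroup where `x` commutes with no further element of order three, every element of order
three is conjugate into `⟨x⟩`. -/
theorem conj_into (H : Subgroup G) {x : G} (hxH : x ∈ H) (hx : x ^ 3 = 1)
    (hsmall : ∀ d ∈ H, d * x = x * d → d ^ 3 = 1 → d ∈ zpowers x) :
    ∀ a ∈ H, a ^ 3 = 1 → ∃ h ∈ H, h * a * h⁻¹ ∈ zpowers x := by
  haveI : Fact (Nat.Prime 3) := ⟨Nat.prime_three⟩
  intro a ha ha3
  have hp : ∀ u : G, ∀ hu : u ∈ H, u ^ 3 = 1 → IsPGroup 3 (zpowers (⟨u, hu⟩ : H)) := by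
    intro u hu hu3
    rintro ⟨v, k, rfl⟩
    exact ⟨1, Subtype.ext (Subtype.ext (by
      show ((u ^ k : G)) ^ (3 ^ 1) = 1
      rw [pow_one, ← zpow_natCast, ← zpow_mul, mul_comm, zpow_mul, zpow_natCast, hu3, one_zpow]))⟩
  obtain ⟨R, hR⟩ := (hp x hxH hx).exists_le_sylow
  obtain ⟨R', hR'⟩ := (hp a ha ha3).exists_le_sylow
  obtain ⟨h, hh⟩ := MulAction.exists_smul_eq H R' R
  have hmem : h * ⟨a, ha⟩ * h⁻¹ ∈ (R : Subgroup H) := by
    rw [← hh, Sylow.coe_subgroup_smul]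
    exact ⟨_, hR' (mem_zpowers _), rfl⟩
  have h3 := C.three_group (R.isPGroup'.map H.subtype)
  have h1 := h3 _ (mem_map_of_mem H.subtype hmem) _ (mem_map_of_mem H.subtype (hR (mem_zpowers _)))
  exact ⟨h, h.2, hsmall _ (mul_mem (mul_mem h.2 ha) (inv_mem h.2)) h1.1 h1.2⟩

/-- Two elements of order three generate `D` unless one is a power of the other. -/
theorem z_of_pair {x u : G} (hx : x ∈ Dm.map C.F) (hxy : x ∉ zpowers (C.F y0))
    (hxu : u * x = x * u) (hyu : u * C.F y0 = C.F y0 * u) : u * C.F z0 = C.F z0 * u := by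
  obtain ⟨d, hd, rfl⟩ := hx
  obtain ⟨i, j, e⟩ := y_out d hd (fun e => hxy (by rw [e, map_one]; exact one_mem _))
    (fun e => hxy (e ▸ mem_zpowers _))
    (fun e => hxy (by rw [e, map_mul]; exact mul_mem (mem_zpowers _) (mem_zpowers _)))
  rw [e, map_mul, map_pow, map_pow]
  exact ((Commute.pow_right hxu i).mul_right (Commute.pow_right hyu j)).eq

theorem mem_cent_z {x : G} (h : x * C.F z0 = C.F z0 * x) : ∃ q, C.F q = x ∧ q * z0 = z0 * q := by
  obtain ⟨q, hq⟩ : x ∈ C.F.range := by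
    rw [C.F_range, mem_normalizer_iff_map_conj_eq, MonoidHom.map_zpowers]
    exact congrArg zpowers (show x * C.F z0 * x⁻¹ = C.F z0 by rw [h, mul_inv_cancel_right])
  exact ⟨q, hq, C.F_inj (by rw [map_mul, map_mul, hq]; exact h)⟩

theorem mem_cent_w {x : G} (h : x * C.F w0 = C.F w0 * x) :
    ∃ q, C.s * C.F q * C.s = x ∧ q * z0 = z0 * q := by
  obtain ⟨q, hq, hqz⟩ := C.mem_cent_z (x := C.s * x * C.s) (by rw [← C.sw]; exact C.sconj_comm h)
  exact ⟨q, by rw [hq, C.sconj_sconj], hqz⟩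

/-- An element of order three commuting with `y` lies in `D`. -/
theorem mem_D_of_y {d : G} (h : d * C.F y0 = C.F y0 * d) (h3 : d ^ 3 = 1) : d ∈ Dm.map C.F := by
  have h2 := C.ysq d (by rw [h, mul_inv_cancel_right]; exact mem_zpowers _)
  have e : d = (d * d) * (d * d) := by
    calc d = d ^ 3 * d := by rw [h3, one_mul]
      _ = _ := by simp only [pow_succ, pow_zero]; group
  rw [e]
  exact mul_mem h2 h2

/-- A conjugate of `t` commuting with an element of order three centralises a Sylow 3-subgroup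
containing it. -/
theorem tclass_extra {u x : G} (hu : IsConj (C.F t0) u) (hx : x ^ 3 = 1) (hux : u * x = x * u) :
    ∃ d, d ^ 3 = 1 ∧ d ∉ zpowers x ∧ d * u = u * d ∧ d * x = x * d := by
  by_contra hne
  push Not at hne
  set H := centralizer ({u} : Set G) with hH
  have hmemH : ∀ a, a ∈ H ↔ a * u = u * a := fun a => mem_centralizer_singleton_iff
  have hsmall : ∀ d ∈ H, d * x = x * d → d ^ 3 = 1 → d ∈ zpowers x := fun d hd hdx hd3 => by
    by_contra hdz
    exact hne d hd3 hdz ((hmemH d).1 hd) hdx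
  obtain ⟨g, hg⟩ := isConj_iff.1 hu
  have hin : ∀ p ∈ Dm, g * C.F p * g⁻¹ ∈ H := fun p hp => by
    rw [hmemH, ← hg]
    calc g * C.F p * g⁻¹ * (g * C.F t0 * g⁻¹) = g * (C.F p * C.F t0) * g⁻¹ := by group
      _ = g * (C.F t0 * C.F p) * g⁻¹ := by rw [C.F_comm.2 (Dm_facts.2.2.2.1 p hp).2.2.2.1]
      _ = _ := by group
  have key := C.conj_into H ((hmemH x).2 hux.symm) hx hsmall
  have h1 : ∀ p ∈ Dm, ∃ h ∈ H, h * (g * C.F p * g⁻¹) * h⁻¹ ∈ zpowers x := fun p hp => by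
    refine key _ (hin p hp) ?_
    rw [conj_pow, C.cube (mem_map_of_mem _ hp), mul_one, mul_inv_cancel]
  obtain ⟨h, hh, hz⟩ := h1 z0 Dm_facts.1
  -- the whole conjugate of `D` commutes with the conjugate of `z`
  have hz1 : h * (g * C.F z0 * g⁻¹) * h⁻¹ ≠ 1 := fun e =>
    z_move.1 (C.F_inj (by rw [map_one]; exact conj_eq_one_iff.1 (conj_eq_one_iff.1 e)))
  have hw : h * (g * C.F w0 * g⁻¹) * h⁻¹ ∈ zpowers x := by
    refine hsmall _ (mul_mem (mul_mem hh (hin _ Dm_facts.2.1)) (inv_mem hh)) ?_ ?_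
    · have hc : Commute (h * (g * C.F w0 * g⁻¹) * h⁻¹) (h * (g * C.F z0 * g⁻¹) * h⁻¹) := by
        have hwz : Commute (C.F w0) (C.F z0) := C.F_comm.2 (Dm_comm Dm_facts.2.1 Dm_facts.1)
        exact (hwz.conj g).conj h
      rcases mem_zpowers_three hx hz with e | e | e
      · exact absurd e hz1
      · rw [e] at hc; exact hc.eq
      · rw [e] at hc
        have := hc.mul_right hc
        rwa [show x * x * (x * x) = x by
          calc x * x * (x * x) = x ^ 3 * x := by simp only [pow_succ, pow_zero]; group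
            _ = x := by rw [hx, one_mul]] at this
    · rw [conj_pow, conj_pow, C.cube (mem_map_of_mem _ Dm_facts.2.1), mul_one, mul_inv_cancel, mul_one,
        mul_inv_cancel]
  have hinj : ∀ a b : LL, h * (g * C.F a * g⁻¹) * h⁻¹ = h * (g * C.F b * g⁻¹) * h⁻¹ → a = b :=
    fun a b e => C.F_inj (mul_left_cancel (mul_right_cancel (mul_left_cancel (mul_right_cancel e))))
  have hsq : h * (g * C.F (z0 * z0) * g⁻¹) * h⁻¹ =
      h * (g * C.F z0 * g⁻¹) * h⁻¹ * (h * (g * C.F z0 * g⁻¹) * h⁻¹) := by rw [map_mul]; group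
  have h4 : x * x * (x * x) = x := by
    calc x * x * (x * x) = x ^ 3 * x := by simp only [pow_succ, pow_zero]; group
      _ = x := by rw [hx, one_mul]
  rcases mem_zpowers_three hx hw with e | e | e
  · exact z_move.2.1 (C.F_inj (by rw [map_one]; exact conj_eq_one_iff.1 (conj_eq_one_iff.1 e)))
  all_goals rcases mem_zpowers_three hx hz with e' | e' | e'
  all_goals
    first
      | exact hz1 e'
      | exact z_move.2.2.2.1 (hinj w0 z0 (e.trans e'.symm))
      | (refine z_move.2.2.2.2.1 (hinj w0 (z0 * z0) ?_); rw [hsq, e', e]; done)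
      | (refine z_move.2.2.2.2.1 (hinj w0 (z0 * z0) ?_); rw [hsq, e', e, h4]; done)

/-- A conjugate of `t` commuting with `y` centralises `D`. -/
theorem y_unique {u : G} (hu : IsConj (C.F t0) u) (huy : u * C.F y0 = C.F y0 * u) :
    u * C.F z0 = C.F z0 * u := by
  obtain ⟨d, hd3, hdy, hdu, hdy'⟩ := C.tclass_extra hu (C.cube (mem_map_of_mem _ Dm_facts.2.2.1)) huy
  exact C.z_of_pair (C.mem_D_of_y hdy' hd3) hdy hdu.symm huy

theorem t_ne_a : ¬ IsConj (C.F t0) (C.F i0) := by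
  intro h
  obtain ⟨d, hd3, hdz, hdi, hdz'⟩ := C.tclass_extra h (C.cube (mem_map_of_mem _ Dm_facts.1))
    (C.F_comm.2 (by decide +kernel))
  obtain ⟨q, rfl, hqz⟩ := C.mem_cent_z hdz'
  refine hdz ?_
  have hq2 := i0_small q hqz (C.F_inj (by rw [map_mul, map_mul, map_one, ← hd3, pow_succ, pow_two]))
    (C.F_inj (by rw [map_mul, map_mul]; exact hdi))
  have hq1 := (comm_z0 q).1 hqz
  simp only [P3, List.mem_cons, List.not_mem_nil, or_false] at hq1
  rcases hq1 with r | r | r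
  · rw [show q = 1 from Prod.ext r hq2, map_one]; exact one_mem _
  · rw [show q = z0 from Prod.ext r hq2]; exact mem_zpowers _
  · rw [show q = z0 * z0 from Prod.ext r (by rw [hq2]; simp [z0]), map_mul]
    exact mul_mem (mem_zpowers _) (mem_zpowers _)

theorem s_not_comm_z : C.s * C.F z0 ≠ C.F z0 * C.s := fun h => by
  have h2 := C.sz
  rw [h, mul_assoc, C.ss, mul_one] at h2
  exact z_move.2.2.2.1 (C.F_inj h2.symm)

theorem t_ne_s : ¬ IsConj (C.F t0) C.s := fun h => C.s_not_comm_z (C.y_unique h C.s_comm_y)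

theorem t_ne_st : ¬ IsConj (C.F t0) (C.s * C.F t0) := fun h => by
  have hty : C.F t0 * C.F y0 = C.F y0 * C.F t0 := C.F_comm.2 (Dm_facts.2.2.2.1 _ Dm_facts.2.2.1).2.2.2.1.symm
  have hc : Commute (C.s * C.F t0) (C.F y0) := Commute.mul_left C.s_comm_y hty
  have h1 := C.y_unique h hc.eq
  have htz : C.F t0 * C.F z0 = C.F z0 * C.F t0 := C.F_comm.2 (Dm_facts.2.2.2.1 _ Dm_facts.1).2.2.2.1.symm
  refine C.s_not_comm_z (mul_right_cancel (b := C.F t0) ?_)
  calc C.s * C.F z0 * C.F t0 = C.s * C.F t0 * C.F z0 := by rw [mul_assoc, ← htz, mul_assoc]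
    _ = C.F z0 * C.s * C.F t0 := by rw [h1, mul_assoc]

/-- An element commuting with `s t` and `y` is of order three only inside `⟨y⟩`. -/
theorem small_st {d : G} (hd : d * (C.s * C.F t0) = C.s * C.F t0 * d) (hdy : d * C.F y0 = C.F y0 * d)
    (hd3 : d ^ 3 = 1) : d ∈ zpowers (C.F y0) := by
  by_contra hne
  have hty : C.F t0 * C.F y0 = C.F y0 * C.F t0 := C.F_comm.2 (Dm_facts.2.2.2.1 _ Dm_facts.2.2.1).2.2.2.1.symm
  have htz : C.F t0 * C.F z0 = C.F z0 * C.F t0 := C.F_comm.2 (Dm_facts.2.2.2.1 _ Dm_facts.1).2.2.2.1.symm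
  have h1 := C.z_of_pair (C.mem_D_of_y hdy hd3) hne hd.symm (Commute.mul_left C.s_comm_y hty).eq
  refine C.s_not_comm_z (mul_right_cancel (b := C.F t0) ?_)
  calc C.s * C.F z0 * C.F t0 = C.s * C.F t0 * C.F z0 := by rw [mul_assoc, ← htz, mul_assoc]
    _ = C.F z0 * C.s * C.F t0 := by rw [h1, mul_assoc]

theorem s_ne_st : ¬ IsConj C.s (C.s * C.F t0) := by
  intro h
  obtain ⟨g, hg⟩ := isConj_iff.1 h
  have hty : C.F t0 * C.F y0 = C.F y0 * C.F t0 := C.F_comm.2 (Dm_facts.2.2.2.1 _ Dm_facts.2.2.1).2.2.2.1.symm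
  set H := centralizer ({C.s * C.F t0} : Set G) with hH
  have hy3 := C.cube (mem_map_of_mem _ Dm_facts.2.2.1)
  have hmem : g * C.F y0 * g⁻¹ ∈ H := by
    rw [hH, mem_centralizer_singleton_iff, ← hg]
    calc g * C.F y0 * g⁻¹ * (g * C.s * g⁻¹) = g * (C.F y0 * C.s) * g⁻¹ := by group
      _ = g * (C.s * C.F y0) * g⁻¹ := by rw [C.s_comm_y]
      _ = _ := by group
  obtain ⟨k, hk, hky⟩ := C.conj_into H
    (mem_centralizer_singleton_iff.2 (Commute.mul_left C.s_comm_y hty).eq.symm) hy3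
    (fun d hd hdy hd3 => C.small_st (mem_centralizer_singleton_iff.1 hd) hdy hd3)
    _ hmem (by rw [conj_pow, hy3, mul_one, mul_inv_cancel])
  set v := k * g with hv
  have hvy : v * C.F y0 * v⁻¹ ∈ zpowers (C.F y0) := by
    rwa [hv, show k * g * C.F y0 * (k * g)⁻¹ = k * (g * C.F y0 * g⁻¹) * k⁻¹ by group]
  have hvs : v * C.s * v⁻¹ = C.s * C.F t0 := by
    rw [hv, show k * g * C.s * (k * g)⁻¹ = k * (g * C.s * g⁻¹) * k⁻¹ by group, hg,
      mem_centralizer_singleton_iff.1 hk, mul_inv_cancel_right]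
  have hsy : C.s * C.F y0 * C.s⁻¹ = C.F y0 := by rw [C.s_comm_y, mul_inv_cancel_right]
  have hvsy : v * C.s * C.F y0 * (v * C.s)⁻¹ ∈ zpowers (C.F y0) := by
    rwa [show v * C.s * C.F y0 * (v * C.s)⁻¹ = v * (C.s * C.F y0 * C.s⁻¹) * v⁻¹ by group, hsy]
  obtain ⟨p, hp, ep⟩ := C.ysq v hvy
  obtain ⟨q, hq, eq⟩ := C.ysq (v * C.s) hvsy
  -- `t` would lie in `D`
  have e : C.F t0 = C.s * C.F q * C.s⁻¹ * (C.F p)⁻¹ := by
    rw [ep, eq, inv_of_sq C.ss]
    have h1 : v * C.s * (v * C.s) = v * C.s * v⁻¹ * (v * v) * C.s := by group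
    calc C.F t0 = C.s * (C.s * C.F t0) := by rw [← mul_assoc, C.ss, one_mul]
      _ = C.s * (v * C.s * v⁻¹) := by rw [hvs]
      _ = C.s * (v * C.s * v⁻¹ * (v * v) * C.s * C.s * (v * v)⁻¹) := by
          rw [mul_assoc (v * C.s * v⁻¹ * (v * v)), C.ss]; group
      _ = C.s * (v * C.s * (v * C.s)) * C.s * (v * v)⁻¹ := by rw [h1]; group
  have hm : C.F t0 ∈ Dm.map C.F := by
    rw [e]
    exact mul_mem (C.ynorm _ C.s_comm_y _ (mem_map_of_mem _ hq)) (inv_mem (mem_map_of_mem _ hp))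
  rw [mem_map_iff_mem C.F_inj] at hm
  exact Dm_facts.2.2.2.2.1 hm

end Cfg

end Cfsg.Agent.S8Three
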