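import Cfsg.Agent.Lib.S8Three.Model
import Mathlib.GroupTheory.Sylow
import Mathlib.GroupTheory.IndexNormal
import Mathlib.GroupTheory.Subgroup.Centralizer
import Mathlib.GroupTheory.SpecificGroups.Dihedral

/-!
The chart of the normaliser of `⟨z⟩` and the swapping involution.
-/

set_option autoImplicit false
set_option linter.style.haveILetI false
set_option maxRecDepth 20000

namespace Cfsg.Agent.S8Three

open Equiv Subgroup

/-- The data read off from the local hypotheses. -/
structure Cfg (G : Type*) [Group G] [Finite G] where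
  /-- the chart -/
  F : LL →* G
  F_inj : Function.Injective F
  F_range : F.range = normalizer (zpowers (F z0) : Set G)
  /-- the involution exchanging `z` and `w` -/
  s : G
  ss : s * s = 1
  sz : s * F z0 * s = F w0
  st : s * F t0 * s = F t0
  /-- the two types -/
  ε : Bool
  stau : s * F tau0 * s = F (bif ε then jt0 else j0)
  ycard : Nat.card (centralizer ({F y0} : Set G)) = 36
  ysq : ∀ g : G, g * F y0 * g⁻¹ ∈ zpowers (F y0) → g * g ∈ Dm.map F
  ynorm : ∀ g : G, g * F y0 = F y0 * g → ∀ d ∈ Dm.map F, g * d * g⁻¹ ∈ Dm.map F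
  sylow : ¬ 27 ∣ Nat.card G

section General

variable {G : Type*} [Group G]

theorem card_cent_conj (g x : G) :
    Nat.card (centralizer ({g * x * g⁻¹} : Set G)) = Nat.card (centralizer ({x} : Set G)) := by
  refine (Nat.card_congr (Equiv.subtypeEquiv (MulAut.conj g).toEquiv fun a => ?_)).symm
  rw [mem_centralizer_singleton_iff, mem_centralizer_singleton_iff]
  show a * x = x * a ↔ g * a * g⁻¹ * (g * x * g⁻¹) = g * x * g⁻¹ * (g * a * g⁻¹)
  constructor <;> intro h
  · calc g * a * g⁻¹ * (g * x * g⁻¹) = g * (a * x) * g⁻¹ := by group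
      _ = g * (x * a) * g⁻¹ := by rw [h]
      _ = _ := by group
  · calc a * x = g⁻¹ * (g * a * g⁻¹ * (g * x * g⁻¹)) * g := by group
      _ = g⁻¹ * (g * x * g⁻¹ * (g * a * g⁻¹)) * g := by rw [h]
      _ = x * a := by group

theorem centralizer_inv_eq (x : G) : centralizer ({x⁻¹} : Set G) = centralizer ({x} : Set G) := by
  ext c
  rw [mem_centralizer_singleton_iff, mem_centralizer_singleton_iff]
  exact Commute.inv_right_iff (a := c) (b := x)

theorem comm_of_conj {g x : G} (h : g * x * g⁻¹ = x) : g * x = x * g := mul_inv_eq_iff_eq_mul.1 h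

theorem inv_of_sq {g : G} (h : g * g = 1) : g⁻¹ = g := inv_eq_of_mul_eq_one_right h

end General

section Create

variable {G : Type*} [Group G] [Finite G]

theorem exists_cfg (P : Sylow 3 G) (D : Subgroup G) (hDP : D = P) (y z : G) (hgen : closure {y, z} = D)
    (hcomm : IsMulCommutative D) (hcard : Nat.card D = 9) (hexp : ∀ a ∈ D, a ^ 3 = 1)
    (eN : normalizer (D : Set G) ⧸ D.subgroupOf (normalizer (D : Set G)) ≃*
      DihedralGroup 4 × Multiplicative (ZMod 2))
    (hyn : (D.subgroupOf (centralizer ({y} : Set G))).Normal)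
    (hycard : Nat.card (centralizer ({y} : Set G)) = 36)
    (hysq : ∀ g ∈ centralizer ({y} : Set G), g ^ 2 ∈ D)
    (Ny : Subgroup G) (hNy : Ny = normalizer (zpowers y : Set G)) (hyNsq : ∀ g ∈ Ny, g ^ 2 ∈ D)
    (eC : centralizer ({z} : Set G) ≃* Multiplicative (ZMod 3) × Perm (Fin 5))
    (eL : normalizer (zpowers z : Set G) ≃* Perm (Fin 3) × Perm (Fin 5)) :
    ∃ C : Cfg G, C.F z0 = z ∧ Dm.map C.F = D ∧ zpowers (C.F y0) = zpowers y := by
  classical
  haveI : Fact (Nat.Prime 3) := ⟨Nat.prime_three⟩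
  have hyD : y ∈ D := hgen ▸ subset_closure (by simp)
  have hzD : z ∈ D := hgen ▸ subset_closure (by simp)
  have hDsmall : ∀ x ∈ D, D ≤ zpowers x → False := fun x hx hle => by
    have h1 := card_le_of_le hle
    rw [hcard, Nat.card_zpowers] at h1
    have := Nat.le_of_dvd (by norm_num) (orderOf_dvd_of_pow_eq_one (hexp x hx))
    omega
  have hyz : y ∉ zpowers z := fun h => hDsmall z hzD (by
    rw [← hgen, closure_le]
    rintro a (rfl | rfl)
    · exact h
    · exact mem_zpowers _)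
  have hz1 : z ≠ 1 := fun h => hDsmall y hyD (by
    rw [← hgen, closure_le]
    rintro a (rfl | rfl)
    · exact mem_zpowers _
    · rw [h]; exact one_mem _)
  have hDcomm : ∀ a ∈ D, ∀ b ∈ D, a * b = b * a := fun a ha b hb =>
    congrArg Subtype.val (hcomm.is_comm.comm (⟨a, ha⟩ : D) ⟨b, hb⟩)
  set N := normalizer (zpowers z : Set G) with hN
  have hmemN : ∀ g : G, (g * z * g⁻¹ = z ∨ g * z * g⁻¹ = z⁻¹) → g ∈ N := fun g h => by
    rw [hN, mem_normalizer_iff_map_conj_eq, MonoidHom.map_zpowers]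
    rcases h with h | h
    · exact congrArg zpowers h
    · exact (congrArg zpowers h).trans zpowers_inv
  have hDN : D ≤ N := fun d hd => hmemN d (Or.inl (by rw [hDcomm d hd z hzD, mul_inv_cancel_right]))
  set F0 : LL →* G := N.subtype.comp eL.symm.toMonoidHom with hF0
  have hF0inj : Function.Injective F0 := N.subtype_injective.comp eL.symm.injective
  have hF0range : F0.range = N := by
    rw [hF0, MonoidHom.range_comp, MonoidHom.range_eq_top.2 eL.symm.surjective, ← MonoidHom.range_eq_map,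
      range_subtype]
  obtain ⟨p, hp⟩ : z ∈ F0.range := hF0range ▸ hDN hzD
  have hp3 : p * p * p = 1 := hF0inj (by rw [map_mul, map_mul, map_one, hp, ← hexp z hzD, pow_succ, pow_two])
  have hp1 : p ≠ 1 := fun e => hz1 (by rw [← hp, e, map_one])
  have hpn : ∀ q : LL, q * p * q⁻¹ = p ∨ q * p * q⁻¹ = p * p := by
    intro q
    have hq : F0 q ∈ N := hF0range ▸ ⟨q, rfl⟩
    have h1 := (mem_normalizer_iff.1 hq z).1 (mem_zpowers z)
    obtain ⟨k, hk, e⟩ := Finset.mem_image.1 (mem_zpowers_iff_mem_range_orderOf.1 h1)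
    rw [Finset.mem_range, orderOf_eq_prime (hexp z hzD) hz1] at hk
    rw [← hp, ← map_inv, ← map_mul, ← map_mul, ← map_pow] at e
    have e' := hF0inj e
    interval_cases k
    · rw [pow_zero] at e'; exact absurd (conj_eq_one_iff.1 e'.symm) hp1
    · rw [pow_one] at e'; exact Or.inl e'.symm
    · rw [pow_two] at e'; exact Or.inr e'.symm
  obtain ⟨hp2, hp1'⟩ := normal_three p hp3 hp1 hpn
  obtain ⟨σ, hσ⟩ := flip_three p.1 hp1'
  -- the image of `D`
  set F1 : LL →* G := F0.comp (MulAut.conj ((σ⁻¹, 1) : LL)).toMonoidHom with hF1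
  have hF1inj : Function.Injective F1 := hF0inj.comp (MulAut.conj _).injective
  have hF1range : F1.range = N := by
    rw [hF1, MonoidHom.range_comp, MonoidHom.range_eq_top.2 (MulAut.conj ((σ⁻¹, 1) : LL)).surjective,
      ← MonoidHom.range_eq_map, hF0range]
  have hF1z : F1 z0 = z := by
    rw [← hp]
    show F0 ((σ⁻¹, 1) * z0 * (σ⁻¹, 1)⁻¹) = F0 p
    congr 1
    refine Prod.ext ?_ (by simp [z0, hp2])
    show σ⁻¹ * c3 * σ⁻¹⁻¹ = p.1
    rw [← hσ]; group
  obtain ⟨q, hq⟩ : y ∈ F1.range := hF1range ▸ hDN hyD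
  have hqz : q * z0 = z0 * q := hF1inj (by rw [map_mul, map_mul, hq, hF1z, hDcomm y hyD z hzD])
  have hq3 : q * q * q = 1 := hF1inj (by rw [map_mul, map_mul, map_one, hq, ← hexp y hyD, pow_succ, pow_two])
  have hq1 : q.1 ∈ P3 := (comm_z0 q).1 hqz
  have hq2 : q.2 ≠ 1 := fun e => hyz (by
    have : q ∈ zpowers z0 := by
      simp only [P3, List.mem_cons, List.not_mem_nil, or_false] at hq1
      rcases hq1 with r | r | r
      · rw [show q = 1 from Prod.ext r e]; exact one_mem _
      · rw [show q = z0 from Prod.ext r e]; exact mem_zpowers _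
      · rw [show q = z0 * z0 from Prod.ext r (by rw [e]; simp [z0])]
        exact mul_mem (mem_zpowers _) (mem_zpowers _)
    obtain ⟨k, hk⟩ := mem_zpowers_iff.1 this
    exact mem_zpowers_iff.2 ⟨k, by rw [← hF1z, ← map_zpow, hk, hq]⟩)
  obtain ⟨π, hπ⟩ := five_three q.2 (by simpa using congrArg Prod.snd hq3) hq2
  obtain ⟨F2, hF2inj, hF2range, hF2z, hF2y⟩ : ∃ F : LL →* G, Function.Injective F ∧ F.range = N ∧
      F z0 = z ∧ F (q.1, w5) = y := by
    refine ⟨F1.comp (MulAut.conj ((1, π⁻¹) : LL)).toMonoidHom, hF1inj.comp (MulAut.conj _).injective, ?_, ?_, ?_⟩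
    · rw [MonoidHom.range_comp, MonoidHom.range_eq_top.2 (MulAut.conj ((1, π⁻¹) : LL)).surjective,
        ← MonoidHom.range_eq_map, hF1range]
    · rw [← hF1z]
      show F1 ((1, π⁻¹) * z0 * (1, π⁻¹)⁻¹) = F1 z0
      congr 1
      exact Prod.ext (by simp [z0]) (by simp [z0])
    · rw [← hq]
      show F1 ((1, π⁻¹) * (q.1, w5) * (1, π⁻¹)⁻¹) = F1 q
      congr 1
      refine Prod.ext (by simp) ?_
      show π⁻¹ * w5 * π⁻¹⁻¹ = q.2
      rw [← hπ]; group
  have hmap : ∀ F : LL →* G, Function.Injective F → F z0 = z → (∃ a ∈ P3, F (a, w5) = y) →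
      Dm.map F = D := by
    rintro F hF hFz ⟨a, ha, hFy⟩
    have hFw : F w0 ∈ D := by
      have : w0 = ((a, 1) : LL)⁻¹ * (a, w5) := Prod.ext (by simp [w0]) (by simp [w0])
      rw [this, map_mul, map_inv, hFy]
      refine mul_mem (inv_mem ?_) hyD
      simp only [P3, List.mem_cons, List.not_mem_nil, or_false] at ha
      rcases ha with rfl | rfl | rfl
      · exact (map_one F).symm ▸ one_mem _
      · exact hFz.symm ▸ hzD
      · rw [show ((c3 * c3, 1) : LL) = z0 * z0 from Prod.ext rfl (by simp [z0]), map_mul, hFz]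
        exact mul_mem hzD hzD
    have hle : Dm.map F ≤ D := by
      rintro _ ⟨d, hd, rfl⟩
      rcases Dm_lines d hd with r | r | r | r | r | r | r | r | r <;> subst r
      all_goals
        first
          | (rw [map_one]; exact one_mem _)
          | (have ez : F z0 ∈ D := hFz.symm ▸ hzD
             have key : ∀ b c : ℕ, F (z0 ^ b * w0 ^ c) ∈ D := fun b c => by
               rw [map_mul, map_pow, map_pow]; exact mul_mem (pow_mem ez b) (pow_mem hFw c)
             first
               | exact ez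
               | exact hFw
               | (rw [map_mul]; exact mul_mem ez ez)
               | (rw [map_mul]; exact mul_mem hFw hFw)
               | (convert key 1 1 using 2; decide +kernel)
               | (convert key 2 2 using 2; decide +kernel)
               | (convert key 2 1 using 2; decide +kernel)
               | (convert key 1 2 using 2; decide +kernel))
    refine eq_of_le_of_card_ge hle ?_
    rw [card_map_of_injective hF, hcard, Nat.card_eq_fintype_card, Dm_card]
  have hD2 : Dm.map F2 = D := hmap F2 hF2inj hF2z ⟨q.1, hq1, hF2y⟩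
  -- centraliser orders
  have hzcard : Nat.card (centralizer ({z} : Set G)) = 360 := by
    rw [Nat.card_congr eC.toEquiv, Nat.card_prod, Nat.card_eq_fintype_card, Nat.card_eq_fintype_card,
      Fintype.card_multiplicative, ZMod.card, Fintype.card_perm, Fintype.card_fin]
    rfl
  have hzz : ∀ x, (x = z ∨ x = z⁻¹) → Nat.card (centralizer ({x} : Set G)) = 360 := by
    rintro x (rfl | rfl)
    · exact hzcard
    · rw [centralizer_inv_eq]; exact hzcard
  have hNcard : Nat.card (normalizer (D : Set G)) = 144 := by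
    rw [card_eq_card_quotient_mul_card_subgroup (D.subgroupOf (normalizer (D : Set G))),
      Nat.card_congr eN.toEquiv, Nat.card_prod, DihedralGroup.nat_card,
      Nat.card_congr (subgroupOfEquivOfLe le_normalizer).toEquiv, hcard]
    simp
  have hDnorm : ∀ q : LL, F2 q ∈ normalizer (D : Set G) → q * z0 * q⁻¹ ∈ Dm ∧ q * w0 * q⁻¹ ∈ Dm := by
    intro q hq
    constructor
    all_goals
      rw [← mem_map_iff_mem hF2inj, map_mul, map_mul, map_inv, hD2]
      refine (mem_normalizer_iff.1 hq _).1 ?_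
      rw [← hD2]
      exact mem_map_of_mem _ (by first | exact Dm_facts.1 | exact Dm_facts.2.1)
  have hnormF : ∀ r : LL, r * z0 * r⁻¹ ∈ Dm → r * w0 * r⁻¹ ∈ Dm → F2 r ∈ normalizer (D : Set G) := by
    intro r h1 h2
    rw [mem_normalizer_iff_map_conj_eq]
    refine eq_of_le_of_card_ge ?_ (by rw [card_map_of_injective (MulAut.conj _).injective])
    rintro _ ⟨x, hx, rfl⟩
    obtain ⟨d, hd, rfl⟩ : x ∈ Dm.map F2 := hD2.symm ▸ hx
    show F2 r * F2 d * (F2 r)⁻¹ ∈ D
    rw [← map_inv, ← map_mul, ← map_mul, ← hD2]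
    refine mem_map_of_mem _ ?_
    obtain ⟨i, j, rfl⟩ : ∃ i j : Fin 3, d = z0 ^ (i : ℕ) * w0 ^ (j : ℕ) := Dm_gen d hd
    rw [show r * (z0 ^ (i : ℕ) * w0 ^ (j : ℕ)) * r⁻¹ = (r * z0 ^ (i : ℕ) * r⁻¹) * (r * w0 ^ (j : ℕ) * r⁻¹)
      by group, ← conj_pow, ← conj_pow]
    exact mul_mem (pow_mem h1 _) (pow_mem h2 _)
  have hq1' : q.1 ≠ 1 := by
    intro e
    rw [e] at hF2y
    have hy' : F2 w0 = y := hF2y
    set ND := normalizer (D : Set G) with hND
    have hK : Nat.card (ND ⊓ N : Subgroup G) = 72 := by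
      rw [← norm_D_card, ← Nat.card_eq_fintype_card]
      refine (Nat.card_eq_of_bijective
        (fun r : {r : LL // r * z0 * r⁻¹ ∈ Dm ∧ r * w0 * r⁻¹ ∈ Dm} =>
          (⟨F2 r, mem_inf.2 ⟨hnormF _ r.2.1 r.2.2, hF2range ▸ ⟨_, rfl⟩⟩⟩ : (ND ⊓ N : Subgroup G))) ?_).symm
      refine ⟨fun a b h => Subtype.ext (hF2inj (Subtype.ext_iff.1 h)), fun x => ?_⟩
      obtain ⟨r, hr⟩ : (x : G) ∈ F2.range := (le_of_eq hF2range.symm) (mem_inf.1 x.2).2
      exact ⟨⟨r, hDnorm r (hr ▸ (mem_inf.1 x.2).1)⟩, Subtype.ext hr⟩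
    obtain ⟨g, hgD, hgN⟩ : ∃ g ∈ ND, g ∉ N := by
      by_contra hne
      push Not at hne
      rw [inf_of_le_left (show ND ≤ N from hne), hNcard] at hK
      norm_num at hK
    have hnorm : ((ND ⊓ N).subgroupOf ND).Normal := Subgroup.normal_of_index_eq_two (by
      have h := ((ND ⊓ N).subgroupOf ND).card_mul_index
      rw [Nat.card_congr (subgroupOfEquivOfLe inf_le_left).toEquiv, hK, hNcard] at h
      omega)
    have hjD : F2 j0 ∈ ND := hnormF _ (by decide +kernel) (by decide +kernel)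
    have hjN : F2 j0 ∈ N := hF2range ▸ ⟨_, rfl⟩
    have hc : g⁻¹ * F2 j0 * g ∈ N := by
      have := (mem_inf.1 (mem_subgroupOf.1 (hnorm.conj_mem ⟨F2 j0, hjD⟩
        (mem_subgroupOf.2 (mem_inf.2 ⟨hjD, hjN⟩)) ⟨g⁻¹, inv_mem hgD⟩))).2
      simpa using this
    obtain ⟨d, hd, hdz⟩ : g * z * g⁻¹ ∈ Dm.map F2 := hD2.symm ▸ (mem_normalizer_iff.1 hgD z).1 hzD
    have hz3 : z * z = z⁻¹ :=
      (inv_eq_of_mul_eq_one_right (by rw [← mul_assoc, ← hexp z hzD, pow_succ, pow_two])).symm
    have hh : (g⁻¹ * F2 j0 * g) * z * (g⁻¹ * F2 j0 * g)⁻¹ = z ∨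
        (g⁻¹ * F2 j0 * g) * z * (g⁻¹ * F2 j0 * g)⁻¹ = z * z := by
      have h1 := (mem_normalizer_iff.1 hc z).1 (mem_zpowers z)
      obtain ⟨k, hk, e'⟩ := Finset.mem_image.1 (mem_zpowers_iff_mem_range_orderOf.1 h1)
      rw [Finset.mem_range, orderOf_eq_prime (hexp z hzD) hz1] at hk
      interval_cases k
      · rw [pow_zero] at e'; exact absurd (conj_eq_one_iff.1 e'.symm) hz1
      · rw [pow_one] at e'; exact Or.inl e'.symm
      · rw [pow_two] at e'; exact Or.inr e'.symm
    have hd' : j0 * d * j0 = d ∨ j0 * d * j0 = d * d := by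
      have ee : F2 j0 * F2 d * (F2 j0)⁻¹ = g * ((g⁻¹ * F2 j0 * g) * z * (g⁻¹ * F2 j0 * g)⁻¹) * g⁻¹ := by
        rw [hdz]; group
      have ej : j0⁻¹ = j0 := inv_eq_of_mul_eq_one_right rel_facts.2.2.2.2.2.2.2.2.2.2.2.2.2.2.2.2.2.2.2
      rcases hh with h | h
      · left
        apply hF2inj
        rw [h, ← hdz, ← map_inv, ← map_mul, ← map_mul, ej] at ee
        exact ee
      · right
        apply hF2inj
        rw [h, show g * (z * z) * g⁻¹ = (g * z * g⁻¹) * (g * z * g⁻¹) by group, ← hdz, ← map_inv,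
          ← map_mul, ← map_mul, ej, ← map_mul] at ee
        exact ee
    have h360 : Nat.card (centralizer ({F2 d} : Set G)) = 360 := by rw [hdz, card_cent_conj, hzcard]
    have hgz : ∀ x, (x = z ∨ x = z⁻¹) → g * z * g⁻¹ ≠ x := fun x hx e' =>
      hgN (hmemN g (by rcases hx with rfl | rfl; exacts [Or.inl e', Or.inr e']))
    rcases flip_lines d hd hd' with r | r | r | r | r <;> subst r
    · rw [map_one] at hdz; exact hz1 (conj_eq_one_iff.1 hdz.symm)
    · exact hgz z (Or.inl rfl) (by rw [← hdz, hF2z])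
    · exact hgz _ (Or.inr rfl) (by rw [← hdz, map_mul, hF2z, hz3])
    · rw [hy'] at h360; omega
    · have hy3 : y * y = y⁻¹ :=
        (inv_eq_of_mul_eq_one_right (by rw [← mul_assoc, ← hexp y hyD, pow_succ, pow_two])).symm
      rw [map_mul, hy', hy3, centralizer_inv_eq] at h360; omega
  -- adjust the diagonal element
  have hz3 : ∀ x ∈ D, x * x = x⁻¹ := fun x hx =>
    (inv_eq_of_mul_eq_one_right (by rw [← mul_assoc, ← hexp x hx, pow_succ, pow_two])).symm
  obtain ⟨F3, hF3inj, hF3range, hF3z, hF3y⟩ : ∃ F : LL →* G, Function.Injective F ∧ F.range = N ∧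
      F z0 = z ∧ (F y0 = y ∨ F y0 = y⁻¹) := by
    simp only [P3, List.mem_cons, List.not_mem_nil, or_false] at hq1
    rcases hq1 with r | r | r
    · exact absurd r hq1'
    · exact ⟨F2, hF2inj, hF2range, hF2z, Or.inl (by rw [← hF2y, r]; rfl)⟩
    · refine ⟨F2.comp (MulAut.conj ((1, swap 0 1) : LL)).toMonoidHom, hF2inj.comp (MulAut.conj _).injective,
        ?_, ?_, Or.inr ?_⟩
      · rw [MonoidHom.range_comp, MonoidHom.range_eq_top.2 (MulAut.conj ((1, swap 0 1) : LL)).surjective,
          ← MonoidHom.range_eq_map, hF2range]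
      · rw [← hF2z]
        show F2 ((1, swap 0 1) * z0 * (1, swap 0 1)⁻¹) = F2 z0
        congr 1
        decide +kernel
      · rw [← hz3 y hyD, ← hF2y, ← map_mul, r]
        show F2 ((1, swap 0 1) * y0 * (1, swap 0 1)⁻¹) = _
        congr 1
        decide +kernel
  have hFy : zpowers (F3 y0) = zpowers y := by
    rcases hF3y with h | h <;> rw [h]
    exact zpowers_inv
  have hFy' : centralizer ({F3 y0} : Set G) = centralizer ({y} : Set G) := by
    rcases hF3y with h | h <;> rw [h]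
    exact centralizer_inv_eq y
  have hD3 : Dm.map F3 = D := by
    rcases hF3y with h | h
    · exact hmap F3 hF3inj hF3z ⟨c3, by simp [P3], h⟩
    · refine hmap (F3.comp (MulAut.conj ((1, swap 0 1) : LL)).toMonoidHom)
        (hF3inj.comp (MulAut.conj _).injective) ?_ ⟨c3 * c3, by simp [P3], ?_⟩ |>.symm.trans ?_ |>.symm
      · rw [← hF3z]
        show F3 ((1, swap 0 1) * z0 * (1, swap 0 1)⁻¹) = F3 z0
        congr 1
        decide +kernel
      · show F3 ((1, swap 0 1) * (c3 * c3, w5) * (1, swap 0 1)⁻¹) = y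
        rw [show ((1, swap 0 1) : LL) * (c3 * c3, w5) * (1, swap 0 1)⁻¹ = y0⁻¹ by decide +kernel,
          map_inv, h, inv_inv]
      · rw [← Subgroup.map_map]
        congr 1
        refine eq_of_le_of_card_ge ?_ (by rw [card_map_of_injective (MulAut.conj ((1, swap 0 1) : LL)).injective])
        rintro _ ⟨d, hd, rfl⟩
        exact flipDm d hd
  have hnN : ∀ q : LL, F3 q ∈ N := fun q => hF3range ▸ ⟨q, rfl⟩
  have hycent : centralizer ({F3 y0} : Set G) = centralizer ({y} : Set G) := hFy'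
  have hysq' : ∀ g : G, g * F3 y0 * g⁻¹ ∈ zpowers (F3 y0) → g * g ∈ Dm.map F3 := by
    intro g hg
    rw [hD3, ← pow_two]
    refine hyNsq g ?_
    rw [hNy, mem_normalizer_iff_map_conj_eq, ← hFy]
    refine eq_of_le_of_card_ge ?_ (by rw [card_map_of_injective (MulAut.conj g).injective])
    rw [MonoidHom.map_zpowers, zpowers_le]
    exact hg
  have hynorm : ∀ g : G, g * F3 y0 = F3 y0 * g → ∀ d ∈ Dm.map F3, g * d * g⁻¹ ∈ Dm.map F3 := by
    intro g hg d hd
    have hgC : g ∈ centralizer ({y} : Set G) := hFy' ▸ mem_centralizer_singleton_iff.2 hg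
    rw [hD3] at hd ⊢
    have hdC : d ∈ centralizer ({y} : Set G) := mem_centralizer_singleton_iff.2 (hDcomm d hd y hyD)
    have h := hyn.conj_mem ⟨d, hdC⟩ (mem_subgroupOf.2 hd) ⟨g, hgC⟩
    exact mem_subgroupOf.1 h
  have hY36 : Nat.card (centralizer ({F3 y0} : Set G)) = 36 := by rw [hFy']; exact hycard
  -- an element exchanging the two lines
  obtain ⟨c, hcy, hcN⟩ : ∃ c, c * F3 y0 = F3 y0 * c ∧ c ∉ N := by
    by_contra hne
    push Not at hne
    have hall : ∀ c : centralizer ({F3 y0} : Set G), ∃ q : LL, F3 q = c ∧ q * y0 = y0 * q := fun c => by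
      obtain ⟨q, hq⟩ : (c : G) ∈ F3.range :=
        (le_of_eq hF3range.symm) (hne c (mem_centralizer_singleton_iff.1 c.2))
      refine ⟨q, hq, hF3inj ?_⟩
      rw [map_mul, map_mul, hq]
      exact mem_centralizer_singleton_iff.1 c.2
    choose f hf hfy using hall
    have h := Nat.card_le_card_of_injective
      (fun c => (⟨f c, hfy c⟩ : {q : LL // q * y0 = y0 * q})) fun a b e => by
        have e' : f a = f b := congrArg Subtype.val e
        exact Subtype.ext (by rw [← hf a, ← hf b, e'])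
    rw [hY36, Nat.card_eq_fintype_card, cent_y_card] at h
    omega
  have hcD : ∀ d ∈ D, c * d * c⁻¹ ∈ D := fun d hd => hD3 ▸ hynorm c hcy d (hD3.symm ▸ hd)
  set z' := F3 z0 with hz'
  set w' := F3 w0 with hw'
  have hwD : w' ∈ D := hD3 ▸ mem_map_of_mem _ Dm_facts.2.1
  have hz360 : Nat.card (centralizer ({z'} : Set G)) = 360 := (congrArg (fun x => Nat.card (centralizer ({x} : Set G))) hF3z).trans hzcard
  have hy36 : ∀ d, (d = y0 ∨ d = y0 * y0 ∨ d = j0 * y0 * j0 ∨ d = j0 * (y0 * y0) * j0) →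
      Nat.card (centralizer ({F3 d} : Set G)) = 36 := by
    have e2 : F3 (y0 * y0) = (F3 y0)⁻¹ := by
      rw [map_mul]; exact hz3 _ (hD3 ▸ mem_map_of_mem _ Dm_facts.2.2.1)
    have ec : ∀ r d : LL, Nat.card (centralizer ({F3 (r * d * r⁻¹)} : Set G)) =
        Nat.card (centralizer ({F3 d} : Set G)) := fun r d => by
      rw [map_mul, map_mul, map_inv, card_cent_conj]
    rintro d (rfl | rfl | rfl | rfl)
    · exact hY36
    · rw [e2, centralizer_inv_eq]; exact hY36
    · rw [show j0 * y0 * j0 = j0 * y0 * j0⁻¹ by decide +kernel, ec]; exact hY36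
    · rw [show j0 * (y0 * y0) * j0 = j0 * (y0 * y0) * j0⁻¹ by decide +kernel, ec, e2, centralizer_inv_eq]
      exact hY36
  have hline : ∀ x ∈ Dm.map F3, Nat.card (centralizer ({x} : Set G)) = 360 → x ≠ 1 →
      x ∈ [z', z' * z', w', w' * w'] := by
    rintro _ ⟨d, hd, rfl⟩ h h1
    rcases Dm_lines d hd with r | r | r | r | r | r
    · exact absurd (r ▸ map_one F3) h1
    · simp [r, hz']
    · simp [r, hz']
    · simp [r, hw']
    · simp [r, hw']
    · rw [hy36 d r] at h; omega
  have hz'z : z' = z := hF3z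
  have hz'D : z' ∈ D := hz'z ▸ hzD
  have hzmem : z' ∈ Dm.map F3 := mem_map_of_mem _ Dm_facts.1
  have hcz : c * z' * c⁻¹ = w' ∨ c * z' * c⁻¹ = w' * w' := by
    have h := hline _ (hynorm c hcy _ hzmem) (by rw [card_cent_conj, hz360])
      (fun e => hz1 (hF3z ▸ conj_eq_one_iff.1 e))
    simp only [List.mem_cons, List.not_mem_nil, or_false] at h
    have hzz' : z' * z' = z'⁻¹ := hz3 z' hz'D
    rcases h with e | e | e | e
    · exact absurd (hmemN c (Or.inl (by rw [← hz'z]; exact e))) hcN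
    · exact absurd (hmemN c (Or.inr (by rw [← hz'z]; exact e.trans hzz'))) hcN
    · exact Or.inl e
    · exact Or.inr e
  have hyzw : F3 y0 = z' * w' := by rw [hz', hw', ← map_mul]; exact congrArg F3 (by decide +kernel)
  -- `c` exchanges `z` and `w`
  have hcw : c * z' * c⁻¹ = w' ∧ c * w' * c⁻¹ = z' := by
    have h1 : c * z' * c⁻¹ * (c * w' * c⁻¹) = z' * w' := by
      rw [← hyzw]
      calc c * z' * c⁻¹ * (c * w' * c⁻¹) = c * (z' * w') * c⁻¹ := by group
        _ = _ := by rw [← hyzw, hcy, mul_inv_cancel_right]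
    have hcomm' := hDcomm w' hwD z' hz'D
    rcases hcz with e | e
    · refine ⟨e, mul_left_cancel (a := w') ?_⟩
      rw [e] at h1
      rw [h1, hcomm']
    · exfalso
      have hd : c * w' * c⁻¹ = F3 (z0 * w0 * w0) := by
        refine mul_left_cancel (a := w' * w') ?_
        rw [e] at h1
        rw [h1, hz', hw', ← map_mul, ← map_mul, ← map_mul]
        congr 1
        decide +kernel
      have h := congrArg (fun x => Nat.card (centralizer ({x} : Set G))) hd
      simp only [card_cent_conj] at h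
      rw [hy36 (z0 * w0 * w0) (Or.inr (Or.inr (Or.inr (by decide +kernel))))] at h
      have hwz : Nat.card (centralizer ({w'} : Set G)) = 360 := by
        have hw2 : w' * w' = w'⁻¹ := hz3 w' hwD
        rw [← hz360, ← card_cent_conj c z', e, hw2, centralizer_inv_eq]
      omega
  obtain ⟨hc1, hc2⟩ := hcw
  have hc2D : c * c ∈ D := by
    rw [← pow_two]
    exact hysq c (hFy' ▸ mem_centralizer_singleton_iff.2 hcy)
  have hcc : ∀ d ∈ D, c * c * d * (c * c)⁻¹ = d := fun d hd => by
    rw [hDcomm _ hc2D _ hd, mul_inv_cancel_right]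
  set s := c * c * c with hs
  have hs6 : s * s = 1 := by
    have h := hexp _ hc2D
    rw [hs, show c * c * c * (c * c * c) = (c * c) ^ 3 by simp only [pow_succ, pow_zero]; group, h]
  have hsinv := inv_of_sq hs6
  have hsz : s * z' * s = w' := by
    conv_lhs => arg 2; rw [← hsinv]
    calc c * c * c * z' * (c * c * c)⁻¹ = c * c * (c * z' * c⁻¹) * (c * c)⁻¹ := by group
      _ = w' := by rw [hc1, hcc _ hwD]
  have hsw : s * w' * s = z' := by
    rw [← hsz]
    calc s * (s * z' * s) * s = (s * s) * z' * (s * s) := by group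
      _ = z' := by rw [hs6, one_mul, mul_one]
  have hcent : ∀ x : G, x * z' = z' * x → ∃ q, F3 q = x ∧ q * z0 = z0 * q := by
    intro x hx
    obtain ⟨q, hq⟩ : x ∈ F3.range := (le_of_eq hF3range.symm) (hmemN x (Or.inl (by
      rw [← hz'z, hx, mul_inv_cancel_right])))
    exact ⟨q, hq, hF3inj (by rw [map_mul, map_mul, hq]; exact hx)⟩
  have hsconj : ∀ a b : G, s * (a * b) * s = (s * a * s) * (s * b * s) := fun a b => by
    calc s * (a * b) * s = s * a * 1 * b * s := by group
      _ = s * a * (s * s) * b * s := by rw [hs6]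
      _ = _ := by group
  have hF3m : ∀ a b : LL, a * b = b * a → F3 a * F3 b = F3 b * F3 a := fun a b h => by
    rw [← map_mul, ← map_mul, h]
  have hcommS : ∀ a b : G, a * b = b * a → (s * a * s) * (s * b * s) = (s * b * s) * (s * a * s) :=
    fun a b h => by rw [← hsconj, ← hsconj, h]
  -- `s` centralises `t`
  have hst : s * F3 t0 * s = F3 t0 := by
    have h1 : (s * F3 t0 * s) * z' = z' * (s * F3 t0 * s) := by
      rw [← hsw]; exact hcommS _ _ (hF3m _ _ (by decide +kernel))
    have h2 : (s * F3 t0 * s) * w' = w' * (s * F3 t0 * s) := by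
      rw [← hsz]; exact hcommS _ _ (hF3m _ _ (by decide +kernel))
    obtain ⟨q, hq, hqz⟩ := hcent _ h1
    rw [← hq]
    congr 1
    refine cent_D_invol q hqz (hF3inj (by rw [map_mul, map_mul, hq]; exact h2)) ?_ ?_
    · apply hF3inj
      rw [map_mul, map_one, hq, ← hsconj, ← map_mul, rel_facts.2.1, map_one, mul_one, hs6]
    · intro e
      rw [e, map_one] at hq
      have h := congrArg (fun x => s * x * s) hq
      simp only [mul_one, hs6] at h
      rw [show s * (s * F3 t0 * s) * s = (s * s) * F3 t0 * (s * s) by group, hs6, one_mul, mul_one] at h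
      exact rel_facts.2.2.2.2.2.2.2.2.2.2.2.2.2.2.2.1 (hF3inj (h.symm.trans (map_one F3).symm))
  -- the image of the reflection
  have h1 : (s * F3 tau0 * s) * w' = w' * (s * F3 tau0 * s) := by
    rw [← hsz]; exact hcommS _ _ (hF3m _ _ (by decide +kernel))
  have h2 : (s * F3 tau0 * s) * z' * (s * F3 tau0 * s) = z' * z' := by
    rw [← hsw, ← hsconj, ← hsconj, ← hsconj, hw', ← map_mul, ← map_mul, rel_facts.2.2.2.2.2.2.1,
      map_mul]
  obtain ⟨q, hq⟩ : s * F3 tau0 * s ∈ F3.range := (le_of_eq hF3range.symm) (hmemN _ (Or.inr (by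
    have hi : (s * F3 tau0 * s) * (s * F3 tau0 * s) = 1 := by
      rw [← hsconj, ← map_mul, rel_facts.1, map_one, mul_one, hs6]
    rw [inv_of_sq hi, ← hz'z, h2]
    exact hz3 z' hz'D)))
  obtain ⟨a, ha, hqa⟩ := swap_tau q (hF3inj (by
      rw [map_mul, map_one, hq, ← hsconj, ← map_mul, rel_facts.1, map_one, mul_one, hs6]))
    (hF3inj (by
      rw [map_mul, map_mul, hq, ← hst, ← hsconj, ← hsconj]
      exact congrArg (fun x => s * x * s) (hF3m _ _ rel_facts.2.2.2.1)))
    (hF3inj (by rw [map_mul, map_mul, hq]; exact h1))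
    (hF3inj (by rw [map_mul, map_mul, map_mul, hq]; exact h2))
  set v : LL := (a, 1) with hv
  have hvfix : ∀ x ∈ [z0, w0, t0, tau0, y0], v⁻¹ * x * v = x := small_fix a ha
  set F4 : LL →* G := F3.comp (MulAut.conj v⁻¹).toMonoidHom with hF4
  have hF4val : ∀ x : LL, F4 x = F3 (v⁻¹ * x * v) := fun x => by
    show F3 (v⁻¹ * x * v⁻¹⁻¹) = _
    rw [inv_inv]
  have hfix : ∀ x ∈ [z0, w0, t0, tau0, y0], F4 x = F3 x := fun x hx => by rw [hF4val, hvfix x hx]
  have hF4range : F4.range = F3.range := by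
    rw [hF4, MonoidHom.range_comp, MonoidHom.range_eq_top.2 (MulAut.conj v⁻¹).surjective,
      ← MonoidHom.range_eq_map]
  have hD4 : Dm.map F4 = Dm.map F3 := by
    rw [hF4, ← Subgroup.map_map]
    congr 1
    refine eq_of_le_of_card_ge ?_ (by rw [card_map_of_injective (MulAut.conj v⁻¹).injective])
    rintro _ ⟨d, hd, rfl⟩
    show v⁻¹ * d * v⁻¹⁻¹ ∈ Dm
    have hvD : v ∈ Dm := ⟨ha, by simp [hv, P5]⟩
    rw [inv_inv]
    exact mul_mem (mul_mem (inv_mem hvD) hd) hvD
  refine ⟨⟨F4, hF3inj.comp (MulAut.conj v⁻¹).injective, ?_, s, hs6, ?_, ?_,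
    decide (v * q * v⁻¹ = jt0), ?_, ?_, ?_, ?_, ?_⟩, ?_, ?_, ?_⟩
  · rw [hfix z0 (by simp), hF4range, hF3range, hN, ← hz'z]
  · rw [hfix z0 (by simp), hfix w0 (by simp)]; exact hsz
  · rw [hfix t0 (by simp)]; exact hst
  · rw [hfix tau0 (by simp), ← hq, hF4val]
    congr 1
    by_cases hjt : v * q * v⁻¹ = jt0
    · rw [decide_eq_true hjt, Bool.cond_true, ← hjt]; group
    · rw [decide_eq_false hjt, Bool.cond_false, ← hqa.resolve_right hjt]; group
  · rw [hfix y0 (by simp)]; exact hY36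
  · rw [hfix y0 (by simp), hD4]; exact hysq'
  · rw [hfix y0 (by simp), hD4]; exact hynorm
  · intro h27
    obtain ⟨Q, hQ⟩ := Sylow.exists_subgroup_card_pow_prime 3 (G := G) (n := 3) h27
    obtain ⟨R, hR⟩ := (IsPGroup.of_card hQ).exists_le_sylow
    have h := card_le_of_le hR
    rw [hQ, Nat.card_congr (Sylow.equiv R P).toEquiv, ← hDP, hcard] at h
    norm_num at h
  · rw [hfix z0 (by simp)]; exact hF3z
  · rw [hD4, hD3]
  · rw [hfix y0 (by simp)]; exact hFy

end Create

end Cfsg.Agent.S8Three
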