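import Cfsg.Agent.Lib.S8Three.Basic
import Cfsg.Agent.Lib.Recog.NineS6

/-!
The centraliser of `t` is the normaliser of `D`, or it is `⟨t⟩` extended by `Sym(6)`.
-/

set_option autoImplicit false
set_option linter.style.haveILetI false
set_option maxRecDepth 20000

namespace Cfsg.Agent.S8Three

open Equiv Subgroup

namespace Cfg

variable {G : Type*} [Group G] [Finite G] (C : Cfg G)
include C

theorem card_cent_z : Nat.card (centralizer ({C.F z0} : Set G)) = 360 := by
  rw [← cent_z_card, ← Nat.card_eq_fintype_card]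
  refine (Nat.card_eq_of_bijective (fun q : {q : LL // q * z0 = z0 * q} =>
    (⟨C.F q, mem_centralizer_singleton_iff.2 (C.F_comm.2 q.2)⟩ : centralizer ({C.F z0} : Set G))) ?_).symm
  refine ⟨fun a b h => Subtype.ext (C.F_inj (Subtype.ext_iff.1 h)), fun x => ?_⟩
  obtain ⟨q, hq, hqz⟩ := C.mem_cent_z (mem_centralizer_singleton_iff.1 x.2)
  exact ⟨⟨q, hqz⟩, Subtype.ext hq⟩

theorem card_cent_w : Nat.card (centralizer ({C.F w0} : Set G)) = 360 := by
  rw [← C.sz, ← C.card_cent_z]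
  rw [show C.s * C.F z0 * C.s = C.s * C.F z0 * C.s⁻¹ by rw [inv_of_sq C.ss]]
  exact card_cent_conj _ _

theorem card_cent_y {d : LL} (hd : d = y0 ∨ d = y0 * y0 ∨ d = j0 * y0 * j0 ∨ d = j0 * (y0 * y0) * j0) :
    Nat.card (centralizer ({C.F d} : Set G)) = 36 := by
  have e2 : C.F (y0 * y0) = (C.F y0)⁻¹ := by
    refine (inv_eq_of_mul_eq_one_right ?_).symm
    rw [map_mul, ← mul_assoc]
    simpa [pow_succ] using C.cube (mem_map_of_mem _ Dm_facts.2.2.1)
  have ec : ∀ r d : LL, Nat.card (centralizer ({C.F (r * d * r⁻¹)} : Set G)) =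
      Nat.card (centralizer ({C.F d} : Set G)) := fun r d => by
    rw [map_mul, map_mul, map_inv, card_cent_conj]
  rcases hd with rfl | rfl | rfl | rfl
  · exact C.ycard
  · rw [e2, centralizer_inv_eq]; exact C.ycard
  · rw [show j0 * y0 * j0 = j0 * y0 * j0⁻¹ by decide +kernel, ec]; exact C.ycard
  · rw [show j0 * (y0 * y0) * j0 = j0 * (y0 * y0) * j0⁻¹ by decide +kernel, ec, e2, centralizer_inv_eq]
    exact C.ycard

/-- The normaliser of `D` is the centraliser of `t0` in the chart and its translate by `s`. -/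
theorem normD {g : G} (hg : ∀ d ∈ Dm.map C.F, g * d * g⁻¹ ∈ Dm.map C.F) :
    ∃ q, q * t0 = t0 * q ∧ (g = C.F q ∨ g = C.s * C.F q) := by
  have key : ∀ h : G, (∀ d ∈ Dm.map C.F, h * d * h⁻¹ ∈ Dm.map C.F) →
      (h * C.F z0 * h⁻¹ = C.F z0 ∨ h * C.F z0 * h⁻¹ = C.F (z0 * z0)) →
      ∃ q, q * t0 = t0 * q ∧ h = C.F q := by
    intro h hh e
    obtain ⟨q, rfl⟩ : h ∈ C.F.range := by
      rw [C.F_range, mem_normalizer_iff_map_conj_eq, MonoidHom.map_zpowers]
      rcases e with e | e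
      · exact congrArg zpowers e
      · refine (congrArg zpowers e).trans ?_
        rw [show C.F (z0 * z0) = (C.F z0)⁻¹ from (inv_eq_of_mul_eq_one_right (by
          rw [map_mul, ← mul_assoc]
          simpa [pow_succ] using C.cube (mem_map_of_mem _ Dm_facts.1))).symm, zpowers_inv]
    refine ⟨q, norm_comm_t q ?_ ?_, rfl⟩
    all_goals
      rw [← mem_map_iff_mem C.F_inj, map_mul, map_mul, map_inv]
      exact hh _ (mem_map_of_mem _ (by first | exact Dm_facts.1 | exact Dm_facts.2.1))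
  obtain ⟨d, hd, hdz⟩ := hg _ (mem_map_of_mem _ Dm_facts.1)
  have h360 : Nat.card (centralizer ({C.F d} : Set G)) = 360 := by
    rw [hdz, card_cent_conj, C.card_cent_z]
  have hsD : ∀ x ∈ Dm.map C.F, C.s * x * C.s⁻¹ ∈ Dm.map C.F := C.ynorm _ C.s_comm_y
  have hsg : ∀ x ∈ Dm.map C.F, C.s * g * x * (C.s * g)⁻¹ ∈ Dm.map C.F := fun x hx => by
    rw [show C.s * g * x * (C.s * g)⁻¹ = C.s * (g * x * g⁻¹) * C.s⁻¹ by group]
    exact hsD _ (hg x hx)
  have viaS : (C.s * g * C.F z0 * (C.s * g)⁻¹ = C.F z0 ∨ C.s * g * C.F z0 * (C.s * g)⁻¹ = C.F (z0 * z0)) →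
      ∃ q, q * t0 = t0 * q ∧ (g = C.F q ∨ g = C.s * C.F q) := fun e => by
    obtain ⟨q, hq, e'⟩ := key _ hsg e
    exact ⟨q, hq, Or.inr (by rw [← e', ← mul_assoc, C.ss, one_mul])⟩
  have hsconj : C.s * g * C.F z0 * (C.s * g)⁻¹ = C.s * C.F d * C.s := by
    rw [hdz, mul_inv_rev, inv_of_sq C.ss]; group
  rcases Dm_lines d hd with rfl | rfl | rfl | rfl | rfl | h
  · rw [map_one, eq_comm] at hdz
    exact absurd (C.F_inj ((conj_eq_one_iff.1 hdz).trans (map_one C.F).symm)) z_move.1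
  · obtain ⟨q, hq, e⟩ := key g hg (Or.inl hdz.symm); exact ⟨q, hq, Or.inl e⟩
  · obtain ⟨q, hq, e⟩ := key g hg (Or.inr hdz.symm); exact ⟨q, hq, Or.inl e⟩
  · exact viaS (Or.inl (hsconj.trans C.sw))
  · refine viaS (Or.inr (hsconj.trans ?_))
    rw [map_mul, map_mul, C.sconj_mul, C.sw]
  · rw [C.card_cent_y h] at h360; omega

theorem norm_mem {q : LL} (hq : q * t0 = t0 * q) : ∀ d ∈ Dm.map C.F, C.F q * d * (C.F q)⁻¹ ∈ Dm.map C.F := by
  rintro _ ⟨d, hd, rfl⟩
  rw [← map_inv, ← map_mul, ← map_mul]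
  refine mem_map_of_mem _ ?_
  obtain ⟨i, j, rfl⟩ := Dm_gen d hd
  obtain ⟨h1, h2⟩ := comm_t_norm q hq
  rw [show q * (z0 ^ (i : ℕ) * w0 ^ (j : ℕ)) * q⁻¹ = (q * z0 ^ (i : ℕ) * q⁻¹) * (q * w0 ^ (j : ℕ) * q⁻¹)
    by group, ← conj_pow, ← conj_pow]
  exact mul_mem (pow_mem h1 _) (pow_mem h2 _)

theorem norm_mem' {g : G} (hg : ∃ q, q * t0 = t0 * q ∧ (g = C.F q ∨ g = C.s * C.F q)) :
    g ∈ normalizer ((Dm.map C.F : Subgroup G) : Set G) ∧ g * C.F t0 = C.F t0 * g := by
  obtain ⟨q, hq, e⟩ := hg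
  have key : ∀ h : G, (∀ d ∈ Dm.map C.F, h * d * h⁻¹ ∈ Dm.map C.F) →
      h ∈ normalizer ((Dm.map C.F : Subgroup G) : Set G) := fun h hh => by
    rw [mem_normalizer_iff_map_conj_eq]
    refine eq_of_le_of_card_ge ?_ (Nat.card_congr (Subgroup.equivMapOfInjective _ (MulAut.conj h).toMonoidHom (MulAut.conj h).injective).toEquiv).le
    rintro _ ⟨x, hx, rfl⟩
    exact hh x hx
  rcases e with rfl | rfl
  · exact ⟨key _ (C.norm_mem hq), C.F_comm.2 hq⟩
  · exact ⟨mul_mem (key _ (C.ynorm _ C.s_comm_y)) (key _ (C.norm_mem hq)),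
      (Commute.mul_left C.s_comm_t (C.F_comm.2 hq)).eq⟩

theorem card_normD : Nat.card (normalizer ((Dm.map C.F : Subgroup G) : Set G)) = 144 := by
  have e : Nat.card (Bool × {q : LL // q * t0 = t0 * q}) = 144 := by
    rw [Nat.card_prod, Nat.card_eq_fintype_card, Nat.card_eq_fintype_card, comm_t_card]; rfl
  rw [← e]
  refine (Nat.card_eq_of_bijective (fun p : Bool × {q : LL // q * t0 = t0 * q} =>
    (⟨(bif p.1 then C.s else 1) * C.F p.2, (C.norm_mem' ⟨p.2, p.2.2, by
      cases p.1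
      · exact Or.inl (one_mul _)
      · exact Or.inr rfl⟩).1⟩ : normalizer ((Dm.map C.F : Subgroup G) : Set G))) ?_).symm
  have hs : ∀ a b : LL, a * t0 = t0 * a → b * t0 = t0 * b → C.F a ≠ C.s * C.F b := by
    intro a b ha hb h
    have hm : C.s = C.F (a * b⁻¹) := by rw [map_mul, map_inv, h, mul_inv_cancel_right]
    have hz : C.s * C.F z0 * C.s ∈ zpowers (C.F z0) := by
      rw [show C.s * C.F z0 * C.s = C.s * C.F z0 * C.s⁻¹ by rw [inv_of_sq C.ss], hm]
      have hN : C.F (a * b⁻¹) ∈ normalizer (zpowers (C.F z0) : Set G) := C.F_range ▸ ⟨_, rfl⟩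
      exact (mem_normalizer_iff.1 hN _).1 (mem_zpowers _)
    rw [C.sz] at hz
    rcases mem_zpowers_three (C.cube (mem_map_of_mem _ Dm_facts.1)) hz with e | e | e
    · exact z_move.2.1 (C.F_inj (e.trans (map_one C.F).symm))
    · exact z_move.2.2.2.1 (C.F_inj e)
    · rw [← map_mul] at e; exact z_move.2.2.2.2.1 (C.F_inj e)
  refine ⟨?_, fun x => ?_⟩
  · rintro ⟨b, q⟩ ⟨b', q'⟩ h
    have h' := Subtype.ext_iff.1 h
    cases b <;> cases b' <;> simp only [cond_false, cond_true, one_mul, mul_right_inj] at h'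
    · rw [Subtype.ext (C.F_inj h')]
    · exact absurd h' (hs _ _ q.2 q'.2)
    · exact absurd h'.symm (hs _ _ q'.2 q.2)
    · rw [Subtype.ext (C.F_inj h')]
  · obtain ⟨q, hq, e | e⟩ := C.normD (fun d hd => (mem_normalizer_iff.1 x.2 d).1 hd)
    · exact ⟨(false, ⟨q, hq⟩), Subtype.ext (by simp [e])⟩
    · exact ⟨(true, ⟨q, hq⟩), Subtype.ext (by simp [e])⟩

/-- Either `C(t)` normalises `D`, or it maps onto `Sym(6)` with kernel `⟨t⟩`. -/
theorem dichotomy (ψ : normalizer ((Dm.map C.F : Subgroup G) : Set G) →* DihedralGroup 4)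
    (hψ : Function.Surjective ψ)
    (hker : ∀ x, ψ x = 1 ↔ (x : G) * C.F z0 = C.F z0 * x ∧ (x : G) * C.F w0 = C.F w0 * x) :
    (∀ g : G, g * C.F t0 = C.F t0 * g → ∃ q, q * t0 = t0 * q ∧ (g = C.F q ∨ g = C.s * C.F q)) ∨
      ∃ φ : centralizer ({C.F t0} : Set G) →* Perm (Fin 6), Function.Surjective φ ∧
        ∀ x, φ x = 1 ↔ (x : G) = 1 ∨ (x : G) = C.F t0 := by
  classical
  set t := C.F t0 with ht
  set Ct := centralizer ({t} : Set G) with hCt
  have htt : t * t = 1 := by rw [ht, ← map_mul, rel_facts.2.1, map_one]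
  have ht1 : t ≠ 1 := fun e => rel_facts.2.2.2.2.2.2.2.2.2.2.2.2.2.2.2.1 (C.F_inj (e.trans (map_one C.F).symm))
  have hDt : ∀ d ∈ (Dm.map C.F), d * t = t * d := by
    rintro _ ⟨p, hp, rfl⟩
    exact C.F_comm.2 (Dm_facts.2.2.2.1 p hp).2.2.2.1
  set tC : Ct := ⟨t, mem_centralizer_singleton_iff.2 rfl⟩ with htC
  set T := zpowers tC with hT
  have hTmem : ∀ x : Ct, x ∈ T ↔ (x : G) = 1 ∨ (x : G) = t := by
    intro x
    constructor
    · rintro ⟨k, rfl⟩
      have hk : t ^ k = t ^ (k % 2) := by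
        have h2 : t ^ (2 : ℤ) = 1 := by rw [show (2 : ℤ) = 1 + 1 from rfl, zpow_add, zpow_one, htt]
        conv_lhs => rw [← Int.emod_add_ediv_mul k 2, zpow_add, mul_comm (k / 2) 2, zpow_mul, h2, one_zpow,
          mul_one]
      show ((tC ^ k : Ct) : G) = 1 ∨ ((tC ^ k : Ct) : G) = t
      rw [SubgroupClass.coe_zpow, show (tC : G) = t from rfl, hk]
      rcases (show k % 2 = 0 ∨ k % 2 = 1 by omega) with h | h <;> rw [h] <;> simp
    · rintro (h | h)
      · rw [show x = 1 from Subtype.ext h]; exact one_mem _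
      · rw [show x = tC from Subtype.ext h]; exact mem_zpowers _
  haveI hTn : T.Normal := ⟨fun n hn g => by
    rw [hTmem] at hn ⊢
    rcases hn with h | h
    · left
      rw [Subgroup.coe_mul, Subgroup.coe_mul, h, mul_one]
      exact mul_inv_cancel (g : G)
    · right
      rw [Subgroup.coe_mul, Subgroup.coe_mul, h, mem_centralizer_singleton_iff.1 g.2]
      exact mul_inv_cancel_right _ _⟩
  set π := QuotientGroup.mk' T with hπ
  have hπeq : ∀ a : Ct, π a = 1 ↔ (a : G) = 1 ∨ (a : G) = t := fun a =>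
    (QuotientGroup.eq_one_iff a).trans (hTmem a)
  have hπeq2 : ∀ a b : Ct, π a = π b → (a : G) = b ∨ (a : G) = b * t := by
    intro a b h
    rcases (hπeq (b⁻¹ * a)).1 (by rw [map_mul, map_inv, h, inv_mul_cancel]) with e | e
    · exact Or.inl (inv_mul_eq_one.1 e).symm
    · exact Or.inr (by rw [← e, Subgroup.coe_mul, Subgroup.coe_inv, mul_inv_cancel_left])
  have hlift : ∀ x : Ct, ∀ d ∈ (Dm.map C.F), (∃ e ∈ (Dm.map C.F), (x : G) * d * (x : G)⁻¹ = e ∨ (x : G) * d * (x : G)⁻¹ = e * t) →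
      (x : G) * d * (x : G)⁻¹ ∈ (Dm.map C.F) := by
    rintro x d hd ⟨e, he, h | h⟩
    · rw [h]; exact he
    · exfalso
      have h3 : ((x : G) * d * (x : G)⁻¹) ^ 3 = 1 := by
        rw [conj_pow, C.cube hd, mul_one, mul_inv_cancel]
      rw [h, (show Commute e t from hDt e he).mul_pow, C.cube he, one_mul, pow_succ, pow_two, htt,
        one_mul] at h3
      exact ht1 h3
  have hDC : (Dm.map C.F) ≤ Ct := fun d hd => mem_centralizer_singleton_iff.2 (hDt d hd)
  set S := ((Dm.map C.F).subgroupOf Ct).map π with hS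
  have hSmem : ∀ x, x ∈ S ↔ ∃ d, ∃ hd : d ∈ (Dm.map C.F), π ⟨d, hDC hd⟩ = x := by
    intro x
    constructor
    · rintro ⟨a, ha, rfl⟩
      exact ⟨a, mem_subgroupOf.1 ha, rfl⟩
    · rintro ⟨d, hd, rfl⟩
      exact mem_map_of_mem _ (mem_subgroupOf.2 hd)
  have hScard : Nat.card S = 9 := by
    rw [← C.card_D]
    refine (Nat.card_eq_of_bijective
      (fun d : (Dm.map C.F) => (⟨π ⟨d, hDC d.2⟩, (hSmem _).2 ⟨d, d.2, rfl⟩⟩ : S)) ?_).symm
    refine ⟨fun a b e => ?_, fun x => ?_⟩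
    · rcases hπeq2 _ _ (Subtype.ext_iff.1 e) with h | h
      · exact Subtype.ext h
      · exfalso
        have h3 := C.cube a.2
        simp only at h
        rw [h, (show Commute (b : G) t from hDt _ b.2).mul_pow, C.cube b.2, one_mul, pow_succ, pow_two,
          htt, one_mul] at h3
        exact ht1 h3
    · obtain ⟨d, hd, e⟩ := (hSmem x).1 x.2
      exact ⟨⟨d, hd⟩, Subtype.ext e⟩
  have hcomm_of : ∀ x : Ct, ∀ d, ∀ hd : d ∈ (Dm.map C.F), π x * π ⟨d, hDC hd⟩ = π ⟨d, hDC hd⟩ * π x →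
      (x : G) * d = d * (x : G) := by
    intro x d hd h
    rw [← map_mul, ← map_mul] at h
    rcases hπeq2 _ _ h with e | e
    · exact e
    · exfalso
      have h3 : ((x : G) * d * (x : G)⁻¹) ^ 3 = 1 := by
        rw [conj_pow, C.cube hd, mul_one, mul_inv_cancel]
      simp only [Subgroup.coe_mul] at e
      rw [e, show d * (x : G) * t * (x : G)⁻¹ = d * t by
        rw [mul_assoc d, mem_centralizer_singleton_iff.1 x.2, mul_assoc, mul_assoc t,
          mul_inv_cancel, mul_one],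
        (show Commute d t from hDt d hd).mul_pow, C.cube hd, one_mul, pow_succ, pow_two, htt, one_mul] at h3
      exact ht1 h3
  have hzD : C.F z0 ∈ (Dm.map C.F) := mem_map_of_mem _ Dm_facts.1
  have hwD : C.F w0 ∈ (Dm.map C.F) := mem_map_of_mem _ Dm_facts.2.1
  have hDD : ∀ a ∈ (Dm.map C.F), ∀ b ∈ (Dm.map C.F), a * b = b * a := by
    rintro _ ⟨p, hp, rfl⟩ _ ⟨q, hq, rfl⟩
    exact C.F_comm.2 (Dm_comm hp hq)
  have hCS : centralizer (S : Set (Ct ⧸ T)) = S := by
    refine le_antisymm (fun x hx => ?_) (fun x hx => ?_)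
    · obtain ⟨a, rfl⟩ := QuotientGroup.mk'_surjective T x
      have hc : ∀ d, ∀ hd : d ∈ (Dm.map C.F), (a : G) * d = d * (a : G) := fun d hd =>
        hcomm_of a d hd (mem_centralizer_iff.1 hx _ ((hSmem _).2 ⟨d, hd, rfl⟩)).symm
      obtain ⟨q, hq, hqz⟩ := C.mem_cent_z (hc _ hzD)
      have hqw : q * w0 = w0 * q := C.F_inj (by rw [map_mul, map_mul, hq]; exact hc _ hwD)
      rcases cent_zw q hqz hqw with h | h
      · exact (hSmem _).2 ⟨a, hq ▸ mem_map_of_mem _ h, rfl⟩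
      · have hat : (a : G) * t ∈ (Dm.map C.F) := by rw [← hq, ht, ← map_mul]; exact mem_map_of_mem _ h
        refine (hSmem _).2 ⟨(a : G) * t, hat, ?_⟩
        rw [show (⟨(a : G) * t, hDC hat⟩ : Ct) = a * tC from rfl, map_mul,
          show π tC = 1 from (hπeq tC).2 (Or.inr rfl), mul_one]
    · rw [mem_centralizer_iff]
      intro y hy
      obtain ⟨d, hd, rfl⟩ := (hSmem x).1 hx
      obtain ⟨e, he, rfl⟩ := (hSmem y).1 hy
      rw [← map_mul, ← map_mul]
      exact congrArg π (Subtype.ext (hDD e he d hd))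
  have hNnorm : ∀ a : Ct, π a ∈ normalizer (S : Set (Ct ⧸ T)) →
      (a : G) ∈ normalizer (((Dm.map C.F) : Subgroup G) : Set G) := by
    intro a ha
    rw [mem_normalizer_iff_map_conj_eq]
    refine eq_of_le_of_card_ge ?_ (Nat.card_congr (Subgroup.equivMapOfInjective _ (MulAut.conj (a : G)).toMonoidHom (MulAut.conj (a : G)).injective).toEquiv).le
    rintro _ ⟨d, hd, rfl⟩
    obtain ⟨e, he, h⟩ := (hSmem _).1 ((mem_normalizer_iff.1 ha _).1 ((hSmem _).2 ⟨d, hd, rfl⟩))
    rw [← map_inv, ← map_mul, ← map_mul] at h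
    exact hlift a d hd ⟨e, he, hπeq2 _ _ h.symm⟩
  have hNmem : ∀ x : normalizer (((Dm.map C.F) : Subgroup G) : Set G), ∃ hx : (x : G) ∈ Ct,
      π ⟨x, hx⟩ ∈ normalizer (S : Set (Ct ⧸ T)) := by
    intro x
    have hx := C.norm_mem' (C.normD fun d hd => (mem_normalizer_iff.1 x.2 d).1 hd)
    refine ⟨mem_centralizer_singleton_iff.2 hx.2, ?_⟩
    rw [mem_normalizer_iff_map_conj_eq]
    refine eq_of_le_of_card_ge ?_ (Nat.card_congr (Subgroup.equivMapOfInjective _ (MulAut.conj _).toMonoidHom (MulAut.conj _).injective).toEquiv).le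
    rintro _ ⟨y, hy, rfl⟩
    obtain ⟨d, hd, rfl⟩ := (hSmem y).1 hy
    exact (hSmem _).2 ⟨_, (mem_normalizer_iff.1 x.2 d).1 hd, rfl⟩
  choose hxC hxN using hNmem
  let f : normalizer (((Dm.map C.F) : Subgroup G) : Set G) →* normalizer (S : Set (Ct ⧸ T)) :=
    { toFun := fun x => ⟨π ⟨x, hxC x⟩, hxN x⟩
      map_one' := Subtype.ext (map_one π)
      map_mul' := fun x y => Subtype.ext (map_mul π ⟨x, hxC x⟩ ⟨y, hxC y⟩) }
  have hf : Function.Surjective f := by
    intro y
    obtain ⟨a, ha⟩ := QuotientGroup.mk'_surjective T y.1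
    exact ⟨⟨a, hNnorm a (ha ▸ y.2)⟩, Subtype.ext ha⟩
  have hker' : f.ker ≤ ψ.ker := by
    intro x hx
    rcases (hπeq ⟨x, hxC x⟩).1 (Subtype.ext_iff.1 (MonoidHom.mem_ker.1 hx)) with e | e
    · rw [show x = 1 from Subtype.ext e]; exact one_mem _
    · refine MonoidHom.mem_ker.2 ((hker x).2 ?_)
      simp only at e
      rw [e]
      exact ⟨(hDt _ hzD).symm, (hDt _ hwD).symm⟩
  set ψ' : normalizer (S : Set (Ct ⧸ T)) →* DihedralGroup 4 :=
    f.liftOfRightInverse (Function.surjInv hf) (Function.rightInverse_surjInv hf) ⟨ψ, hker'⟩ with hψ'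
  have hψ'f : ∀ x, ψ' (f x) = ψ x := fun x =>
    MonoidHom.liftOfRightInverse_comp_apply _ _ _ ⟨ψ, hker'⟩ x
  have hψ's : Function.Surjective ψ' := fun d => by
    obtain ⟨x, rfl⟩ := hψ d; exact ⟨f x, hψ'f x⟩
  have hψ'k : ∀ y, ψ' y = 1 ↔ (y : Ct ⧸ T) ∈ S := by
    intro y
    obtain ⟨x, rfl⟩ := hf y
    rw [hψ'f, hker]
    constructor
    · rintro ⟨h1, h2⟩
      refine hCS.le ?_
      rw [mem_centralizer_iff]
      intro y hy
      obtain ⟨d, ⟨p, hp, rfl⟩, rfl⟩ := (hSmem y).1 hy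
      show π _ * π ⟨x, hxC x⟩ = π ⟨x, hxC x⟩ * π _
      rw [← map_mul, ← map_mul]
      refine congrArg π (Subtype.ext ?_)
      obtain ⟨i, j, rfl⟩ := Dm_gen p hp
      show C.F _ * (x : G) = (x : G) * C.F _
      rw [map_mul, map_pow, map_pow]
      exact ((Commute.pow_left (Commute.symm h1) _).mul_left (Commute.pow_left (Commute.symm h2) _)).eq
    · intro hy
      obtain ⟨d, hd, e⟩ := (hSmem _).1 hy
      have key : ∀ a ∈ (Dm.map C.F), (x : G) * a = a * x := fun a ha => by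
        rcases hπeq2 _ _ e.symm with h | h <;> simp only at h <;> rw [h]
        · exact hDD d hd a ha
        · exact ((show Commute d a from hDD d hd a ha).mul_left (show Commute t a from (hDt a ha).symm)).eq
      exact ⟨key _ hzD, key _ hwD⟩
  have hSsyl : ∃ R : Sylow 3 (Ct ⧸ T), (R : Subgroup (Ct ⧸ T)) = S := by
    haveI : Fact (Nat.Prime 3) := ⟨Nat.prime_three⟩
    obtain ⟨R, hR⟩ := (IsPGroup.of_card (p := 3) (n := 2) (G := S) (by rw [hScard]; norm_num)).exists_le_sylow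
    refine ⟨R, (eq_of_le_of_card_ge hR ?_).symm⟩
    obtain ⟨n, hn⟩ := IsPGroup.iff_card.1 R.isPGroup'
    rw [hScard, hn]
    rcases Nat.lt_or_ge n 3 with h | h
    · exact le_trans (Nat.pow_le_pow_right (by norm_num) (by omega : n ≤ 2)) (by norm_num)
    · refine absurd ?_ C.sylow
      calc 27 ∣ 3 ^ n := (show 27 = 3 ^ 3 from rfl) ▸ pow_dvd_pow 3 h
        _ ∣ Nat.card (Ct ⧸ T) := hn ▸ card_subgroup_dvd_card _
        _ ∣ Nat.card Ct := T.card_quotient_dvd_card
        _ ∣ Nat.card G := card_subgroup_dvd_card _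
  obtain ⟨R, hR⟩ := hSsyl
  have hcent : ∀ x ∈ S, x ≠ 1 → centralizer ({x} : Set (Ct ⧸ T)) ≤ normalizer (S : Set (Ct ⧸ T)) := by
    intro x hx hx1 y hy
    obtain ⟨d, hd, rfl⟩ := (hSmem x).1 hx
    obtain ⟨a, rfl⟩ := QuotientGroup.mk'_surjective T y
    have hc := hcomm_of a d hd (mem_centralizer_singleton_iff.1 hy)
    have hd1 : d ≠ 1 := fun e => hx1 (by
      rw [show (⟨d, hDC hd⟩ : Ct) = 1 from Subtype.ext e, map_one])
    have hgoal : ∀ e ∈ (Dm.map C.F), (a : G) * e * (a : G)⁻¹ ∈ (Dm.map C.F) := by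
      obtain ⟨p, hp, rfl⟩ := hd
      have haC := mem_centralizer_singleton_iff.1 a.2
      have viaW : (a : G) * C.F w0 = C.F w0 * a → ∀ e ∈ Dm.map C.F, (a : G) * e * (a : G)⁻¹ ∈ Dm.map C.F := by
        intro hc2
        obtain ⟨q, hq, hqz⟩ := C.mem_cent_w hc2
        have hqt : C.F q * t = t * C.F q := by
          have h := C.sconj_comm haC
          rw [← hq, C.sconj_sconj, ht, C.st] at h
          exact h
        intro e he
        have h1 := C.ynorm _ C.s_comm_y _ he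
        have h2 := C.norm_mem (q := q) (C.F_inj (by rw [map_mul, map_mul]; exact hqt)) _ h1
        have h3 := C.ynorm _ C.s_comm_y _ h2
        rw [← hq]
        convert h3 using 1
        rw [mul_inv_rev, mul_inv_rev, inv_of_sq C.ss]
        group
      rcases Dm_lines p hp with rfl | rfl | rfl | rfl | rfl | h
      · exact absurd (map_one C.F) hd1
      · obtain ⟨q, hq, hqz⟩ := C.mem_cent_z hc
        exact hq ▸ C.norm_mem (C.F_inj (by rw [map_mul, map_mul, hq]; exact haC))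
      · have hc2 : (a : G) * C.F z0 = C.F z0 * a := by
          have := (Commute.mul_right hc hc)
          rw [← map_mul, show z0 * z0 * (z0 * z0) = z0 by decide +kernel] at this
          exact this
        obtain ⟨q, hq, hqz⟩ := C.mem_cent_z hc2
        exact hq ▸ C.norm_mem (C.F_inj (by rw [map_mul, map_mul, hq]; exact haC))
      · exact viaW hc
      · refine viaW ?_
        have := Commute.mul_right hc hc
        rw [← map_mul, show w0 * w0 * (w0 * w0) = w0 by decide +kernel] at this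
        exact this
      -- the diagonal lines
      intro e he
      have hy2 : ∀ b : G, b * C.F (y0 * y0) = C.F (y0 * y0) * b → b * C.F y0 = C.F y0 * b := fun b hb => by
        have := Commute.mul_right hb hb
        rw [← map_mul, show y0 * y0 * (y0 * y0) = y0 by decide +kernel] at this
        exact this
      have hflip : ∀ r, C.F (j0 * r * j0) * (a : G) = (a : G) * C.F (j0 * r * j0) →
          C.F j0 * (a : G) * C.F j0 * C.F r = C.F r * (C.F j0 * (a : G) * C.F j0) := fun r hr => by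
        have hj : C.F j0 * C.F j0 = 1 := by rw [← map_mul, show j0 * j0 = 1 by decide +kernel, map_one]
        have hi := inv_of_sq hj
        rw [map_mul, map_mul] at hr
        calc C.F j0 * (a : G) * C.F j0 * C.F r
            = C.F j0 * ((a : G) * (C.F j0 * C.F r * C.F j0)) * (C.F j0)⁻¹ := by group
          _ = C.F j0 * ((C.F j0 * C.F r * C.F j0) * (a : G)) * (C.F j0)⁻¹ := by rw [hr]
          _ = _ := by rw [hi]; simp only [← mul_assoc]; rw [hj, one_mul]
      have hjD := C.norm_mem (q := j0) (by decide +kernel)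
      have hjj : C.F j0 * C.F j0 = 1 := by rw [← map_mul, show j0 * j0 = 1 by decide +kernel, map_one]
      have back : C.F j0 * (a : G) * C.F j0 * C.F y0 = C.F y0 * (C.F j0 * (a : G) * C.F j0) →
          (a : G) * e * (a : G)⁻¹ ∈ Dm.map C.F := fun hb => by
        have h := hjD _ (C.ynorm _ hb _ (hjD e he))
        convert h using 1
        rw [mul_inv_rev, mul_inv_rev, inv_of_sq hjj]
        simp only [← mul_assoc]
        simp [mul_assoc, hjj]
      rcases h with rfl | rfl | rfl | rfl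
      · exact C.ynorm _ hc _ he
      · exact C.ynorm _ (hy2 _ hc) _ he
      · exact back (hflip _ hc.symm)
      · exact back (hy2 _ (hflip _ hc.symm))
    rw [mem_normalizer_iff_map_conj_eq]
    refine eq_of_le_of_card_ge ?_ (Nat.card_congr (Subgroup.equivMapOfInjective _ (MulAut.conj _).toMonoidHom (MulAut.conj _).injective).toEquiv).le
    rintro _ ⟨y, hy', rfl⟩
    obtain ⟨e, he, rfl⟩ := (hSmem y).1 hy'
    exact (hSmem _).2 ⟨_, hgoal e he, rfl⟩
  by_cases hn : S.Normal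
  · left
    intro g hg
    refine C.normD fun d hd => ?_
    have h := hn.conj_mem _ ((hSmem _).2 ⟨d, hd, rfl⟩) (π ⟨g, mem_centralizer_singleton_iff.2 hg⟩)
    obtain ⟨e, he, h'⟩ := (hSmem _).1 h
    rw [← map_inv, ← map_mul, ← map_mul] at h'
    exact hlift ⟨g, mem_centralizer_singleton_iff.2 hg⟩ d hd ⟨e, he, hπeq2 _ _ h'.symm⟩
  · right
    obtain ⟨e⟩ := Cfsg.Agent.NineS6.main R (hR ▸ hScard) (by rw [hR]; exact hCS) (by rw [hR]; exact hcent)
      (ψ'.comp (MulEquiv.subgroupCongr (by rw [hR])).toMonoidHom)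
      (hψ's.comp (MulEquiv.surjective _)) (fun x => (hψ'k _).trans (SetLike.ext_iff.1 hR.symm _)) (by rw [hR]; exact hn)
    exact ⟨e.toMonoidHom.comp π, e.surjective.comp (QuotientGroup.mk'_surjective T),
      fun x => (map_eq_one_iff e e.injective).trans (hπeq x)⟩

end Cfg

end Cfsg.Agent.S8Three
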