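import Mathlib.Algebra.Group.Subgroup.Basic
import Mathlib.Algebra.Group.Subgroup.ZPowers.Basic
import Mathlib.Tactic

/-!
Cyclic subgroups and normalisers inside a subgroup.
-/

set_option autoImplicit false

namespace Cfsg.Agent.S8Three

open Subgroup

section General

variable {G : Type*} [Group G] {K : Subgroup G}

theorem zpowers_sub (y h : K) : h ∈ zpowers y ↔ (h : G) ∈ zpowers (y : G) := by
  simp only [mem_zpowers_iff, Subtype.ext_iff, SubgroupClass.coe_zpow]

theorem zpowers_subgroupOf (y : K) : zpowers y = (zpowers (y : G)).subgroupOf K := by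
  ext h; rw [zpowers_sub, mem_subgroupOf]

theorem norm_sub {H : Subgroup G} (hH : H ≤ K) (n : K) :
    n ∈ normalizer ((H.subgroupOf K : Subgroup K) : Set K) ↔ (n : G) ∈ normalizer (H : Set G) := by
  rw [mem_normalizer_iff, mem_normalizer_iff]
  constructor
  · intro h g
    constructor
    · intro hg
      exact mem_subgroupOf.1 ((h ⟨g, hH hg⟩).1 (mem_subgroupOf.2 hg))
    · intro hg
      have hgK : g ∈ K := by
        have := mul_mem (mul_mem (inv_mem n.2) (hH hg)) n.2
        simpa [mul_assoc] using this
      exact mem_subgroupOf.1 ((h ⟨g, hgK⟩).2 (mem_subgroupOf.2 hg))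
  · intro h g
    exact h (g : G)

end General

end Cfsg.Agent.S8Three
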