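import Cfsg.Agent.Lib.S8Three.SixSylow
import Cfsg.Agent.Lib.S8Three.Sub
import Cfsg.Agent.S3329

/-!
In the case of `Sym(6)` the group is `Sym(8)`.
-/

set_option autoImplicit false
set_option linter.style.haveILetI false
set_option maxRecDepth 20000

namespace Cfsg.Agent.S8Three

open Equiv Subgroup

theorem sign_P3 : ∀ a : Perm (Fin 3), a ∈ P3 → Perm.sign a = 1 := by decide +kernel

theorem sign_vals : ∀ q : LL, q ∈ Dm → Perm.sign q.1 * Perm.sign q.2 = 1 ∧ Perm.sign t0.1 * Perm.sign t0.2 = -1 := by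
  decide +kernel

namespace Six

variable {G : Type*} [Group G] [Finite G] {C : Cfg G} (S : Six C)
include S

theorem sym8 (D : Subgroup G) (y z : G) (hz : C.F z0 = z) (hD : Dm.map C.F = D)
    (hy : zpowers (C.F y0) = zpowers y) (hgen : closure {y, z} = D)
    (hcomm : IsMulCommutative D) (hexp : ∀ a ∈ D, a ^ 3 = 1)
    [hcn : ((centralizer (D : Set G)).subgroupOf (normalizer (D : Set G))).Normal]
    (eNC : normalizer (D : Set G) ⧸ (centralizer (D : Set G)).subgroupOf (normalizer (D : Set G)) ≃*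
      DihedralGroup 4)
    (hyn : (D.subgroupOf (centralizer ({y} : Set G))).Normal)
    (hycard : Nat.card (centralizer ({y} : Set G)) = 36)
    (Ny : Subgroup G) (hNy : Ny = normalizer (zpowers y : Set G))
    (hyNn : (D.subgroupOf Ny).Normal) (hyNcard : Nat.card Ny = 72) (hyNsq : ∀ g ∈ Ny, g ^ 2 ∈ D)
    (eC : centralizer ({z} : Set G) ≃* Multiplicative (ZMod 3) × Perm (Fin 5)) :
    Nonempty (G ≃* Perm (Fin 8)) := by
  classical
  haveI : Fact (Nat.Prime 3) := ⟨Nat.prime_three⟩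
  obtain ⟨-, Φ, hinj, hF, χ, hχ⟩ := S.exists_sign
  have hχF : ∀ q, χ (C.F q) = Perm.sign q.1 * Perm.sign q.2 := fun q => by
    rw [← hF, hχ, emb8_sign]
  have hsurj : Function.Surjective χ := fun x => by
    rcases Int.units_eq_one_or x with rfl | rfl
    · exact ⟨1, map_one _⟩
    · exact ⟨C.F t0, by rw [hχF, (sign_vals 1 (one_mem _)).2]⟩
  have hG1 : Nat.card χ.ker * 2 = Nat.card G := by
    have h := χ.ker.card_mul_index
    rwa [index_ker, MonoidHom.range_eq_top.2 hsurj, card_top, Nat.card_eq_fintype_card (α := ℤˣ),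
      Fintype.card_units_int] at h
  have htχ : χ (C.F t0) = -1 := by rw [hχF, (sign_vals 1 (one_mem _)).2]
  have hDχ : D ≤ χ.ker := by
    rw [← hD]; rintro _ ⟨d, hd, rfl⟩
    rw [MonoidHom.mem_ker, hχF, (sign_vals d hd).1]
  have hyD : y ∈ D := hgen ▸ subset_closure (by simp)
  have hzD : z ∈ D := hgen ▸ subset_closure (by simp)
  set y' : χ.ker := ⟨y, hDχ hyD⟩ with hy'
  set z' : χ.ker := ⟨z, hDχ hzD⟩ with hz'
  set D' := D.subgroupOf χ.ker with hD'
  have hDcard : Nat.card D = 9 := hD ▸ C.card_D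
  have hD'card : Nat.card D' = 9 := by rw [← hDcard]; exact Nat.card_congr (subgroupOfEquivOfLe hDχ).toEquiv
  have ht_cD : C.F t0 ∈ centralizer (D : Set G) := by
    rw [← hD, mem_centralizer_iff]
    rintro _ ⟨d, hd, rfl⟩
    exact C.F_comm.2 (Dm_facts.2.2.2.1 d hd).2.2.2.1
  have hcent : ∀ x : G, x ∈ centralizer (D : Set G) → χ x = 1 → x ∈ D := by
    intro x hx hx1
    rw [mem_centralizer_iff] at hx
    obtain ⟨q, rfl, hqz⟩ := C.mem_cent_z (hz ▸ (hx _ hzD).symm)
    have hqw : q * w0 = w0 * q := C.F_comm.1 (hx _ (hD ▸ mem_map_of_mem _ Dm_facts.2.1)).symm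
    rw [← hD]
    rcases cent_zw q hqz hqw with h | h
    · exact mem_map_of_mem _ h
    · exfalso
      have h2 := (sign_vals _ h).1
      rw [← hχF, map_mul, map_mul, hx1, htχ] at h2
      exact absurd h2 (by decide)
  obtain ⟨R, hR⟩ : ∃ R : Sylow 3 χ.ker, D' = R := by
    obtain ⟨R, hR⟩ := (IsPGroup.of_card (p := 3) (n := 2) (by rw [hD'card]; norm_num)).exists_le_sylow (G := χ.ker)
    refine ⟨R, eq_of_le_of_card_ge hR ?_⟩
    obtain ⟨n, hn⟩ := IsPGroup.iff_card.1 R.isPGroup'
    rw [hn, hD'card]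
    have h27 : ¬ 27 ∣ 3 ^ n := fun h => C.sylow (h.trans ((hn ▸ card_subgroup_dvd_card _).trans ⟨2, hG1.symm⟩))
    rcases Nat.lt_or_ge n 3 with h | h
    · calc 3 ^ n ≤ 3 ^ 2 := Nat.pow_le_pow_right (by norm_num) (by omega)
        _ = 9 := by norm_num
    · exact absurd (Nat.pow_dvd_pow 3 h) h27
  have hgen' : closure {y', z'} = D' := by
    refine le_antisymm ?_ fun x hx => ?_
    · rw [closure_le]
      rintro a (rfl | rfl)
      · exact hyD
      · exact hzD
    · have hle : D ≤ (closure {y', z'}).map χ.ker.subtype := by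
        rw [← hgen, closure_le]
        rintro a (rfl | rfl)
        · exact ⟨y', subset_closure (by simp), rfl⟩
        · exact ⟨z', subset_closure (by simp), rfl⟩
      obtain ⟨b, hb, e⟩ := hle (mem_subgroupOf.1 hx)
      rwa [← Subtype.ext (show (b : G) = x from e)]
  have hcomm' : IsMulCommutative D' := ⟨⟨fun a b => Subtype.ext (Subtype.ext
    (congrArg Subtype.val (hcomm.is_comm.comm (⟨((a : χ.ker) : G), a.2⟩ : D) ⟨((b : χ.ker) : G), b.2⟩) :))⟩⟩
  have hexp' : ∀ a ∈ D', a ^ 3 = 1 := fun a ha => Subtype.ext (by rw [SubmonoidClass.coe_pow]; exact hexp _ ha)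
  have hC' : centralizer (D' : Set χ.ker) = D' := by
    refine le_antisymm (fun x hx => mem_subgroupOf.2 (hcent _ ?_ x.2)) ?_
    · rw [mem_centralizer_iff] at hx ⊢
      exact fun d hd => congrArg Subtype.val (hx ⟨d, hDχ hd⟩ hd)
    · intro x hx
      rw [mem_centralizer_iff]
      exact fun d hd => (congrArg Subtype.val (hcomm'.is_comm.comm (⟨d, hd⟩ : D') ⟨x, hx⟩) :)
  -- `N(D)`
  have hND : ∀ n : χ.ker, n ∈ normalizer (D' : Set χ.ker) ↔ (n : G) ∈ normalizer (D : Set G) := fun n =>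
    norm_sub hDχ n
  let ι : normalizer (D' : Set χ.ker) →* normalizer (D : Set G) :=
    { toFun := fun n => ⟨(n : χ.ker), (hND n).1 n.2⟩
      map_one' := rfl
      map_mul' := fun _ _ => rfl }
  set q4 : normalizer (D' : Set χ.ker) →* DihedralGroup 4 :=
    (eNC.toMonoidHom.comp (QuotientGroup.mk' _)).comp ι with hq4
  have hker : q4.ker = D'.subgroupOf (normalizer (D' : Set χ.ker)) := by
    ext n
    rw [hq4, MonoidHom.mem_ker, MonoidHom.comp_apply, MonoidHom.comp_apply, MulEquiv.coe_toMonoidHom,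
      MulEquiv.map_eq_one_iff, QuotientGroup.mk'_apply, QuotientGroup.eq_one_iff, mem_subgroupOf, mem_subgroupOf,
      mem_subgroupOf]
    constructor
    · exact fun h => hcent _ h (n : χ.ker).2
    · intro h
      rw [mem_centralizer_iff]
      exact fun d hd => congrArg Subtype.val (hcomm.is_comm.comm (⟨d, hd⟩ : D) ⟨_, h⟩)
  have hq4s : Function.Surjective q4 := by
    intro a
    obtain ⟨g, hg⟩ := QuotientGroup.mk'_surjective
      ((centralizer (D : Set G)).subgroupOf (normalizer (D : Set G))) (eNC.symm a)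
    rcases Int.units_eq_one_or (χ g) with h | h
    · refine ⟨⟨⟨g, h⟩, (hND _).2 g.2⟩, ?_⟩
      show eNC (QuotientGroup.mk' _ g) = a
      rw [hg, MulEquiv.apply_symm_apply]
    · have htN : C.F t0 ∈ normalizer (D : Set G) := centralizer_le_normalizer _ ht_cD
      refine ⟨⟨⟨(g : G) * C.F t0, by rw [MonoidHom.mem_ker, map_mul, h, htχ]; decide⟩,
        (hND _).2 (mul_mem g.2 htN)⟩, ?_⟩
      show eNC (QuotientGroup.mk' _ (g * ⟨C.F t0, htN⟩)) = a
      rw [map_mul, show QuotientGroup.mk' ((centralizer (D : Set G)).subgroupOf (normalizer (D : Set G)))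
          ⟨C.F t0, htN⟩ = 1 from (QuotientGroup.eq_one_iff _).2 (mem_subgroupOf.2 ht_cD), mul_one, hg,
        MulEquiv.apply_symm_apply]
  have eN' : normalizer (D' : Set χ.ker) ⧸ D'.subgroupOf (normalizer (D' : Set χ.ker)) ≃* DihedralGroup 4 :=
    (QuotientGroup.quotientMulEquivOfEq hker.symm).trans (QuotientGroup.quotientKerEquivOfSurjective q4 hq4s)
  -- `C(y)`
  have hycomm : ∀ x : χ.ker, x ∈ centralizer ({y'} : Set χ.ker) ↔ (x : G) ∈ centralizer ({y} : Set G) := fun x => by
    rw [mem_centralizer_singleton_iff, mem_centralizer_singleton_iff, Subtype.ext_iff]; rfl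
  have hyn' : (D'.subgroupOf (centralizer ({y'} : Set χ.ker))).Normal := ⟨fun d hd g => by
    rw [mem_subgroupOf, mem_subgroupOf] at hd ⊢
    exact mem_subgroupOf.1 (hyn.conj_mem ⟨_, (hycomm _).1 d.2⟩ (mem_subgroupOf.2 hd) ⟨_, (hycomm _).1 g.2⟩)⟩
  have ht_y : C.F t0 ∈ centralizer ({y} : Set G) := mem_centralizer_singleton_iff.2
    (mem_centralizer_iff.1 ht_cD y hyD).symm
  have halve : ∀ H : Subgroup G, C.F t0 ∈ H → Nat.card (H.subgroupOf χ.ker) * 2 = Nat.card H := by
    intro H htH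
    have h := (χ.comp H.subtype).ker.card_mul_index
    rw [index_ker, (MonoidHom.range_eq_top (f := χ.comp H.subtype)).2 (fun x => by
      rcases Int.units_eq_one_or x with rfl | rfl
      · exact ⟨1, map_one _⟩
      · exact ⟨⟨_, htH⟩, htχ⟩), card_top, Nat.card_eq_fintype_card (α := ℤˣ), Fintype.card_units_int] at h
    rw [← h]
    congr 1
    exact Nat.card_congr
      { toFun := fun x => ⟨⟨(x : χ.ker), x.2⟩, (x : χ.ker).2⟩
        invFun := fun x => ⟨⟨(x : H), x.2⟩, (x : H).2⟩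
        left_inv := fun _ => rfl
        right_inv := fun _ => rfl }
  have hycard' : Nat.card (centralizer ({y'} : Set χ.ker)) = 18 := by
    have h := halve _ ht_y
    rw [show (centralizer ({y} : Set G)).subgroupOf χ.ker = centralizer ({y'} : Set χ.ker) from
      Subgroup.ext fun x => (mem_subgroupOf.trans (hycomm x).symm), hycard] at h
    omega
  -- `N(⟨y⟩)`
  set Ny' := Ny.subgroupOf χ.ker with hNy'def
  have hNy' : Ny' = normalizer (zpowers y' : Set χ.ker) := by
    ext n
    rw [zpowers_subgroupOf, norm_sub (by rw [zpowers_le]; exact hDχ hyD), hNy'def, mem_subgroupOf, hNy]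
  have hDNy : D ≤ Ny := by
    rw [hNy]; intro d hd
    refine centralizer_le_normalizer _ ?_
    rw [mem_centralizer_iff]
    rintro a ⟨k, rfl⟩
    exact ((Commute.zpow_left (show Commute y d from
      congrArg Subtype.val (hcomm.is_comm.comm (⟨y, hyD⟩ : D) ⟨d, hd⟩)) k)).eq
  have hyN' : D' ≤ Ny' := fun d hd => hDNy hd
  haveI hyNn' : (D'.subgroupOf Ny').Normal := ⟨fun d hd g => by
    rw [mem_subgroupOf, mem_subgroupOf] at hd ⊢
    exact mem_subgroupOf.1 (hyNn.conj_mem ⟨_, d.2⟩ (mem_subgroupOf.2 hd) ⟨_, g.2⟩)⟩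
  have htNy : C.F t0 ∈ Ny := by
    rw [hNy]
    exact centralizer_le_normalizer _ (centralizer_le (SetLike.coe_subset_coe.2 (zpowers_le.2 hyD)) ht_cD)
  have hyNcard' : Nat.card (Ny' ⧸ D'.subgroupOf Ny') = 4 := by
    have h := card_eq_card_quotient_mul_card_subgroup (D'.subgroupOf Ny')
    rw [Nat.card_congr (subgroupOfEquivOfLe hyN').toEquiv, hD'card] at h
    have h2 := halve Ny htNy
    rw [← hNy'def, h, hyNcard] at h2
    omega
  have hyNexp' : ∀ g : Ny' ⧸ D'.subgroupOf Ny', g ^ 2 = 1 := by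
    intro g
    obtain ⟨n, rfl⟩ := QuotientGroup.mk_surjective g
    rw [← QuotientGroup.mk_pow, QuotientGroup.eq_one_iff]
    exact hyNsq _ n.2
  -- `C(z)`
  have ht_z : C.F t0 ∈ centralizer ({z} : Set G) := mem_centralizer_singleton_iff.2
    (mem_centralizer_iff.1 ht_cD z hzD).symm
  set c : Multiplicative (ZMod 3) × Perm (Fin 5) →* ℤˣ :=
    χ.comp ((centralizer ({z} : Set G)).subtype.comp eC.symm.toMonoidHom) with hc
  have hc1 : ∀ k : Multiplicative (ZMod 3), c (k, 1) = 1 := fun k => by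
    have h3 : c (k, 1) ^ 3 = 1 := by
      rw [← map_pow, Prod.pow_mk, one_pow, show k ^ 3 = 1 from by
        have := pow_card_eq_one (x := k)
        rwa [Fintype.card_multiplicative, ZMod.card] at this]
      exact map_one c
    rcases Int.units_eq_one_or (c (k, 1)) with h | h
    · exact h
    · rw [h] at h3; exact absurd h3 (by decide)
  have hc2 : ∀ σ, c (1, σ) = Perm.sign σ := fun σ => by
    have := Perm.eq_sign_of_surjective_hom (s := c.comp (MonoidHom.inr _ _)) fun x => by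
      rcases Int.units_eq_one_or x with rfl | rfl
      · exact ⟨1, map_one _⟩
      · refine ⟨(eC ⟨_, ht_z⟩).2, ?_⟩
        have e : c (eC ⟨_, ht_z⟩) = -1 := by
          show χ ((eC.symm (eC ⟨_, ht_z⟩) : centralizer ({z} : Set G)) : G) = -1
          rw [MulEquiv.symm_apply_apply]; exact htχ
        rw [show eC ⟨_, ht_z⟩ = ((eC ⟨_, ht_z⟩).1, 1) * (1, (eC ⟨_, ht_z⟩).2) from
          Prod.ext (mul_one _).symm (one_mul _).symm, map_mul, hc1, one_mul] at e
        exact e
    exact DFunLike.congr_fun this σ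
  have hcval : ∀ p, c p = Perm.sign p.2 := fun p => by
    rw [show p = (p.1, 1) * (1, p.2) from Prod.ext (mul_one _).symm (one_mul _).symm, map_mul, hc1, hc2,
      one_mul]
    simp
  have hzcomm : ∀ x : χ.ker, x ∈ centralizer ({z'} : Set χ.ker) ↔ (x : G) ∈ centralizer ({z} : Set G) := fun x => by
    rw [mem_centralizer_singleton_iff, mem_centralizer_singleton_iff, Subtype.ext_iff]; rfl
  let toC : Multiplicative (ZMod 3) × alternatingGroup (Fin 5) →* centralizer ({z'} : Set χ.ker) :=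
    { toFun := fun p => ⟨⟨(eC.symm (p.1, (p.2 : Perm (Fin 5))) : G),
          (hcval (p.1, (p.2 : Perm (Fin 5)))).trans p.2.2⟩,
        (hzcomm _).2 (eC.symm (p.1, (p.2 : Perm (Fin 5)))).2⟩
      map_one' := by
        apply Subtype.ext; apply Subtype.ext
        show ((eC.symm (1, 1) : centralizer ({z} : Set G)) : G) = 1
        rw [← Prod.one_eq_mk, map_one]; rfl
      map_mul' := fun p p' => by
        apply Subtype.ext; apply Subtype.ext
        show ((eC.symm ((p.1, (p.2 : Perm (Fin 5))) * (p'.1, (p'.2 : Perm (Fin 5)))) :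
          centralizer ({z} : Set G)) : G) = _
        rw [map_mul]; rfl }
  have eC' : centralizer ({z'} : Set χ.ker) ≃* Multiplicative (ZMod 3) × alternatingGroup (Fin 5) := by
    refine (MulEquiv.ofBijective toC ⟨fun p p' h => ?_, fun x => ?_⟩).symm
    · have e := eC.symm.injective (Subtype.ext (congrArg (fun a : centralizer ({z'} : Set χ.ker) => ((a : χ.ker) : G)) h) :
        eC.symm (p.1, (p.2 : Perm (Fin 5))) = eC.symm (p'.1, (p'.2 : Perm (Fin 5))))
      exact Prod.ext (congrArg Prod.fst e :) (Subtype.ext (congrArg Prod.snd e :))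
    · set p := eC ⟨((x : χ.ker) : G), (hzcomm _).1 x.2⟩ with hp
      have hs : Perm.sign p.2 = 1 := by
        rw [← hcval]
        show χ ((eC.symm p : centralizer ({z} : Set G)) : G) = 1
        rw [hp, MulEquiv.symm_apply_apply]; exact (x : χ.ker).2
      refine ⟨(p.1, ⟨p.2, hs⟩), Subtype.ext (Subtype.ext ?_)⟩
      show ((eC.symm (p.1, p.2) : centralizer ({z} : Set G)) : G) = _
      rw [Prod.mk.eta, hp, MulEquiv.symm_apply_apply]
  -- `N(⟨z⟩)`
  have hzN : ∀ x : χ.ker, x ∈ normalizer (zpowers z' : Set χ.ker) ↔ (x : G) ∈ C.F.range := fun x => by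
    rw [zpowers_subgroupOf, norm_sub (by rw [zpowers_le]; exact hDχ hzD), C.F_range, hz]
  set κ : LL →* ℤˣ := ((Perm.sign).comp (MonoidHom.fst (Perm (Fin 3)) (Perm (Fin 5)))) *
    ((Perm.sign).comp (MonoidHom.snd (Perm (Fin 3)) (Perm (Fin 5)))) with hκ
  have hκv : ∀ q, χ (C.F q) = κ q := fun q => hχF q
  let toL : κ.ker →* normalizer (zpowers z' : Set χ.ker) :=
    { toFun := fun q => ⟨⟨C.F q, (hκv q).trans q.2⟩, (hzN _).2 ⟨q, rfl⟩⟩
      map_one' := Subtype.ext (Subtype.ext (map_one C.F))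
      map_mul' := fun _ _ => Subtype.ext (Subtype.ext (map_mul C.F _ _)) }
  have eL' : normalizer (zpowers z' : Set χ.ker) ≃* κ.ker := by
    refine (MulEquiv.ofBijective toL ⟨fun q q' h => ?_, fun x => ?_⟩).symm
    · exact Subtype.ext (C.F_inj (congrArg (fun a : normalizer (zpowers z' : Set χ.ker) => ((a : χ.ker) : G)) h))
    · obtain ⟨q, hq⟩ := (hzN _).1 x.2
      exact ⟨⟨q, by rw [MonoidHom.mem_ker, ← hκv, hq]; exact (x : χ.ker).2⟩, Subtype.ext (Subtype.ext hq)⟩
  obtain ⟨e8⟩ := Cfsg.Agent.S3329.result R D' hR y' z' hgen' hcomm' hD'card hexp' hC' eN' hyn' hycard'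
    Ny' hNy' hyN' hyNcard' hyNexp' eC' eL'
  -- conclusion
  have hcardG : Nat.card G = Nat.card (Perm (Fin 8)) := by
    rw [← hG1, Nat.card_congr e8.toEquiv, mul_comm]
    exact two_mul_nat_card_alternatingGroup
  exact ⟨(MulEquiv.ofBijective Φ ((Nat.bijective_iff_injective_and_card Φ).2 ⟨hinj, hcardG.symm⟩)).symm⟩

end Six

end Cfsg.Agent.S8Three
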