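import Cfsg.Agent.Lib.S8Three.Model

/-!
More finite facts for the case in which the centraliser of `t` normalises `D`.
-/

set_option autoImplicit false
set_option maxRecDepth 20000
set_option synthInstance.maxSize 4096

namespace Cfsg.Agent.S8Three

open Equiv

/-- `(03)(14)(01)(34)`-part of the product of the two four-groups -/
def k0 : LL := i0 * j0

/-- The 2-group generated by `t0, i0, j0, e0`. -/
def QL : List LL :=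
  [1, t0, i0, t0 * i0, e0, t0 * e0, i0 * e0, t0 * i0 * e0, j0, t0 * j0, i0 * j0, t0 * i0 * j0, e0 * j0,
    t0 * e0 * j0, i0 * e0 * j0, t0 * i0 * e0 * j0]

theorem QL_facts : QL.Nodup ∧ (1 : LL) ∈ QL ∧ (∀ a ∈ QL, ∀ b ∈ QL, a * b ∈ QL ∧ a⁻¹ ∈ QL) ∧
    t0 ∈ QL ∧ i0 ∈ QL ∧ j0 ∈ QL ∧ e0 ∈ QL ∧
    (∀ a ∈ QL, a * (i0 * j0) = i0 * j0 * a) := by decide +kernel

theorem small_rels : e0 * t0 * e0 = t0 * i0 ∧ e0 * j0 = j0 * e0 ∧ e0 * i0 = i0 * e0 ∧ i0 * j0 = j0 * i0 ∧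
    t0 * i0 = i0 * t0 ∧ tau0 = t0 * i0 ∧ i0 * z0 = z0 * i0 ∧ i0 * w0 * i0 = w0⁻¹ ∧ jt0 * t0 = j0 ∧
    i0 * j0 * (i0 * j0) = 1 ∧ i0 * i0 = 1 ∧ j0 * j0 = 1 ∧ e0 * e0 = 1 ∧ t0 * t0 = 1 ∧ jt0 = j0 * t0 := by
  decide +kernel

theorem small_classes :
    (∀ a ∈ [e0, e0 * i0, i0 * e0], ∃ q : LL, q * i0 * q⁻¹ = a ∧ q.1 = 1) ∧
    (∀ a ∈ [e0 * j0, e0 * i0 * j0], ∃ q : LL, q * (i0 * j0) * q⁻¹ = a) ∧
    (∀ q : LL, q.1 = 1 → q * j0 = j0 * q ∧ q * z0 = z0 * q) := by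
  decide +kernel

theorem f_cases : ∀ q : LL, q * t0 = t0 * q → q * i0 = i0 * q → q * j0 = j0 * q → q * e0 = e0 * q →
    q = 1 ∨ q = i0 ∨ q = j0 ∨ q = i0 * j0 := by
  decide +kernel

theorem no_swap : (∀ q : LL, q * i0 ≠ j0 * q) ∧ ∀ q : LL, q * j0 ≠ i0 * q := by decide +kernel

theorem cent_et : ∀ q : LL, q * z0 = z0 * q → q * (e0 * t0) = e0 * t0 * q →
    ∃ a : Fin 3, ∃ b : Fin 4, q = z0 ^ (a : ℕ) * (e0 * t0) ^ (b : ℕ) := by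
  decide +kernel

theorem cent_tj : ∀ q : LL, q * t0 = t0 * q → q * j0 = j0 * q →
    ∃ a : Fin 3, ∃ b c d : Fin 2, q = t0 ^ (d : ℕ) * (w0 ^ (a : ℕ) * i0 ^ (b : ℕ) * j0 ^ (c : ℕ)) := by
  decide +kernel

theorem conj24 : ((1, swap 2 4) : LL) * i0 * (1, swap 2 4)⁻¹ = (1, swap 0 1 * swap 2 3) ∧
    ((1, swap 2 4) : LL) * e0 * (1, swap 2 4)⁻¹ = (1, swap 0 3 * swap 1 2) ∧
    ((1, swap 0 3 * swap 1 2) : LL) = (1, swap 0 1 * swap 2 3) * (1, swap 0 2 * swap 1 3) := by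
  decide +kernel

theorem quot_small : (∀ p : Perm (Fin 3), p ^ 4 = 1 → p * p = 1) ∧
    (∀ p : Perm (Fin 5), Perm.sign p = 1 → p ^ 4 = 1 → p * p = 1) := by
  decide +kernel

end Cfsg.Agent.S8Three
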