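import Cfsg.Agent.Lib.S8Three.SmallCV
import Cfsg.Agent.Lib.S8Three.SmallFacts

/-!
When `C(t)` normalises `D`, the two copies of `Alt(5)` commute.
-/

set_option autoImplicit false
set_option linter.style.haveILetI false
set_option maxRecDepth 20000

namespace Cfsg.Agent.S8Three

open Equiv Subgroup

section Seven

open SixCent.PSLSeven

/-- Elements of order four of `PSL(2,7)`: centraliser and an inverting element. -/
theorem psl7_four (u : Q7) (h4 : u ^ 4 = 1) (h2 : u * u ≠ 1) :
    (∀ h, h * u = u * h → h = 1 ∨ h = u ∨ h = u * u ∨ h = u * u * u) ∧ ∃ φ, φ * u * φ⁻¹ = u⁻¹ := by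
  obtain ⟨z, g, f, hz, hg, hg4, hf, hfg, hinv, hcent⟩ := facts
  have huu : u * u * (u * u) = 1 := by rw [← h4]; simp only [pow_succ, pow_zero, one_mul, mul_assoc]
  obtain ⟨x, hx⟩ := hinv (u * u) huu h2
  -- normalise so that the square is `z`
  set v := x⁻¹ * u * x with hv
  have hvv : v * v = z := by
    rw [hv, show x⁻¹ * u * x * (x⁻¹ * u * x) = x⁻¹ * (u * u) * x by group, ← hx]; group
  have hgz : g * z = z * g := by rw [← hg, mul_assoc]
  have gmod : ∀ k : ℕ, g ^ k = 1 ∨ g ^ k = g ∨ g ^ k = g * g ∨ g ^ k = g * g * g := fun k => by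
    rw [← Nat.div_add_mod k 4, pow_add, pow_mul, hg4, one_pow, one_mul]
    have : k % 4 < 4 := Nat.mod_lt _ (by norm_num)
    interval_cases h : k % 4 <;> simp [pow_succ, mul_assoc]
  have hfi : ∀ k : ℕ, f * g ^ k * f⁻¹ = (g ^ k)⁻¹ := fun k => by rw [← conj_pow, hfg, inv_pow]
  have hinvo : ∀ k : ℕ, g ^ k * f * (g ^ k * f) = 1 := fun k => by
    have e : f * g ^ k * f = (g ^ k)⁻¹ := by
      have := hfi k; rwa [inv_eq_of_mul_eq_one_right hf] at this
    rw [show g ^ k * f * (g ^ k * f) = g ^ k * (f * g ^ k * f) by group, e, mul_inv_cancel]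
  obtain ⟨k, b, hb, hvk⟩ := hcent v (by rw [← hvv]; exact (mul_assoc v v v).symm)
  interval_cases b
  swap
  · exact absurd (by rw [← hvv, hvk, pow_one, hinvo]) hz
  rw [pow_zero, mul_one] at hvk
  have hfv : f * v * f⁻¹ = v⁻¹ := by rw [hvk]; exact hfi k
  have hvz : v = g ∨ v = g * g * g := by
    rcases gmod k with e | e | e | e
    · exact absurd (show z = 1 by rw [← hvv, hvk, e, one_mul]) hz
    · exact Or.inl (hvk.trans e)
    · exact absurd (show z = 1 by
        rw [← hvv, hvk, e, ← hg4]; simp only [pow_succ, pow_zero, one_mul, mul_assoc]) hz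
    · exact Or.inr (hvk.trans e)
  have hgv : ∀ j : ℕ, g ^ j = 1 ∨ g ^ j = v ∨ g ^ j = v * v ∨ g ^ j = v * v * v := by
    intro j
    have h5 : g * g * g * (g * g * g) = g * g := by
      rw [show g * g * g * (g * g * g) = g ^ 4 * (g * g) by simp only [pow_succ, pow_zero, one_mul, mul_assoc],
        hg4, one_mul]
    rcases hvz with e | e <;> rw [e]
    · exact gmod j
    · rw [h5, show g * g * (g * g * g) = g ^ 4 * g by simp only [pow_succ, pow_zero, one_mul, mul_assoc],
        hg4, one_mul]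
      rcases gmod j with h | h | h | h <;> simp [h]
  have hu : u = x * v * x⁻¹ := by rw [hv]; group
  refine ⟨fun h hh => ?_, x * f * x⁻¹, ?_⟩
  · have hc : x⁻¹ * h * x * v = v * (x⁻¹ * h * x) := by
      rw [hv, show x⁻¹ * h * x * (x⁻¹ * u * x) = x⁻¹ * (h * u) * x by group, hh]; group
    have hcz : x⁻¹ * h * x * z = z * (x⁻¹ * h * x) := by
      rw [← hvv]; exact (Commute.mul_right hc hc).eq
    obtain ⟨j, b', hb', e⟩ := hcent _ hcz
    interval_cases b'
    · rw [pow_zero, mul_one] at e
      have hh' : h = x * g ^ j * x⁻¹ := by rw [← e]; group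
      rw [hu, hh']
      rcases hgv j with r | r | r | r <;> rw [r]
      · exact Or.inl (by group)
      · exact Or.inr (Or.inl rfl)
      · exact Or.inr (Or.inr (Or.inl (by group)))
      · exact Or.inr (Or.inr (Or.inr (by group)))
    · exfalso
      rw [pow_one] at e
      rw [e] at hc
      have hgv' : (g ^ j * f) * v * (g ^ j * f)⁻¹ = v⁻¹ := by
        have hcg : Commute (g ^ j) v := by rw [hvk]; exact Commute.pow_pow_self g j k
        calc (g ^ j * f) * v * (g ^ j * f)⁻¹ = g ^ j * (f * v * f⁻¹) * (g ^ j)⁻¹ := by group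
          _ = g ^ j * v⁻¹ * (g ^ j)⁻¹ := by rw [hfv]
          _ = v⁻¹ := by rw [(hcg.inv_right).eq, mul_inv_cancel_right]
      rw [hc, mul_inv_cancel_right] at hgv'
      exact hz (by rw [← hvv]; nth_rewrite 2 [hgv']; exact mul_inv_cancel v)
  · rw [hu, show x * f * x⁻¹ * (x * v * x⁻¹) * (x * f * x⁻¹)⁻¹ = x * (f * v * f⁻¹) * x⁻¹ by group, hfv]
    group

end Seven

/-- The case in which `C(t)` normalises `D`. -/
def Cfg.Small {G : Type*} [Group G] [Finite G] (C : Cfg G) : Prop :=
  ∀ g : G, g * C.F t0 = C.F t0 * g → ∃ q, q * t0 = t0 * q ∧ (g = C.F q ∨ g = C.s * C.F q)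

namespace Cfg

variable {G : Type*} [Group G] [Finite G] (C : Cfg G)
include C

theorem card_cent_t_small (hS : C.Small) : Nat.card (centralizer ({C.F t0} : Set G)) = 144 := by
  rw [← C.card_normD]
  congr 2
  refine le_antisymm (fun g hg => (C.norm_mem' (hS g (mem_centralizer_singleton_iff.1 hg))).1) fun g hg => ?_
  exact mem_centralizer_singleton_iff.2
    (C.norm_mem' (C.normD fun d hd => (mem_normalizer_iff.1 hg d).1 hd)).2

theorem eps_true (hS : C.Small) : C.ε = true := by
  by_contra hne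
  rw [Bool.not_eq_true] at hne
  have h1 := C.stau
  rw [hne, cond_false] at h1
  have hcard : Nat.card (centralizer ({C.F j0} : Set G)) = 144 := by
    rw [← h1, show C.s * C.F tau0 * C.s = C.s * C.F tau0 * C.s⁻¹ by rw [inv_of_sq C.ss], card_cent_conj,
      rel_facts.2.2.2.2.2.2.2.2.2.1.symm, map_mul, map_mul,
      show C.F e0 * C.F t0 * C.F e0 = C.F e0 * C.F t0 * (C.F e0)⁻¹ by
        rw [inv_of_sq (show C.F e0 * C.F e0 = 1 by rw [← map_mul, rel_facts.2.2.2.2.2.2.2.2.1, map_one])],
      card_cent_conj, C.card_cent_t_small hS]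
  obtain ⟨h5, h51, h5j⟩ := five_elt
  haveI : Fact (Nat.Prime 5) := ⟨by norm_num⟩
  have ho : orderOf (C.F (1, swap 0 1 * swap 1 2 * swap 2 3 * swap 3 4)) = 5 :=
    orderOf_eq_prime (by rw [← map_pow, h5, map_one]) fun h => h51 (C.F_inj (h.trans (map_one C.F).symm))
  have hd : orderOf (C.F (1, swap 0 1 * swap 1 2 * swap 2 3 * swap 3 4)) ∣ 144 := by
    rw [← hcard, ← orderOf_mk (C.F (1, swap 0 1 * swap 1 2 * swap 2 3 * swap 3 4))
      (H := centralizer ({C.F j0} : Set G)) (mem_centralizer_singleton_iff.2 (C.F_comm.2 h5j))]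
    exact orderOf_dvd_natCard _
  rw [ho] at hd
  norm_num at hd

/-- The image of `e` under the swap. -/
def r : G := C.s * C.F e0 * C.s

variable (hS : C.Small)
include hS

theorem sis : C.s * C.F i0 * C.s = C.F j0 := by
  have h := C.stau
  rw [C.eps_true hS, cond_true] at h
  rw [rel_facts.2.2.1, map_mul, C.sconj_mul, h, C.st, ← map_mul, small_rels.2.2.2.2.2.2.2.2.1]

theorem sjs : C.s * C.F j0 * C.s = C.F i0 := by rw [← C.sis hS, C.sconj_sconj]

theorem r_sq : C.r * C.r = 1 := by
  show C.s * C.F e0 * C.s * (C.s * C.F e0 * C.s) = 1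
  rw [← C.sconj_mul, ← map_mul, small_rels.2.2.2.2.2.2.2.2.2.2.2.2.1, map_one, mul_one, C.ss]

theorem r_i : C.r * C.F i0 = C.F i0 * C.r := by
  rw [← C.sjs hS]
  exact C.sconj_comm (C.F_comm.2 small_rels.2.1)

theorem r_j : C.r * C.F j0 = C.F j0 * C.r := by
  rw [← C.sis hS]
  exact C.sconj_comm (C.F_comm.2 small_rels.2.2.1)

theorem rtr : C.r * C.F t0 * C.r = C.F (t0 * j0) := by
  show C.s * C.F e0 * C.s * C.F t0 * (C.s * C.F e0 * C.s) = _
  calc C.s * C.F e0 * C.s * C.F t0 * (C.s * C.F e0 * C.s)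
      = C.s * C.F e0 * (C.s * C.F t0 * C.s) * C.F e0 * C.s := by group
    _ = C.s * (C.F e0 * C.F t0 * C.F e0) * C.s := by rw [C.st]; group
    _ = _ := by
      rw [← map_mul, ← map_mul, small_rels.1, map_mul, C.sconj_mul, C.sis hS, C.st, ← map_mul]

/-- The commutator of `e` and `r` is trivial or `i j`. -/
theorem f_val : C.F e0 * C.r * C.F e0 * C.r = 1 ∨ C.F e0 * C.r * C.F e0 * C.r = C.F (i0 * j0) := by
  set e := C.F e0 with he
  set r := C.r with hr
  set f := e * r * e * r with hf
  have ee : e * e = 1 := by rw [he, ← map_mul, small_rels.2.2.2.2.2.2.2.2.2.2.2.2.1, map_one]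
  have rr : r * r = 1 := C.r_sq hS
  have ir := inv_of_sq rr
  have ie := inv_of_sq ee
  set t := C.F t0 with ht
  set i := C.F i0 with hi
  set j := C.F j0 with hj
  have hei : e * i = i * e := C.F_comm.2 small_rels.2.2.1
  have hej : e * j = j * e := C.F_comm.2 small_rels.2.1
  have hij : i * j = j * i := C.F_comm.2 small_rels.2.2.2.1
  have hti : t * i = i * t := C.F_comm.2 small_rels.2.2.2.2.1
  have hfi : f * i = i * f := (((Commute.mul_left hei (C.r_i hS)).mul_left hei).mul_left (C.r_i hS)).eq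
  have hfj : f * j = j * f := (((Commute.mul_left hej (C.r_j hS)).mul_left hej).mul_left (C.r_j hS)).eq
  have hete : e * t * e = t * i := by rw [he, ht, hi, ← map_mul, ← map_mul, ← map_mul, small_rels.1]
  have hrtr : r * t * r = t * j := by rw [C.rtr hS, map_mul]
  have hft : f * t = t * f := by
    have h1 : f * t * f⁻¹ = e * (r * (e * (r * t * r) * e) * r) * e := by
      rw [hf, mul_inv_rev, mul_inv_rev, mul_inv_rev, ir, ie]; group
    have h2 : e * (r * t * r) * e = t * i * j := by
      rw [hrtr, show e * (t * j) * e = e * t * (j * e) by group, ← hej, show e * t * (e * j) = e * t * e * j by group,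
        hete]
    have h3 : r * (t * i * j) * r = t * i := by
      rw [show r * (t * i * j) * r = r * t * ((i * j) * r) by group,
        ← (Commute.mul_right (C.r_i hS) (C.r_j hS)).eq, show r * t * (r * (i * j)) = r * t * r * (i * j) by group,
        hrtr, hij, show t * j * (j * i) = t * (j * j) * i by group, hj, ← map_mul,
        small_rels.2.2.2.2.2.2.2.2.2.2.2.1, map_one, mul_one]
    have h4 : e * (t * i) * e = t := by
      rw [show e * (t * i) * e = e * t * (i * e) by group, ← hei, show e * t * (e * i) = e * t * e * i by group,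
        hete, mul_assoc, hi, ← map_mul, small_rels.2.2.2.2.2.2.2.2.2.2.1, map_one, mul_one]
    rw [h2, h3, h4] at h1
    exact mul_inv_eq_iff_eq_mul.1 h1
  obtain ⟨q, hq, hfq | hfq⟩ := hS f hft
  swap
  · exfalso
    rw [hfq] at hfi
    have h : C.s * (C.F q * i) = i * (C.s * C.F q) := by rw [← mul_assoc]; exact hfi
    have h' : C.F q * i = C.F j0 * C.F q := by
      rw [← C.sis hS, ← hi]
      calc C.F q * i = C.s * C.s * (C.F q * i) := by rw [C.ss, one_mul]
        _ = C.s * (C.s * (C.F q * i)) := by group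
        _ = C.s * (i * (C.s * C.F q)) := by rw [h]
        _ = _ := by group
    rw [hi, ← map_mul, ← map_mul] at h'
    exact no_swap.1 q (C.F_inj h')
  have hfe' : e * f * e = f⁻¹ := by
    rw [hf, mul_inv_rev, mul_inv_rev, mul_inv_rev, ir, ie,
      show e * (e * r * e * r) * e = (e * e) * r * e * r * e by group, ee, one_mul]
    group
  have hs' : C.s * f * C.s = f⁻¹ := by
    rw [hf, C.sconj_mul, C.sconj_mul, C.sconj_mul, show C.s * e * C.s = r from rfl,
      show C.s * r * C.s = e from C.sconj_sconj e, mul_inv_rev, mul_inv_rev, mul_inv_rev, ir, ie]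
    group
  have hQ : q ∈ ([1, i0, j0, i0 * j0] : List LL) := by
    have c1 : q * i0 = i0 * q := C.F_comm.1 (hfq ▸ hfi)
    have c2 : q * j0 = j0 * q := C.F_comm.1 (hfq ▸ hfj)
    have key : ∀ p : LL, p * t0 = t0 * p → p * i0 = i0 * p → p * j0 = j0 * p → p * p = 1 := by decide +kernel
    have hff : f * f = 1 := by rw [hfq, ← map_mul, key q hq c1 c2, map_one]
    rw [inv_of_sq hff] at hfe'
    have c3 : f * e = e * f := by
      calc f * e = e * f * e * e := by rw [hfe']
        _ = e * f * (e * e) := by group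
        _ = e * f := by rw [ee, mul_one]
    rcases f_cases q hq c1 c2 (C.F_comm.1 (hfq ▸ c3)) with rfl | rfl | rfl | rfl <;> simp
  simp only [List.mem_cons, List.not_mem_nil, or_false] at hQ
  rcases hQ with rfl | rfl | rfl | rfl
  · exact Or.inl (hfq.trans (map_one _))
  · exfalso
    rw [hfq, C.sis hS, inv_of_sq (show C.F i0 * C.F i0 = 1 by
      rw [← map_mul, small_rels.2.2.2.2.2.2.2.2.2.2.1, map_one])] at hs'
    exact no_swap.2 1 (by rw [one_mul, mul_one]; exact C.F_inj hs')
  · exfalso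
    rw [hfq, C.sjs hS, inv_of_sq (show C.F j0 * C.F j0 = 1 by
      rw [← map_mul, small_rels.2.2.2.2.2.2.2.2.2.2.2.1, map_one])] at hs'
    exact no_swap.1 1 (by rw [one_mul, mul_one]; exact C.F_inj hs')
  · exact Or.inr hfq

end Cfg

end Cfsg.Agent.S8Three
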