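import Mathlib.GroupTheory.Perm.Sign
import Mathlib.GroupTheory.Perm.Fin
import Mathlib.Algebra.Group.Subgroup.Basic
import Mathlib.Tactic

/-!
Finite facts about `Sym(3) × Sym(5)` used for the 3-local characterisation of `Sym(8)`.
-/

set_option autoImplicit false
set_option maxRecDepth 20000
set_option synthInstance.maxSize 4096
set_option synthInstance.maxHeartbeats 200000

namespace Cfsg.Agent.S8Three

open Equiv

/-- The model of the normaliser of `⟨z⟩`. -/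
abbrev LL := Perm (Fin 3) × Perm (Fin 5)

/-- `(012)` -/
def c3 : Perm (Fin 3) := swap 0 1 * swap 1 2
/-- `(012)` -/
def w5 : Perm (Fin 5) := swap 0 1 * swap 1 2
/-- the central element of order three -/
def z0 : LL := (c3, 1)
/-- the partner of `z0` -/
def w0 : LL := (1, w5)
/-- the diagonal element -/
def y0 : LL := (c3, w5)
/-- the involution centralising the Sylow 3-subgroup -/
def t0 : LL := (1, swap 3 4)
/-- a transposition inverting `w0` -/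
def tau0 : LL := (1, swap 0 1)
/-- its translate -/
def i0 : LL := (1, swap 0 1 * swap 3 4)
/-- the involution of the small part -/
def j0 : LL := (swap 0 1, 1)
/-- its translate -/
def jt0 : LL := (swap 0 1, swap 3 4)
/-- the four-group partner of `i0` -/
def e0 : LL := (1, swap 0 3 * swap 1 4)

/-- Bounded quantifiers are decided along the list. -/
scoped instance (priority := high) decBAll {α : Type} {p : α → Prop} [DecidablePred p] (l : List α) :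
    Decidable (∀ x ∈ l, p x) := List.decidableBAll p l

/-- The powers of `c3`. -/
def P3 : List (Perm (Fin 3)) := [1, c3, c3 * c3]
/-- The powers of `w5`. -/
def P5 : List (Perm (Fin 5)) := [1, w5, w5 * w5]

theorem P_closed : (∀ a ∈ P3, ∀ b ∈ P3, a * b ∈ P3 ∧ a * b = b * a) ∧ (∀ a ∈ P5, ∀ b ∈ P5, a * b ∈ P5 ∧ a * b = b * a) ∧
    (∀ a ∈ P3, a⁻¹ ∈ P3) ∧ (∀ a ∈ P5, a⁻¹ ∈ P5) := by decide +kernel

/-- The Sylow 3-subgroup of the model. -/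
def Dm : Subgroup LL where
  carrier := {p | p.1 ∈ P3 ∧ p.2 ∈ P5}
  one_mem' := ⟨by simp [P3], by simp [P5]⟩
  mul_mem' ha hb := ⟨(P_closed.1 _ ha.1 _ hb.1).1, (P_closed.2.1 _ ha.2 _ hb.2).1⟩
  inv_mem' ha := ⟨P_closed.2.2.1 _ ha.1, P_closed.2.2.2 _ ha.2⟩

instance : DecidablePred (· ∈ Dm) := fun p => inferInstanceAs (Decidable (p.1 ∈ P3 ∧ p.2 ∈ P5))

theorem normal_three : ∀ p : LL, p * p * p = 1 → p ≠ 1 →
    (∀ q : LL, q * p * q⁻¹ = p ∨ q * p * q⁻¹ = p * p) → p.2 = 1 ∧ (p.1 = c3 ∨ p.1 = c3 * c3) := by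
  decide +kernel

theorem flip_three : ∀ p : Perm (Fin 3), p = c3 ∨ p = c3 * c3 → ∃ s : Perm (Fin 3), s * p * s⁻¹ = c3 := by
  decide +kernel

theorem five_three : ∀ u : Perm (Fin 5), u * u * u = 1 → u ≠ 1 → ∃ s : Perm (Fin 5), s * u * s⁻¹ = w5 := by
  decide +kernel

theorem three_comm : ∀ s : Perm (Fin 3), s * c3 = c3 * s → s ∈ P3 := by decide +kernel

theorem comm_z0 : ∀ q : LL, q * z0 = z0 * q ↔ q.1 ∈ P3 := by decide +kernel

theorem cent_zw : ∀ q : LL, q * z0 = z0 * q → q * w0 = w0 * q → q ∈ Dm ∨ q * t0 ∈ Dm := by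
  decide +kernel

theorem cent_D_invol : ∀ q : LL, q * z0 = z0 * q → q * w0 = w0 * q → q * q = 1 → q ≠ 1 → q = t0 := by
  decide +kernel

theorem norm_z_comm_y : ∀ q : LL, q * y0 = y0 * q → q ∈ Dm ∨ q * t0 ∈ Dm := by decide +kernel

theorem Dm_facts : z0 ∈ Dm ∧ w0 ∈ Dm ∧ y0 ∈ Dm ∧ (∀ p : LL, p ∈ Dm → p * p * p = 1 ∧
    p * z0 = z0 * p ∧ p * w0 = w0 * p ∧ p * t0 = t0 * p ∧ p * y0 = y0 * p) ∧ t0 ∉ Dm ∧ i0 ∉ Dm := by
  decide +kernel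

theorem Dm_card : Fintype.card {p : LL // p ∈ Dm} = 9 := by decide +kernel

theorem Dm_lines : ∀ p : LL, p.1 ∈ P3 ∧ p.2 ∈ P5 → p = 1 ∨ p = z0 ∨ p = z0 * z0 ∨ p = w0 ∨ p = w0 * w0 ∨
    p = y0 ∨ p = y0 * y0 ∨ p = j0 * y0 * j0 ∨ p = j0 * (y0 * y0) * j0 := by
  decide +kernel

theorem flip_lines : ∀ p : LL, p ∈ Dm → (j0 * p * j0 = p ∨ j0 * p * j0 = p * p) →
    p = 1 ∨ p = z0 ∨ p = z0 * z0 ∨ p = w0 ∨ p = w0 * w0 := by
  decide +kernel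

theorem flipDm : ∀ d : LL, d ∈ Dm → ((1, swap 0 1) : LL) * d * (1, swap 0 1)⁻¹ ∈ Dm := by
  decide +kernel

theorem small_fix : ∀ a ∈ P3, ∀ x ∈ [z0, w0, t0, tau0, y0],
    ((a, 1) : LL)⁻¹ * x * (a, 1) = x := by
  decide +kernel

theorem cent_y_card : Fintype.card {q : LL // q * y0 = y0 * q} = 18 := by decide +kernel

theorem Dm_gen : ∀ p : LL, p ∈ Dm → ∃ i j : Fin 3, p = z0 ^ (i : ℕ) * w0 ^ (j : ℕ) := by
  decide +kernel

theorem norm_D_card : Fintype.card {q : LL // q * z0 * q⁻¹ ∈ Dm ∧ q * w0 * q⁻¹ ∈ Dm} = 72 := by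
  decide +kernel

theorem swap_tau : ∀ q : LL, q * q = 1 → q * t0 = t0 * q → q * w0 = w0 * q → q * z0 * q = z0 * z0 →
    ∃ c ∈ P3, (c, (1 : Perm (Fin 5))) * q * (c, 1)⁻¹ = j0 ∨ (c, (1 : Perm (Fin 5))) * q * (c, 1)⁻¹ = jt0 := by
  decide +kernel

theorem rel_facts : tau0 * tau0 = 1 ∧ t0 * t0 = 1 ∧ i0 = tau0 * t0 ∧ tau0 * t0 = t0 * tau0 ∧
    j0 * t0 = t0 * j0 ∧ tau0 * z0 = z0 * tau0 ∧ tau0 * w0 * tau0 = w0 * w0 ∧ jt0 = j0 * t0 ∧
    e0 * e0 = 1 ∧ e0 * t0 * e0 = tau0 ∧ e0 * i0 = i0 * e0 ∧ e0 * z0 = z0 * e0 ∧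
    j0 * i0 = i0 * j0 ∧ j0 * e0 = e0 * j0 ∧ tau0 ≠ 1 ∧ t0 ≠ 1 ∧ i0 ≠ 1 ∧ i0 * i0 = 1 ∧ j0 ≠ 1 ∧
    j0 * j0 = 1 := by
  decide +kernel

theorem i0_small : ∀ q : LL, q * z0 = z0 * q → q * q * q = 1 → q * i0 = i0 * q → q.2 = 1 := by
  decide +kernel

end Cfsg.Agent.S8Three
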