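import Cfsg.Agent.Lib.S8Three.SixCode

/-!
Finite facts about involutions of `Sym(6)` satisfying braid relations.
-/

set_option autoImplicit false
set_option maxRecDepth 20000
set_option synthInstance.maxSize 4096

namespace Cfsg.Agent.S8Three

open Equiv

/-- Representatives of the three classes of involutions. -/
def reps6 : List P6 := [swap 0 1, swap 0 1 * swap 2 3, swap 0 1 * swap 2 3 * swap 4 5]

theorem reps6_code : reps6.map code6 = repC6 := by decide +kernel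

theorem reps6_mem {p : P6} : p ∈ reps6 ↔ code6 p ∈ repC6 := by
  rw [← reps6_code, List.mem_map]
  exact ⟨fun h => ⟨p, h, rfl⟩, fun ⟨q, hq, e⟩ => code6_inj e ▸ hq⟩

/-- Bounded quantifiers are decided along the list. -/
scoped instance (priority := high) decBAllN {p : ℕ → Prop} [DecidablePred p] (l : List ℕ) :
    Decidable (∀ x ∈ l, p x) := List.decidableBAll p l

/-- Bounded quantifiers are decided along the list. -/
scoped instance (priority := high) decBExN {p : ℕ → Prop} [DecidablePred p] (l : List ℕ) :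
    Decidable (∃ x ∈ l, p x) := List.decidableBEx p l

theorem reps_nat : ∀ a ∈ inv6, a ≠ 181896 → ∃ x ∈ all6, ∃ r ∈ repC6, cmp6 x a = cmp6 r x := by
  decide +kernel

theorem six_reps : ∀ A : P6, A * A = 1 → A ≠ 1 → ∃ X : P6, X * A * X⁻¹ ∈ reps6 := by
  intro A hA h1
  obtain ⟨x, hx, r, hr, e⟩ := reps_nat _ (code6_inv hA) (fun e => h1 (code6_inj (e.trans code6_one.symm)))
  obtain ⟨X, rfl⟩ := code6_surj hx
  refine ⟨X, reps6_mem.2 ?_⟩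
  rw [← reps6_code, List.mem_map] at hr
  obtain ⟨R, hR, rfl⟩ := hr
  rw [← code6_mul, ← code6_mul] at e
  rw [code6_inj e, mul_inv_cancel_right]
  exact reps6_mem.1 hR

theorem mid_exists_nat : ∀ a ∈ repC6, ∀ b ∈ inv6, cmp6 (cmp6 a b) a = cmp6 (cmp6 b a) b → a ≠ b →
    ∀ s ∈ inv6, cmp6 a (cmp6 (cmp6 s a) s) = cmp6 (cmp6 (cmp6 s a) s) a →
    cmp6 a (cmp6 (cmp6 s b) s) = cmp6 (cmp6 (cmp6 s b) s) a →
    cmp6 b (cmp6 (cmp6 s b) s) = cmp6 (cmp6 (cmp6 s b) s) b → a ≠ cmp6 (cmp6 s a) s →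
    ∃ u ∈ inv6, cmp6 u u = 181896 ∧ cmp6 u a = cmp6 a u ∧
      cmp6 u (cmp6 (cmp6 s b) s) = cmp6 (cmp6 (cmp6 s b) s) u ∧ cmp6 (cmp6 u b) u = cmp6 (cmp6 b u) b ∧
      cmp6 (cmp6 u (cmp6 (cmp6 s a) s)) u =
        cmp6 (cmp6 (cmp6 (cmp6 s a) s) u) (cmp6 (cmp6 s a) s) ∧ u ≠ a ∧ u ≠ b := by
  decide +kernel

theorem mid_exists : ∀ A ∈ reps6, ∀ B : P6, B * B = 1 → A * B * A = B * A * B → A ≠ B →
    ∀ S : P6, S * S = 1 → A * (S * A * S) = S * A * S * A → A * (S * B * S) = S * B * S * A →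
    B * (S * B * S) = S * B * S * B → A ≠ S * A * S →
    ∃ U : P6, U * U = 1 ∧ U * A = A * U ∧ U * (S * B * S) = S * B * S * U ∧ U * B * U = B * U * B ∧
      U * (S * A * S) * U = S * A * S * U * (S * A * S) ∧ U ≠ A ∧ U ≠ B := by
  intro A hA B hB h1 h2 S hS h3 h4 h5 h6
  simp only [code6_iff, code6_mul, code6_one, ne_eq] at h1 h2 h3 h4 h5 h6 ⊢
  obtain ⟨u, hu, h⟩ := mid_exists_nat _ (reps6_mem.1 hA) _ (code6_inv hB) h1 h2 _ (code6_inv hS) h3 h4 h5 h6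
  obtain ⟨U, rfl⟩ := code6_surj (inv6_sub _ hu)
  exact ⟨U, h⟩

theorem mid_facts_nat : ∀ a ∈ repC6, ∀ b ∈ inv6, cmp6 (cmp6 a b) a = cmp6 (cmp6 b a) b → a ≠ b →
    ∀ s ∈ inv6, cmp6 a (cmp6 (cmp6 s a) s) = cmp6 (cmp6 (cmp6 s a) s) a →
    cmp6 a (cmp6 (cmp6 s b) s) = cmp6 (cmp6 (cmp6 s b) s) a →
    cmp6 b (cmp6 (cmp6 s b) s) = cmp6 (cmp6 (cmp6 s b) s) b → a ≠ cmp6 (cmp6 s a) s →
    ∀ u ∈ inv6, cmp6 u a = cmp6 a u →
      cmp6 u (cmp6 (cmp6 s b) s) = cmp6 (cmp6 (cmp6 s b) s) u → cmp6 (cmp6 u b) u = cmp6 (cmp6 b u) b →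
      cmp6 (cmp6 u (cmp6 (cmp6 s a) s)) u =
        cmp6 (cmp6 (cmp6 (cmp6 s a) s) u) (cmp6 (cmp6 s a) s) → u ≠ a → u ≠ b →
      (∀ x ∈ inv6, cmp6 x a = cmp6 a x → cmp6 x (cmp6 (cmp6 s b) s) = cmp6 (cmp6 (cmp6 s b) s) x →
        cmp6 (cmp6 (cmp6 x (cmp6 (cmp6 s a) s)) x) a =
          cmp6 (cmp6 (cmp6 (cmp6 s a) s) x) (cmp6 (cmp6 s a) s) →
        x ≠ cmp6 a (cmp6 (cmp6 s b) s) → x = cmp6 u a) ∧
      (u ≠ cmp6 a (cmp6 (cmp6 s b) s) ∧ u ≠ cmp6 (cmp6 s b) s) ∧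
      (∃ p ∈ all6, cmp6 p s = cmp6 (cmp6 (cmp6 a u) (cmp6 (cmp6 s b) s)) p) ∧
      (∃ p ∈ all6, (cmp6 p u = cmp6 a p ∧
          cmp6 p (cmp6 (cmp6 s b) s) = cmp6 (cmp6 (cmp6 s a) s) p) ∨
        (cmp6 p u = cmp6 (cmp6 (cmp6 s a) s) p ∧ cmp6 p (cmp6 (cmp6 s b) s) = cmp6 a p)) := by
  decide +kernel

theorem mid_facts : ∀ A ∈ reps6, ∀ B : P6, B * B = 1 → A * B * A = B * A * B → A ≠ B →
    ∀ S : P6, S * S = 1 → A * (S * A * S) = S * A * S * A → A * (S * B * S) = S * B * S * A →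
    B * (S * B * S) = S * B * S * B → A ≠ S * A * S →
    ∀ U : P6, U * U = 1 → U * A = A * U → U * (S * B * S) = S * B * S * U → U * B * U = B * U * B →
      U * (S * A * S) * U = S * A * S * U * (S * A * S) → U ≠ A → U ≠ B →
      (∀ X : P6, X * X = 1 → X * A = A * X → X * (S * B * S) = S * B * S * X →
        X * (S * A * S) * X * A = S * A * S * X * (S * A * S) → X ≠ A * (S * B * S) → X = U * A) ∧
      (U ≠ A * (S * B * S) ∧ U ≠ S * B * S) ∧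
      (∃ P : P6, P * S * P⁻¹ = A * U * (S * B * S)) ∧
      (∃ P : P6, (P * U * P⁻¹ = A ∧ P * (S * B * S) * P⁻¹ = S * A * S) ∨
        (P * U * P⁻¹ = S * A * S ∧ P * (S * B * S) * P⁻¹ = A)) := by
  intro A hA B hB h1 h2 S hS h3 h4 h5 h6 U hU h7 h8 h9 h10 h11 h12
  simp only [code6_iff, code6_mul, code6_one, ne_eq] at h1 h2 h3 h4 h5 h6 h7 h8 h9 h10 h11 h12
  obtain ⟨f1, f2, ⟨p, hp, f3⟩, q, hq, f4⟩ := mid_facts_nat _ (reps6_mem.1 hA) _ (code6_inv hB) h1 h2 _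
    (code6_inv hS) h3 h4 h5 h6 _ (code6_inv hU) h7 h8 h9 h10 h11 h12
  obtain ⟨P, rfl⟩ := code6_surj hp
  obtain ⟨Q, rfl⟩ := code6_surj hq
  refine ⟨fun X hX g1 g2 g3 g4 => ?_, ?_, ⟨P, ?_⟩, Q, ?_⟩
  · simp only [code6_iff, code6_mul, code6_one, ne_eq] at g1 g2 g3 g4 ⊢
    exact f1 _ (code6_inv hX) g1 g2 g3 g4
  · simp only [code6_iff, code6_mul, ne_eq]
    exact f2
  · rw [mul_inv_eq_iff_eq_mul]
    simp only [code6_iff, code6_mul]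
    exact f3
  · simp only [mul_inv_eq_iff_eq_mul]
    simp only [code6_iff, code6_mul]
    exact f4

theorem point_fact_nat : ∀ a ∈ repC6, ∀ b ∈ inv6, cmp6 (cmp6 a b) a = cmp6 (cmp6 b a) b → a ≠ b →
    ∀ c ∈ inv6, cmp6 (cmp6 b c) b = cmp6 (cmp6 c b) c → cmp6 a c = cmp6 c a → b ≠ c → a ≠ c →
    ∀ d ∈ inv6, cmp6 (cmp6 c d) c = cmp6 (cmp6 d c) d → cmp6 a d = cmp6 d a → cmp6 b d = cmp6 d b → c ≠ d →
    ∀ u ∈ inv6, cmp6 u a = cmp6 a u → cmp6 u d = cmp6 d u → cmp6 (cmp6 u b) u = cmp6 (cmp6 b u) b →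
      u ≠ a → u ≠ b → cmp6 u (cmp6 (cmp6 b c) b) = cmp6 (cmp6 (cmp6 b c) b) u := by
  decide +kernel

theorem point_fact : ∀ a ∈ reps6, ∀ b : P6, b * b = 1 → a * b * a = b * a * b → a ≠ b →
    ∀ c : P6, c * c = 1 → b * c * b = c * b * c → a * c = c * a → b ≠ c → a ≠ c →
    ∀ d : P6, d * d = 1 → c * d * c = d * c * d → a * d = d * a → b * d = d * b → c ≠ d →
    ∀ U : P6, U * U = 1 → U * a = a * U → U * d = d * U → U * b * U = b * U * b → U ≠ a → U ≠ b →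
      U * (b * c * b) = b * c * b * U := by
  intro a ha b hb h1 h2 c hc h3 h4 h5 h6 d hd g1 g2 g3 g4 U hU f1 f2 f3 f4 f5
  simp only [code6_iff, code6_mul, code6_one, ne_eq] at h1 h2 h3 h4 h5 h6 g1 g2 g3 g4 f1 f2 f3 f4 f5 ⊢
  exact point_fact_nat _ (reps6_mem.1 ha) _ (code6_inv hb) h1 h2 _ (code6_inv hc) h3 h4 h5 h6 _
    (code6_inv hd) g1 g2 g3 g4 _ (code6_inv hU) f1 f2 f3 f4 f5

end Cfsg.Agent.S8Three
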