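import Cfsg.Agent.Lib.S8Three.Model

/-!
Relations inside the chart used to build the Coxeter generators of `Sym(8)`.
-/

set_option autoImplicit false
set_option maxRecDepth 20000
set_option synthInstance.maxSize 4096

namespace Cfsg.Agent.S8Three

open Equiv

/-- `(12)` -/
def b0 : LL := (1, swap 1 2)
/-- `(13)` -/
def g13 : LL := (1, swap 1 3)
/-- `(24)` -/
def g24 : LL := (1, swap 2 4)
/-- `(14)`, conjugating `b0` to `g24` -/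
def g14 : LL := (1, swap 1 4)
/-- `(02)`, conjugating `tau0` to `b0` -/
def g02 : LL := (1, swap 0 2)
/-- `(13)(24)`, conjugating `t0` to `b0` -/
def q13 : LL := (1, swap 1 3 * swap 2 4)
/-- `(23)` -/
def g23 : LL := (1, swap 2 3)

theorem six_rels : b0 * b0 = 1 ∧ g13 * g13 = 1 ∧ g24 * g24 = 1 ∧
    b0 * t0 = t0 * b0 ∧ tau0 * b0 * tau0 = b0 * tau0 * b0 ∧ g02 * t0 = t0 * g02 ∧
    g02 * tau0 * g02⁻¹ = b0 ∧ g24 = g14 * b0 * g14⁻¹ ∧ g14 = t0 * g13 * t0 ∧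
    g13 = b0 * g23 * b0 ∧ q13 * t0 * q13⁻¹ = b0 ∧ b0 = tau0 * w0 ∧ g14 * t0 * g14⁻¹ = g13 ∧
    g13 * t0 * g13 = t0 * g13 * t0 ∧ t0 * g24 * t0 = g24 * t0 * g24 ∧
    tau0 * g13 * tau0 = g13 * tau0 * g13 ∧ tau0 * g24 = g24 * tau0 ∧ g13 * g24 = g24 * g13 ∧
    b0 * g23 * b0 = g23 * b0 * g23 ∧ tau0 * g23 = g23 * tau0 ∧ g23 * t0 * g23 = t0 * g23 * t0 ∧
    g23 * g23 = 1 ∧ e0 * tau0 * e0 = t0 ∧ e0 * jt0 * e0 = jt0 * t0 * tau0 ∧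
    j0 * (j0 * z0) * j0 = (j0 * z0) * j0 * (j0 * z0) ∧ (j0 * z0) * (j0 * z0) = 1 ∧
    jt0 * (jt0 * z0) * jt0 = (jt0 * z0) * jt0 * (jt0 * z0) ∧ (jt0 * z0) * (jt0 * z0) = 1 ∧
    e0 * (jt0 * z0) * e0 = jt0 * z0 * t0 * tau0 ∧ t0 * tau0 * jt0 = e0 * jt0 * e0 ∧
    t0 * b0 = (1, swap 1 2 * swap 3 4) := by
  decide +kernel

theorem small_comm : ∀ x ∈ [tau0, g13, t0, g24, b0, g23], ∀ y ∈ [j0, j0 * z0], x * y = y * x := by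
  decide +kernel

theorem six_ne : tau0 ≠ b0 ∧ g23 ≠ b0 ∧ tau0 ≠ g23 ∧ g23 ≠ t0 ∧ tau0 ≠ jt0 ∧ tau0 ≠ j0 ∧
    b0 ≠ 1 ∧ g23 ≠ 1 := by
  decide +kernel

end Cfsg.Agent.S8Three
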