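import Cfsg.Agent.Lib.S8Three.Dichotomy
import Cfsg.Agent.Lib.S8Three.SixModel
import Cfsg.Agent.Lib.S8Three.SixFacts
import Cfsg.Agent.Lib.SymPres.Coxeter
import Mathlib.GroupTheory.SpecificGroups.Alternating.Simple

/-!
If `C(t)/⟨t⟩` is `Sym(6)` then `G` contains `Sym(8)`.
-/

set_option autoImplicit false
set_option linter.style.haveILetI false
set_option maxRecDepth 20000

namespace Cfsg.Agent.S8Three

open Equiv Subgroup

/-- The Coxeter generators of `Sym(8)` along the chain `0,1,3,4,2,5,6,7`. -/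
def gen8 : ℕ → Perm (Fin 8)
  | 0 => swap 0 1
  | 1 => swap 1 3
  | 2 => swap 3 4
  | 3 => swap 4 2
  | 4 => swap 2 5
  | 5 => swap 5 6
  | 6 => swap 6 7
  | _ => 1

/-- The relabelling of the chain. -/
def chain8 : Perm (Fin 8) := swap 2 3 * swap 3 4

theorem chain8_adj : ∀ i < 7, chain8 * SymCoxeter.adj 7 i * chain8⁻¹ = gen8 i := by decide +kernel

theorem gen8_words : swap (0 : Fin 8) 1 * swap 1 2 =
      gen8 0 * ((gen8 2 * gen8 1 * gen8 2) * gen8 3 * (gen8 2 * gen8 1 * gen8 2)) ∧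
    swap (5 : Fin 8) 6 * swap 6 7 = gen8 5 * gen8 6 := by
  decide +kernel

theorem w_word : w0 = tau0 * ((t0 * g13 * t0) * g24 * (t0 * g13 * t0)) := by decide +kernel

theorem double_conj : ∃ q : LL, q * (j0 * t0) * q⁻¹ = g13 * (j0 * z0) := by decide +kernel

theorem kernel_trivial {H : Type*} [Group H] (φ : Perm (Fin 8) →* H)
    (h : φ (swap 0 1 * swap 1 2) ≠ 1) : Function.Injective φ := by
  rw [← MonoidHom.ker_eq_bot_iff]
  by_contra hne
  haveI : φ.ker.Normal := φ.normal_ker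
  refine h (MonoidHom.mem_ker.1 (Equiv.Perm.alternatingGroup_le_of_normal (α := Fin 8) (by simp)
    ((Subgroup.nontrivial_iff_ne_bot _).2 hne) ?_))
  rw [Perm.mem_alternatingGroup]
  decide +kernel

namespace Cfg

variable {G : Type*} [Group G] [Finite G] (C : Cfg G)
include C

/-- A conjugate of `τ` by an element of `C(t)`. -/
def Tr (y : G) : Prop := ∃ p, p * C.F t0 = C.F t0 * p ∧ y = p * C.F tau0 * p⁻¹

theorem tr_conj {y p : G} (hy : C.Tr y) (hp : p * C.F t0 = C.F t0 * p) : C.Tr (p * y * p⁻¹) := by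
  obtain ⟨q, hq, rfl⟩ := hy
  exact ⟨p * q, (Commute.mul_left hp hq).eq, by group⟩

theorem t_tau : C.F tau0 * C.F t0 = C.F t0 * C.F tau0 := C.F_comm.2 rel_facts.2.2.2.1

theorem tr_comm {y : G} (hy : C.Tr y) : y * C.F t0 = C.F t0 * y := by
  obtain ⟨q, hq, rfl⟩ := hy
  exact ((Commute.mul_left hq C.t_tau).mul_left (Commute.inv_left hq)).eq

theorem tr_sq {y : G} (hy : C.Tr y) : y * y = 1 := by
  obtain ⟨q, -, rfl⟩ := hy
  calc q * C.F tau0 * q⁻¹ * (q * C.F tau0 * q⁻¹) = q * (C.F tau0 * C.F tau0) * q⁻¹ := by group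
    _ = 1 := by rw [← map_mul, rel_facts.1, map_one, mul_one, mul_inv_cancel]

theorem tau_conj_t : IsConj (C.F t0) (C.F tau0) := by
  refine isConj_iff.2 ⟨C.F e0, ?_⟩
  rw [← map_inv, ← map_mul, ← map_mul, inv_of_sq rel_facts.2.2.2.2.2.2.2.2.1,
    rel_facts.2.2.2.2.2.2.2.2.2.1]

theorem tr_class {y : G} (hy : C.Tr y) : IsConj (C.F t0) y := by
  obtain ⟨q, -, rfl⟩ := hy
  exact C.tau_conj_t.trans (isConj_iff.2 ⟨q, rfl⟩)

/-- The only conjugate of `τ` over its image modulo `t`. -/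
theorem tr_not {y : G} (hy : C.Tr y) : ¬ C.Tr (y * C.F t0) := by
  obtain ⟨q, hq, rfl⟩ := hy
  intro h
  refine C.t_ne_a ((C.tr_class h).trans (IsConj.symm (isConj_iff.2 ⟨q, ?_⟩)))
  rw [rel_facts.2.2.1, map_mul]
  calc q * (C.F tau0 * C.F t0) * q⁻¹ = q * C.F tau0 * q⁻¹ * (q * C.F t0 * q⁻¹) := by group
    _ = _ := by rw [hq, mul_inv_cancel_right]

end Cfg

/-- The data of the case: `C(t)/⟨t⟩ ≅ Sym(6)`, read through a homomorphism defined on `C(t)`. -/
structure Six {G : Type*} [Group G] [Finite G] (C : Cfg G) where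
  /-- the map -/
  φ : centralizer ({C.F t0} : Set G) →* P6
  surj : Function.Surjective φ
  ker : ∀ x, φ x = 1 ↔ (x : G) = 1 ∨ (x : G) = C.F t0

namespace Six

variable {G : Type*} [Group G] [Finite G] {C : Cfg G} (S : Six C)
include S

open Classical in
/-- The map, totalised. -/
noncomputable def ev (x : G) : P6 :=
  if h : x ∈ centralizer ({C.F t0} : Set G) then S.φ ⟨x, h⟩ else 1

theorem ev_eq (x : centralizer ({C.F t0} : Set G)) : S.ev x = S.φ x := by
  rw [ev, dif_pos x.2]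

theorem ev_mul {x y : G} (hx : x * C.F t0 = C.F t0 * x) (hy : y * C.F t0 = C.F t0 * y) :
    S.ev (x * y) = S.ev x * S.ev y := by
  have := map_mul S.φ ⟨x, mem_centralizer_singleton_iff.2 hx⟩ ⟨y, mem_centralizer_singleton_iff.2 hy⟩
  rwa [← ev_eq, ← ev_eq, ← ev_eq] at this

theorem ev_t : S.ev (C.F t0) = 1 := by
  rw [← Subgroup.coe_mk (centralizer ({C.F t0} : Set G)) (C.F t0) (mem_centralizer_singleton_iff.2 rfl),
    ev_eq, S.ker]
  exact Or.inr rfl

theorem ev_one : S.ev 1 = 1 := by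
  rw [← Subgroup.coe_one (centralizer ({C.F t0} : Set G)), ev_eq, map_one]

theorem ev_inv {x : G} (hx : x * C.F t0 = C.F t0 * x) : S.ev x⁻¹ = (S.ev x)⁻¹ := by
  refine eq_inv_of_mul_eq_one_right ?_
  rw [← S.ev_mul hx (Commute.inv_left hx).eq, mul_inv_cancel, ev_one]

theorem ev_conj {x y : G} (hx : x * C.F t0 = C.F t0 * x) (hy : y * C.F t0 = C.F t0 * y) :
    S.ev (x * y * x⁻¹) = S.ev x * S.ev y * (S.ev x)⁻¹ := by
  rw [S.ev_mul (Commute.mul_left hx hy).eq (Commute.inv_left hx).eq, S.ev_mul hx hy, S.ev_inv hx]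

theorem ev_cases {x y : G} (hx : x * C.F t0 = C.F t0 * x) (hy : y * C.F t0 = C.F t0 * y)
    (h : S.ev x = S.ev y) : x = y ∨ x = y * C.F t0 := by
  have h1 : S.ev (y⁻¹ * x) = 1 := by
    rw [S.ev_mul (Commute.inv_left hy).eq hx, S.ev_inv hy, h, inv_mul_cancel]
  rw [← Subgroup.coe_mk (centralizer ({C.F t0} : Set G)) (y⁻¹ * x)
    (mem_centralizer_singleton_iff.2 ((Commute.mul_left (Commute.inv_left hy) hx).eq)), ev_eq, S.ker] at h1
  rcases h1 with e | e
  · exact Or.inl (inv_mul_eq_one.1 e).symm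
  · exact Or.inr (by rw [← e]; simp)

theorem tr_eq {x y : G} (hx : C.Tr x) (hy : C.Tr y) (h : S.ev x = S.ev y) : x = y :=
  (S.ev_cases (C.tr_comm hx) (C.tr_comm hy) h).resolve_right fun e => C.tr_not hy (e ▸ hx)

theorem tr_commute {x y : G} (hx : C.Tr x) (hy : C.Tr y) (h : S.ev x * S.ev y = S.ev y * S.ev x) :
    x * y = y * x := by
  have h1 := S.tr_eq (C.tr_conj hy (C.tr_comm hx)) hy (by
    rw [S.ev_conj (C.tr_comm hx) (C.tr_comm hy), h, mul_inv_cancel_right])
  exact mul_inv_eq_iff_eq_mul.1 h1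

theorem tr_braid {x y : G} (hx : C.Tr x) (hy : C.Tr y)
    (h : S.ev x * S.ev y * S.ev x = S.ev y * S.ev x * S.ev y) : x * y * x = y * x * y := by
  have ix := inv_of_sq (C.tr_sq hx)
  have iy := inv_of_sq (C.tr_sq hy)
  have cx := C.tr_comm hx
  have cy := C.tr_comm hy
  have h1 : C.Tr (x * y * x) := by
    have := C.tr_conj hy cx; rwa [ix] at this
  have h2 : C.Tr (y * x * y) := by
    have := C.tr_conj hx cy; rwa [iy] at this
  refine S.tr_eq h1 h2 ?_
  rw [S.ev_mul (Commute.mul_left cx cy).eq cx, S.ev_mul cx cy, S.ev_mul (Commute.mul_left cy cx).eq cy,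
    S.ev_mul cy cx, h]

/-- The main construction. -/
theorem exists_hom : C.ε = false ∧ ∃ Φ : Perm (Fin 8) →* G, Function.Injective Φ ∧
    Φ (swap 3 4) = C.F t0 ∧ Φ (swap 0 1) = C.F tau0 ∧ Φ (swap 5 6) = C.F j0 ∧
    Φ (swap 1 3) = C.F g13 ∧
    Φ (swap 0 1 * swap 1 2) = C.F w0 ∧ Φ (swap 5 6 * swap 6 7) = C.F z0 := by
  classical
  set t := C.F t0 with ht
  set τ := C.F tau0 with hτ
  set B := C.F b0 with hB
  set C0 := C.s * τ * C.s with hC0
  set C1 := C.s * B * C.s with hC1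
  have hst := C.s_comm_t
  have hs1 : C.s⁻¹ = C.s := inv_of_sq C.ss
  obtain ⟨rb, r13, r24, rbt, rbr, r02, r02c, r24c, r14, r13c, rq, rbw, r14c, r13t, rt24, rτ13, rτ24,
    r1324, rb23, rτ23, r23t, r23, reτ, rejt, rj, rj2, rjt, rjt2, rej, rtj, -⟩ := six_rels
  have Tτ : C.Tr τ := ⟨1, by simp, by simp [hτ]⟩
  have TB : C.Tr B := ⟨C.F g02, C.F_comm.2 r02, by
    rw [hB, ← map_inv, ← map_mul, ← map_mul, r02c]⟩
  have T0 : C.Tr C0 := by have := C.tr_conj Tτ hst; rwa [hs1] at this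
  have T1 : C.Tr C1 := by have := C.tr_conj TB hst; rwa [hs1] at this
  have hsc : ∀ x, x * t = t * x → S.ev (C.s * x * C.s) = S.ev C.s * S.ev x * S.ev C.s := fun x hx => by
    rw [S.ev_mul (Commute.mul_left hst hx).eq hst, S.ev_mul hst hx]
  have cτ : τ * t = t * τ := C.tr_comm Tτ
  have cB : B * t = t * B := C.tr_comm TB
  have cC1 : C1 * t = t * C1 := C.tr_comm T1
  have cC0 : C0 * t = t * C0 := C.tr_comm T0
  -- the configuration
  set A := S.ev τ with hA
  set B' := S.ev B with hB'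
  set S' := S.ev C.s with hS'
  have eC0 : S.ev C0 = S' * A * S' := hsc τ cτ
  have eC1 : S.ev C1 = S' * B' * S' := hsc B cB
  have sq_ev : ∀ {x}, x * t = t * x → x * x = 1 → S.ev x * S.ev x = 1 := fun {x} hx h => by
    rw [← S.ev_mul hx hx, h, S.ev_one]
  have hne1 : ∀ {p : LL}, p * t0 = t0 * p → p ≠ 1 → p ≠ t0 → S.ev (C.F p) ≠ 1 := fun {p} hp h1 h2 e => by
    rcases S.ev_cases (C.F_comm.2 hp) (y := 1) (by simp) (e.trans S.ev_one.symm) with h | h
    · exact h1 (C.F_inj (h.trans (map_one C.F).symm))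
    · rw [one_mul] at h; exact h2 (C.F_inj h)
  obtain ⟨X, hX⟩ := six_reps A (sq_ev cτ (C.tr_sq Tτ)) (hne1 rel_facts.2.2.2.1 (by decide +kernel) (by decide +kernel))
  -- conjugate the coordinates
  let ψ : P6 → P6 := fun x => X * x * X⁻¹
  have ψm : ∀ x y, ψ (x * y) = ψ x * ψ y := fun x y => by simp only [ψ]; group
  have ψi : ∀ {x y}, ψ x = ψ y → x = y := fun {x y} h => mul_left_cancel (mul_right_cancel h)
  have ψ1 : ψ 1 = 1 := by simp [ψ]
  have hpair : ∀ {p q : LL}, p * t0 = t0 * p → q * t0 = t0 * q → p * q = q * p →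
      ψ (S.ev (C.F p)) * ψ (S.ev (C.F q)) = ψ (S.ev (C.F q)) * ψ (S.ev (C.F p)) := fun {p q} hp hq h => by
    rw [← ψm, ← ψm, ← S.ev_mul (C.F_comm.2 hp) (C.F_comm.2 hq), ← S.ev_mul (C.F_comm.2 hq) (C.F_comm.2 hp),
      C.F_comm.2 h]
  have hC0F : C0 = C.F (bif C.ε then jt0 else j0) := C.stau
  have hC1F : C1 = C.F ((bif C.ε then jt0 else j0) * z0) := by
    rw [hC1, hB, rbw, map_mul, C.sconj_mul, C.sw, C.stau, ← map_mul]
  have hcz : ∀ x ∈ [tau0, b0], ∀ y ∈ [bif C.ε then jt0 else j0, (bif C.ε then jt0 else j0) * z0],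
      x * y = y * x ∧ y * t0 = t0 * y ∧ x ≠ y := by
    cases C.ε <;> decide +kernel
  have conf1 : ψ A * (ψ S' * ψ A * ψ S') = ψ S' * ψ A * ψ S' * ψ A := by
    rw [← ψm, ← ψm, ← eC0, hA, hτ, hC0F]
    exact hpair rel_facts.2.2.2.1 (hcz tau0 (by simp) _ List.mem_cons_self).2.1
      (hcz tau0 (by simp) _ List.mem_cons_self).1
  have conf2 : ψ A * (ψ S' * ψ B' * ψ S') = ψ S' * ψ B' * ψ S' * ψ A := by
    rw [← ψm, ← ψm, ← eC1, hA, hτ, hC1F]
    exact hpair rel_facts.2.2.2.1 (hcz tau0 (by simp) _ (List.mem_cons_of_mem _ (List.mem_singleton_self _))).2.1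
      (hcz tau0 (by simp) _ (List.mem_cons_of_mem _ (List.mem_singleton_self _))).1
  have conf3 : ψ B' * (ψ S' * ψ B' * ψ S') = ψ S' * ψ B' * ψ S' * ψ B' := by
    rw [← ψm, ← ψm, ← eC1, hB', hB, hC1F]
    exact hpair rbt (hcz tau0 (by simp) _ (List.mem_cons_of_mem _ (List.mem_singleton_self _))).2.1
      (hcz b0 (by simp) _ (List.mem_cons_of_mem _ (List.mem_singleton_self _))).1
  have hsq : ∀ {x}, x * x = 1 → ψ x * ψ x = 1 := fun {x} h => by rw [← ψm, h, ψ1]
  have hbr : ψ A * ψ B' * ψ A = ψ B' * ψ A * ψ B' := by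
    rw [← ψm, ← ψm, ← ψm, ← ψm, hA, hB', ← S.ev_mul cτ cB, ← S.ev_mul (Commute.mul_left cτ cB).eq cτ,
      ← S.ev_mul cB cτ, ← S.ev_mul (Commute.mul_left cB cτ).eq cB, hτ, hB, ← map_mul, ← map_mul, rbr,
      map_mul, map_mul]
  have hAB : ψ A ≠ ψ B' := fun e => six_ne.1 (C.F_inj (S.tr_eq Tτ TB (ψi e)))
  have hAC : ψ A ≠ ψ S' * ψ A * ψ S' := fun e => (hcz tau0 (by simp) _ (List.mem_cons_self)).2.2
    (C.F_inj ((S.tr_eq Tτ T0 (ψi (by rw [eC0, ψm, ψm]; exact e))).trans hC0F))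
  have hsS : S' * S' = 1 := sq_ev hst C.ss
  have hsB : B' * B' = 1 := sq_ev cB (C.tr_sq TB)
  have hX' : ψ A ∈ reps6 := hX
  obtain ⟨U0, hU⟩ := mid_exists _ hX' _ (hsq hsB) hbr hAB _ (hsq hsS) conf1 conf2 conf3 hAC
  obtain ⟨U, rfl⟩ : ∃ U, ψ U = U0 := ⟨X⁻¹ * U0 * X, by simp only [ψ]; group⟩
  obtain ⟨hU2, hUA, hUD, hUB, hUC, hUneA, hUneB⟩ := hU
  obtain ⟨hfact, ⟨hUAD, hUDd⟩, ⟨P1, hP1⟩, ⟨P2, hP2⟩⟩ :=
    mid_facts _ hX' _ (hsq hsB) hbr hAB _ (hsq hsS) conf1 conf2 conf3 hAC _ hU2 hUA hUD hUB hUC hUneA hUneB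
  simp only [← ψm] at hUA hUD hUB hUC hU2 hP1 hP2
  have eUA : U * A = A * U := ψi hUA
  have eUD : U * (S' * B' * S') = S' * B' * S' * U := ψi hUD
  have eUB : U * B' * U = B' * U * B' := ψi hUB
  have eUC : U * (S' * A * S') * U = S' * A * S' * U * (S' * A * S') := ψi hUC
  have eU2 : U * U = 1 := ψi (hU2.trans ψ1.symm)
  -- the lift
  obtain ⟨v, hv⟩ := S.surj U
  have cv : (v : G) * t = t * v := mem_centralizer_singleton_iff.1 v.2
  set u := B * v * B * (B * v)⁻¹ with hu
  have Tu : C.Tr u := C.tr_conj TB (Commute.mul_left cB cv).eq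
  have eu : S.ev u = U := by
    rw [hu, S.ev_conj (Commute.mul_left cB cv).eq cB, S.ev_mul cB cv, S.ev_eq, hv, ← hB', mul_inv_rev,
      inv_of_sq hsB, inv_of_sq eU2]
    calc B' * U * B' * (U * B') = B' * (U * B' * U) * B' := by group
      _ = B' * B' * U * (B' * B') := by rw [eUB]; group
      _ = U := by rw [hsB, one_mul, mul_one]
  have cu : u * t = t * u := C.tr_comm Tu
  have eDA : S' * B' * S' * A = A * (S' * B' * S') := ψi (by simpa only [ψm] using conf2.symm)
  have hτC : τ * C1 = C1 * τ := S.tr_commute Tτ T1 (by rw [eC1]; exact eDA.symm)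
  have uτ : u * τ = τ * u := S.tr_commute Tu Tτ (by rw [eu]; exact eUA)
  have uC1 : u * C1 = C1 * u := S.tr_commute Tu T1 (by rw [eu, eC1]; exact eUD)
  have uB : u * B * u = B * u * B := S.tr_braid Tu TB (by rw [eu]; exact eUB)
  have uC0 : u * C0 * u = C0 * u * C0 := S.tr_braid Tu T0 (by rw [eu, eC0]; exact eUC)
  -- the type
  have hε : C.ε = false := by
    by_contra hne
    rw [Bool.not_eq_false] at hne
    rw [hne, cond_true] at hC0F hC1F
    set h := C.F e0 with hh
    have hh2 : h * h = 1 := by rw [hh, ← map_mul, rel_facts.2.2.2.2.2.2.2.2.1, map_one]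
    have hc : ∀ a b : G, h * (a * b) * h = (h * a * h) * (h * b * h) := fun a b => by
      calc h * (a * b) * h = h * a * 1 * b * h := by group
        _ = h * a * (h * h) * b * h := by rw [hh2]
        _ = _ := by group
    have hτh : h * τ * h = t := by rw [hh, hτ, ← map_mul, ← map_mul, reτ]
    have hth : h * t * h = τ := by rw [hh, ht, ← map_mul, ← map_mul, rel_facts.2.2.2.2.2.2.2.2.2.1]
    have hC0h : h * C0 * h = C0 * t * τ := by
      rw [hh, hC0F, ← map_mul, ← map_mul, rejt, map_mul, map_mul]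
    have hC1h : h * C1 * h = C1 * t * τ := by
      rw [hh, hC1F, ← map_mul, ← map_mul, rej, map_mul, map_mul]
    set x := h * u * h with hx
    have xt : x * t = t * x := by rw [hx, ← hτh, ← hc, ← hc, uτ]
    have xτ : x * τ = τ * x := by rw [hx, ← hth, ← hc, ← hc, cu]
    have xx : x * x = 1 := by rw [hx, ← hc, C.tr_sq Tu, mul_one, hh2]
    have htt : t * t = 1 := by rw [ht, ← map_mul, rel_facts.2.1, map_one]
    have hττ : τ * τ = 1 := C.tr_sq Tτ
    have itt : t⁻¹ = t := inv_of_sq htt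
    have iττ : τ⁻¹ = τ := inv_of_sq hττ
    have xC1 : x * C1 = C1 * x := by
      have e : x * (C1 * t * τ) = C1 * t * τ * x := by rw [hx, ← hC1h, ← hc, ← hc, uC1]
      calc x * C1 = x * (C1 * t * τ) * (τ⁻¹ * t⁻¹) := by group
        _ = C1 * t * τ * (x * (τ * t)) := by rw [e, iττ, itt]; group
        _ = C1 * t * τ * (τ * t * x) := by rw [(Commute.mul_right xτ xt).eq]
        _ = C1 * (t * (τ * τ) * t) * x := by group
        _ = _ := by rw [hττ, mul_one, htt, mul_one]
    have τC0 : τ * C0 = C0 * τ := by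
      rw [hτ, hC0F]; exact C.F_comm.2 (by decide +kernel)
    have xC0 : x * C0 * x * (t * τ) = C0 * x * C0 := by
      have e : x * (C0 * t * τ) * x = C0 * t * τ * x * (C0 * t * τ) := by
        rw [hx, ← hC0h, ← hc, ← hc, ← hc, ← hc, uC0]
      calc x * C0 * x * (t * τ) = x * C0 * (x * (t * τ)) := by group
        _ = x * C0 * (t * τ * x) := by rw [(Commute.mul_right xt xτ).eq]
        _ = x * (C0 * t * τ) * x := by group
        _ = C0 * ((t * τ) * (x * C0)) * (t * τ) := by rw [e]; group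
        _ = C0 * ((x * C0) * (t * τ)) * (t * τ) := by
            rw [show t * τ * (x * C0) = x * C0 * (t * τ) from
              ((Commute.mul_right xt xτ).mul_left (Commute.mul_right cC0 τC0.symm)).symm.eq]
        _ = C0 * x * C0 * (t * (τ * t) * τ) := by group
        _ = _ := by
            rw [cτ, ← mul_assoc t t τ, htt, one_mul, hττ, mul_one]
    have evt : S.ev t = 1 := S.ev_t
    have etτ : S.ev (t * τ) = A := by rw [S.ev_mul rfl cτ, evt, one_mul]
    have hXX : S.ev x = U * A := by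
      refine ψi ?_
      rw [ψm]
      refine hfact (ψ (S.ev x)) (hsq (sq_ev xt xx)) ?_ ?_ ?_ ?_
      · rw [← ψm, ← ψm, hA, ← S.ev_mul xt cτ, xτ, S.ev_mul cτ xt]
      · rw [← ψm, ← ψm, ← ψm, ← ψm, ← eC1, ← S.ev_mul xt (C.tr_comm T1), xC1, S.ev_mul (C.tr_comm T1) xt]
      · have h0 := congrArg S.ev xC0
        rw [S.ev_mul ((Commute.mul_left xt cC0).mul_left xt).eq (Commute.mul_left (Commute.refl t) cτ).eq,
          etτ, S.ev_mul (Commute.mul_left xt cC0).eq xt, S.ev_mul xt cC0,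
          S.ev_mul (Commute.mul_left cC0 xt).eq cC0, S.ev_mul cC0 xt, eC0] at h0
        simp only [← ψm]
        rw [h0]
      · intro e
        simp only [← ψm] at e
        have e' := ψi e
        rw [← eC1, ← S.ev_mul cτ (C.tr_comm T1)] at e'
        -- then `u` would be a product of `C1` and `τ`
        have huu : ∀ y, x = y → u = h * y * h := fun y hy => by
          rw [← hy, hx]
          calc u = (h * h) * u * (h * h) := by rw [hh2, one_mul, mul_one]
            _ = _ := by group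
        have hval : t * (C1 * t * τ) = C1 * τ := by
          calc t * (C1 * t * τ) = (t * C1) * t * τ := by group
            _ = C1 * (t * t) * τ := by rw [← cC1]; group
            _ = C1 * τ := by rw [htt, mul_one]
        rcases S.ev_cases xt (Commute.mul_left cτ cC1).eq e' with r | r
        · have := congrArg S.ev (huu _ r)
          rw [hc, hτh, hC1h, hval, S.ev_mul cC1 cτ, eu, eC1] at this
          exact hUAD (by rw [this, eDA, ψm, ψm, ψm])
        · have := congrArg S.ev (huu _ (r : x = τ * C1 * t))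
          rw [hc, hc, hτh, hC1h, hth, hval, mul_assoc, hττ, mul_one, eu, eC1] at this
          exact hUDd (by rw [this, ψm, ψm])
    -- the possible values of `x`
    have euτ : S.ev (u * τ) = U * A := by rw [S.ev_mul cu cτ, eu]
    rcases S.ev_cases xt (Commute.mul_left cu cτ).eq (hXX.trans euτ.symm) with r | r
    · -- `x = u τ`
      have hk : t * τ = τ := by
        have huu : u * τ * C0 * (u * τ) = u * C0 * u := by
          calc u * τ * C0 * (u * τ) = u * (τ * C0) * (u * τ) := by group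
            _ = u * C0 * (τ * (u * τ)) := by rw [τC0]; group
            _ = u * C0 * u := by rw [uτ, ← mul_assoc τ τ u, hττ, one_mul]
        have hvv : C0 * (u * τ) * C0 = u * C0 * u * τ := by
          rw [uC0, mul_assoc C0 (u * τ), mul_assoc u τ, τC0]; group
        have h0 := xC0
        rw [r, huu, hvv] at h0
        exact mul_left_cancel h0
      exact rel_facts.2.2.2.2.2.2.2.2.2.2.2.2.2.2.2.1
        (C.F_inj ((mul_eq_right.1 hk).trans (map_one C.F).symm))
    · -- `x = u τ t`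
      obtain ⟨p, hp⟩ : ∃ p : centralizer ({t} : Set G), S.φ p = X⁻¹ * P2 * X := S.surj _
      have cp : (p : G) * t = t * p := mem_centralizer_singleton_iff.1 p.2
      have hconj : ∀ a b : P6, P2 * ψ a * P2⁻¹ = ψ b → (X⁻¹ * P2 * X) * a * (X⁻¹ * P2 * X)⁻¹ = b :=
        fun a b e => by
          apply ψi
          rw [← e]; simp only [ψ]; group
      have e1 : IsConj (t * u * C1) (t * τ * C0) := by
        refine isConj_iff.2 ⟨(p : G), ?_⟩
        have hd : (p : G) * (t * u * C1) * (p : G)⁻¹ = t * ((p : G) * u * (p : G)⁻¹) * ((p : G) * C1 * (p : G)⁻¹) := by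
          calc (p : G) * (t * u * C1) * (p : G)⁻¹ = ((p : G) * t) * u * C1 * (p : G)⁻¹ := by group
            _ = (t * p) * u * C1 * (p : G)⁻¹ := by rw [cp]
            _ = _ := by group
        rw [hd]
        have key : ∀ {a b : G}, C.Tr a → C.Tr b → P2 * ψ (S.ev a) * P2⁻¹ = ψ (S.ev b) →
            (p : G) * a * (p : G)⁻¹ = b := fun {a b} ha hb e =>
          S.tr_eq (C.tr_conj ha cp) hb (by rw [S.ev_conj cp (C.tr_comm ha), S.ev_eq, hp, hconj _ _ e])
        rcases hP2 with ⟨h1, h2⟩ | ⟨h1, h2⟩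
        · rw [key Tu Tτ (by rw [eu]; exact h1), key T1 T0 (by rw [eC1, eC0]; exact h2)]
        · rw [key Tu T0 (by rw [eu, eC0]; exact h1), key T1 Tτ (by rw [eC1]; exact h2), mul_assoc,
            ← τC0, mul_assoc]
      have e2 : IsConj t (t * τ * C0) := by
        refine ((C.tr_class T0).trans (isConj_iff.2 ⟨h, ?_⟩))
        rw [inv_of_sq hh2, hC0h, mul_assoc, ← (Commute.mul_left cC0.symm τC0).eq]
      have e3 : IsConj t (τ * u * C1) := by
        refine (e2.trans e1.symm).trans (isConj_iff.2 ⟨h, ?_⟩)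
        rw [inv_of_sq hh2, hc, hc, hth, ← hx, r, hC1h]
        calc τ * (u * τ * t) * (C1 * t * τ) = τ * u * τ * (t * C1) * t * τ := by group
          _ = τ * u * τ * C1 * (t * t) * τ := by rw [← cC1]; group
          _ = τ * u * (τ * C1 * τ) := by rw [htt, mul_one]; group
          _ = _ := by
            rw [hτC, mul_assoc C1, hττ, mul_one]
      obtain ⟨p', hp'⟩ : ∃ p' : centralizer ({t} : Set G), S.φ p' = X⁻¹ * P1 * X := S.surj _
      have cp' : (p' : G) * t = t * p' := mem_centralizer_singleton_iff.1 p'.2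
      have hev : S.ev ((p' : G) * C.s * (p' : G)⁻¹) = S.ev (τ * u * C1) := by
        rw [S.ev_conj cp' hst, S.ev_eq, hp', S.ev_mul (Commute.mul_left cτ cu).eq (C.tr_comm T1),
          S.ev_mul cτ cu, eu, eC1, ← hA, ← hS']
        apply ψi
        rw [← hP1]; simp only [ψ]; group
      rcases S.ev_cases ((Commute.mul_left cp' hst).mul_left (Commute.inv_left cp')).eq
        ((Commute.mul_left cτ cu).mul_left cC1).eq hev with r' | (r' : _ = _ * t)
      · exact C.t_ne_s (e3.trans (IsConj.symm (isConj_iff.2 ⟨(p' : G), r'⟩)))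
      · refine C.t_ne_st (e3.trans (IsConj.symm (isConj_iff.2 ⟨(p' : G), ?_⟩)))
        calc (p' : G) * (C.s * t) * (p' : G)⁻¹ = (p' : G) * C.s * (t * (p' : G)⁻¹) := by group
          _ = (p' : G) * C.s * ((p' : G)⁻¹ * t) := by rw [(Commute.inv_left cp').eq]
          _ = (p' : G) * C.s * (p' : G)⁻¹ * t := by group
          _ = _ := by rw [r', mul_assoc, htt, mul_one]
  refine ⟨hε, ?_⟩
  rw [hε, cond_false] at hC0F hC1F
  -- `u` commutes with `(13)`
  set p := (C.s * C.F q13)⁻¹ with hp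
  have hp1 : p * C1 * p⁻¹ = t := by
    rw [hp, hC1, hB, ← rq, map_mul, map_mul, map_inv, ← ht]
    calc (C.s * C.F q13)⁻¹ * (C.s * (C.F q13 * t * (C.F q13)⁻¹) * C.s) * (C.s * C.F q13)⁻¹⁻¹
        = (C.F q13)⁻¹ * (C.s⁻¹ * C.s) * (C.F q13 * t * (C.F q13)⁻¹) * (C.s * C.s) * C.F q13 := by group
      _ = t := by rw [C.ss, inv_mul_cancel]; group
  have hcomm : ∀ y : G, y * C1 = C1 * y → (p * y * p⁻¹) * t = t * (p * y * p⁻¹) := fun y hy => by
    rw [← hp1]
    calc p * y * p⁻¹ * (p * C1 * p⁻¹) = p * (y * C1) * p⁻¹ := by group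
      _ = p * (C1 * y) * p⁻¹ := by rw [hy]
      _ = _ := by group
  let χ : G → P6 := fun y => S.ev (p * y * p⁻¹)
  have χm : ∀ y y', y * C1 = C1 * y → y' * C1 = C1 * y' → χ (y * y') = χ y * χ y' := fun y y' h h' => by
    show S.ev _ = _
    rw [show p * (y * y') * p⁻¹ = (p * y * p⁻¹) * (p * y' * p⁻¹) by group]
    exact S.ev_mul (hcomm y h) (hcomm y' h')
  have χcases : ∀ y y', y * C1 = C1 * y → y' * C1 = C1 * y' → χ y = χ y' → y = y' ∨ y = y' * C1 := by
    intro y y' h h' e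
    rcases S.ev_cases (hcomm y h) (hcomm y' h') e with r | (r : _ = _ * t)
    · exact Or.inl (mul_left_cancel (mul_right_cancel r))
    · refine Or.inr (mul_left_cancel (a := p) (mul_right_cancel (b := p⁻¹) ?_))
      rw [r, ← hp1]; group
  have cF : ∀ x ∈ [tau0, g13, t0, g24, b0, g23], C.F x * C1 = C1 * C.F x := fun x hx => by
    rw [hC1F]; exact C.F_comm.2 (small_comm x hx _ (by simp))
  have χone : χ 1 = 1 := by show S.ev _ = 1; rw [mul_one, mul_inv_cancel, S.ev_one]
  have hCoutside : ∀ q : LL, q.1 = 1 → C.F q ≠ C1 := fun q hq e => by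
    rw [hC1F] at e
    have := congrArg Prod.fst (C.F_inj e)
    rw [hq] at this
    exact absurd this (by decide +kernel)
  have hne : ∀ x ∈ [tau0, g13, t0, g24, b0, g23], ∀ y ∈ [tau0, g13, t0, g24, b0, g23], x ≠ y →
      χ (C.F x) ≠ χ (C.F y) := fun x hx y hy h e => by
    have h1 : ∀ z ∈ [tau0, g13, t0, g24, b0, g23], z.1 = 1 := by decide +kernel
    rcases χcases _ _ (cF x hx) (cF y hy) e with r | r
    · exact h (C.F_inj r)
    · refine hCoutside (y⁻¹ * x) (by simp [h1 x hx, h1 y hy]) ?_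
      rw [map_mul, map_inv, r, inv_mul_cancel_left]
  have hsq2 : ∀ x ∈ [tau0, g13, t0, g24, b0, g23], x * x = 1 → χ (C.F x) * χ (C.F x) = 1 := fun x hx h => by
    rw [← χm _ _ (cF x hx) (cF x hx), ← map_mul, h, map_one, χone]
  obtain ⟨Y, hY⟩ := six_reps (χ τ) (hsq2 tau0 (by simp) rel_facts.1) (fun e => by
    rcases χcases τ 1 (cF tau0 (by simp)) (by simp) (e.trans χone.symm) with r | r
    · exact rel_facts.2.2.2.2.2.2.2.2.2.2.2.2.2.2.1 (C.F_inj (r.trans (map_one C.F).symm))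
    · exact hCoutside tau0 rfl (r.trans (one_mul _)))
  let χ' : G → P6 := fun y => Y * χ y * Y⁻¹
  have χ'm : ∀ y y', y * C1 = C1 * y → y' * C1 = C1 * y' → χ' (y * y') = χ' y * χ' y' := fun y y' h h' => by
    show Y * χ (y * y') * Y⁻¹ = _
    rw [χm y y' h h']; simp only [χ']; group
  have χ'comm : ∀ y y', y * C1 = C1 * y → y' * C1 = C1 * y' → y * y' = y' * y →
      χ' y * χ' y' = χ' y' * χ' y := fun y y' h h' e => by rw [← χ'm y y' h h', e, χ'm y' y h' h]
  have χ'braid : ∀ y y', y * C1 = C1 * y → y' * C1 = C1 * y' → y * y' * y = y' * y * y' →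
      χ' y * χ' y' * χ' y = χ' y' * χ' y * χ' y' := fun y y' h h' e => by
    rw [← χ'm y y' h h', ← χ'm _ y (Commute.mul_left h h').eq h, e, χ'm _ y' (Commute.mul_left h' h).eq h',
      χ'm y' y h' h]
  have χ'sq : ∀ y, y * C1 = C1 * y → y * y = 1 → χ' y * χ' y = 1 := fun y h e => by
    rw [← χ'm y y h h, e]; simp only [χ']; rw [χone, mul_one, mul_inv_cancel]
  have χ'i : ∀ {a b}, χ' a = χ' b → χ a = χ b := fun {a b} e => mul_left_cancel (mul_right_cancel e)
  have uneτ : χ' u ≠ χ' τ := fun e => by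
    rcases χcases _ _ uC1 (cF tau0 (by simp)) (χ'i e) with r | r
    · exact hUneA (by rw [← eu, r])
    · exact hUAD (by rw [← eu, r, S.ev_mul cτ (C.tr_comm T1), eC1, ψm, ψm, ψm])
  have uneB : χ' u ≠ χ' B := fun e => by
    rcases χcases _ _ uC1 (cF b0 (by simp)) (χ'i e) with r | r
    · exact hUneB (by rw [← eu, r])
    · -- `u` commutes with `B` then
      have h1 : u * B = B * u := by
        rw [r, mul_assoc, ← cF b0 (by simp), ← mul_assoc]
      have h2 : u * B * u = B := by rw [h1, mul_assoc, C.tr_sq Tu, mul_one]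
      have h3 : B * u * B = u := by rw [mul_assoc, h1, ← mul_assoc, C.tr_sq TB, one_mul]
      rw [uB, h3] at h2
      exact hUneB (by rw [← eu, h2])
  have ut : u * t = t * u := cu
  have key := point_fact _ hY (χ' B) (χ'sq _ (cF b0 (by simp)) (C.tr_sq TB))
    (χ'braid _ _ (cF tau0 (by simp)) (cF b0 (by simp)) (by rw [hτ, hB, ← map_mul, ← map_mul, rbr, map_mul, map_mul]))
    (fun e => hne tau0 (by simp) b0 (by simp) six_ne.1 (χ'i e))
    (χ' (C.F g23)) (χ'sq _ (cF g23 (by simp)) (by rw [← map_mul, r23, map_one]))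
    (χ'braid _ _ (cF b0 (by simp)) (cF g23 (by simp)) (by rw [hB, ← map_mul, ← map_mul, rb23, map_mul, map_mul]))
    (χ'comm _ _ (cF tau0 (by simp)) (cF g23 (by simp)) (C.F_comm.2 rτ23))
    (fun e => hne b0 (by simp) g23 (by simp) six_ne.2.1.symm (χ'i e))
    (fun e => hne tau0 (by simp) g23 (by simp) six_ne.2.2.1 (χ'i e))
    (χ' t) (χ'sq _ (cF t0 (by simp)) (by rw [ht, ← map_mul, rel_facts.2.1, map_one]))
    (χ'braid _ _ (cF g23 (by simp)) (cF t0 (by simp)) (by rw [ht, ← map_mul, ← map_mul, r23t, map_mul, map_mul]))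
    (χ'comm _ _ (cF tau0 (by simp)) (cF t0 (by simp)) cτ)
    (χ'comm _ _ (cF b0 (by simp)) (cF t0 (by simp)) cB)
    (fun e => hne g23 (by simp) t0 (by simp) six_ne.2.2.2.1 (χ'i e))
    (χ' u) (χ'sq _ uC1 (C.tr_sq Tu))
    (χ'comm _ _ uC1 (cF tau0 (by simp)) uτ) (χ'comm _ _ uC1 (cF t0 (by simp)) ut)
    (χ'braid _ _ uC1 (cF b0 (by simp)) uB) uneτ uneB
  have u13 : u * C.F g13 = C.F g13 * u := by
    have c23 := cF g23 (by simp)
    have cb := cF b0 (by simp)
    have c13 : B * C.F g23 * B * C1 = C1 * (B * C.F g23 * B) := ((Commute.mul_left cb c23).mul_left cb).eq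
    rw [← χ'm _ _ cb c23, ← χ'm _ _ (Commute.mul_left cb c23).eq cb, ← χ'm _ _ uC1 c13,
      ← χ'm _ _ c13 uC1] at key
    rw [show C.F g13 = B * C.F g23 * B by rw [hB, r13c, map_mul, map_mul]]
    rcases χcases _ _ (Commute.mul_left uC1 c13).eq (Commute.mul_left c13 uC1).eq (χ'i key) with r | r
    · exact r
    · exfalso
      -- squaring both sides
      set g := B * C.F g23 * B with hg
      have hgg : g * g = 1 := by
        rw [hg, show B * C.F g23 * B * (B * C.F g23 * B) = B * C.F g23 * (B * B) * C.F g23 * B by group,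
          C.tr_sq TB, mul_one, mul_assoc B, ← map_mul, r23, map_one, mul_one, C.tr_sq TB]
      have hconj : u * g * u⁻¹ = g * C1 := by
        rw [r, mul_assoc (g * u), show C1 * u⁻¹ = u⁻¹ * C1 from (Commute.inv_left uC1).symm.eq]; group
      -- `g C1` is an involution conjugate to `g`, in the class of `t` and of a double transposition
      have h2 : IsConj (C.F t0) (C.F (g13 * (j0 * z0))) := by
        have hg13 : g = C.F g13 := by rw [hg, hB, r13c, map_mul, map_mul]
        rw [map_mul, ← hg13, ← hC1F, ← hconj]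
        refine IsConj.trans ?_ (isConj_iff.2 ⟨u, rfl⟩)
        rw [hg13]
        exact isConj_iff.2 ⟨C.F g14, by rw [← map_inv, ← map_mul, ← map_mul, r14c]⟩
      obtain ⟨q, hq⟩ := double_conj
      refine C.t_ne_a (h2.trans (IsConj.symm (isConj_iff.2 ⟨C.F q * C.s, ?_⟩)))
      rw [mul_inv_rev, hs1, ← hq, map_mul, map_mul, map_inv, map_mul C.F j0 t0, ← ht]
      calc C.F q * C.s * C.F i0 * (C.s * (C.F q)⁻¹) = C.F q * (C.s * C.F i0 * C.s) * (C.F q)⁻¹ := by group
        _ = _ := by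
          rw [rel_facts.2.2.1, map_mul, C.sconj_mul, C.st, ← hτ, ← hC0, hC0F, ← ht]
  have u14 : u * C.F g14 = C.F g14 * u := by
    rw [r14, map_mul, map_mul, ← ht]
    exact ((Commute.mul_right ut u13).mul_right ut).eq
  have u24 : u * C.F g24 * u = C.F g24 * u * C.F g24 := by
    have hi : (C.F g14)⁻¹ * u = u * (C.F g14)⁻¹ := (Commute.inv_left u14.symm).eq
    rw [r24c, map_mul, map_mul, map_inv, ← hB]
    calc u * (C.F g14 * B * (C.F g14)⁻¹) * u = (u * C.F g14) * B * ((C.F g14)⁻¹ * u) := by group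
      _ = C.F g14 * (u * B * u) * (C.F g14)⁻¹ := by rw [u14, hi]; group
      _ = C.F g14 * B * u * B * (C.F g14)⁻¹ := by rw [uB]; group
      _ = C.F g14 * B * ((C.F g14)⁻¹ * C.F g14 * u) * B * (C.F g14)⁻¹ := by group
      _ = C.F g14 * B * ((C.F g14)⁻¹ * (u * C.F g14)) * B * (C.F g14)⁻¹ := by rw [u14]; group
      _ = _ := by group
  let g : ℕ → G := fun i => match i with
    | 0 => τ | 1 => C.F g13 | 2 => t | 3 => C.F g24 | 4 => u | 5 => C0 | 6 => C1 | _ => 1
  have mapc : ∀ {a b : LL}, a * b = b * a → C.F a * C.F b = C.F b * C.F a := fun h => C.F_comm.2 h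
  have mapb : ∀ {a b : LL}, a * b * a = b * a * b → C.F a * C.F b * C.F a = C.F b * C.F a * C.F b :=
    fun h => by rw [← map_mul, ← map_mul, h, map_mul, map_mul]
  have hrels : SymCoxeter.Rels g 7 := by
    refine ⟨fun i hi => ?_, fun i hi => ?_, fun i j hij hj => ?_⟩
    · interval_cases i <;> simp only [g]
      · exact C.tr_sq Tτ
      · rw [← map_mul, r13, map_one]
      · rw [ht, ← map_mul, rel_facts.2.1, map_one]
      · rw [← map_mul, r24, map_one]
      · exact C.tr_sq Tu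
      · exact C.tr_sq T0
      · exact C.tr_sq T1
    · have : i < 6 := by omega
      interval_cases i <;> simp only [g]
      · exact mapb rτ13
      · exact mapb r13t
      · exact mapb rt24
      · exact u24.symm
      · exact uC0
      · rw [hC0F, hC1F]; exact mapb rj
    · have hi : i < 6 := by omega
      interval_cases j <;> interval_cases i <;> simp only [g]
      all_goals
        first
        | (exfalso; omega)
        | exact uτ.symm
        | exact u13.symm
        | exact ut.symm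
        | exact uC1
        | exact mapc rel_facts.2.2.2.1
        | exact mapc rτ24
        | exact mapc r1324
        | (rw [hC0F]; exact mapc (small_comm _ (by simp) _ (by simp)))
        | (rw [hC1F]; exact mapc (small_comm _ (by simp) _ (by simp)))
  obtain ⟨φ₀, hφ₀, -⟩ := SymCoxeter.exists_hom 7 g hrels
  set Φ : Perm (Fin 8) →* G := φ₀.comp (MulAut.conj chain8⁻¹).toMonoidHom with hΦ
  have hval : ∀ i < 7, Φ (gen8 i) = g i := by
    intro i hi
    rw [← hφ₀ i hi, hΦ, MonoidHom.comp_apply, ← chain8_adj i hi]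
    congr 1
    show chain8⁻¹ * (chain8 * SymCoxeter.adj 7 i * chain8⁻¹) * chain8⁻¹⁻¹ = _
    group
  have hw : Φ (swap 0 1 * swap 1 2) = C.F w0 := by
    rw [gen8_words.1, w_word]
    simp only [map_mul, hval 0 (by norm_num), hval 1 (by norm_num), hval 2 (by norm_num), hval 3 (by norm_num)]
    rfl
  refine ⟨Φ, kernel_trivial Φ ?_, hval 2 (by norm_num), hval 0 (by norm_num),
    (hval 5 (by norm_num)).trans hC0F, hval 1 (by norm_num), hw, ?_⟩
  · rw [hw]; exact fun e => z_move.2.1 (C.F_inj (e.trans (map_one C.F).symm))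
  · rw [gen8_words.2, map_mul, hval 5 (by norm_num), hval 6 (by norm_num)]
    show C0 * C1 = _
    rw [hC0F, hC1F, ← map_mul, ← mul_assoc, rel_facts.2.2.2.2.2.2.2.2.2.2.2.2.2.2.2.2.2.2.2, one_mul]

end Six

end Cfsg.Agent.S8Three
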