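import Cfsg.Agent.Lib.S8Three.SixCase
import Cfsg.Agent.Lib.Transfer.SignThompson
import Mathlib.GroupTheory.Perm.Cycle.Type
import Mathlib.GroupTheory.Nilpotent

/-!
The copy of `Sym(8)` contains the centralisers of its transpositions and a Sylow 2-subgroup; transfer
gives the sign character.
-/

set_option autoImplicit false
set_option linter.style.haveILetI false
set_option maxRecDepth 20000

namespace Cfsg.Agent.S8Three

open Equiv Subgroup

/-- The embedding of the two parts. -/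
def emb8 : LL →* Perm (Fin 8) :=
  ((finSumFinEquiv (m := 5) (n := 3)).permCongrHom.toMonoidHom.comp
    (Perm.sumCongrHom (Fin 5) (Fin 3))).comp (MulEquiv.prodComm.toMonoidHom)

theorem emb8_vals : emb8 tau0 = swap 0 1 ∧ emb8 t0 = swap 3 4 ∧ emb8 g13 = swap 1 3 ∧
    emb8 w0 = swap 0 1 * swap 1 2 ∧ emb8 j0 = swap 5 6 ∧ emb8 z0 = swap 5 6 * swap 6 7 := by
  decide +kernel

theorem emb8_sign : ∀ q : LL, Perm.sign (emb8 q) = Perm.sign q.1 * Perm.sign q.2 := by decide +kernel

theorem adj_LL : ((1, swap 1 2) : LL) = tau0 * w0 ∧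
    ((1, swap 2 3) : LL) = tau0 * w0 * g13 * (tau0 * w0) ∧ ((swap 1 2, 1) : LL) = j0 * z0 := by
  decide +kernel

/-- The embedding of `Sym(6) × Sym(2)`. -/
def k62 : Perm (Fin 6) × Perm (Fin 2) →* Perm (Fin 8) :=
  ((MulAut.conj (swap 3 6 * swap 4 7 : Perm (Fin 8))).toMonoidHom.comp
    (finSumFinEquiv (m := 6) (n := 2)).permCongrHom.toMonoidHom).comp (Perm.sumCongrHom (Fin 6) (Fin 2))

theorem k62_inj : Function.Injective k62 :=
  ((MulAut.conj _).injective.comp (finSumFinEquiv (m := 6) (n := 2)).permCongrHom.injective).comp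
    Perm.sumCongrHom_injective

theorem k62_facts : k62 (1, swap 0 1) = swap 3 4 ∧ ∀ p : Perm (Fin 2), p * swap 0 1 = swap 0 1 * p := by
  decide +kernel

/-- A triple transposition. -/
def r3 : Perm (Fin 8) := swap 0 5 * swap 1 6 * swap 2 7

/-- The representatives of the classes of involutions. -/
def invReps : List (Perm (Fin 8)) := [swap 3 4, swap 0 1 * swap 3 4, r3, r3 * swap 3 4]

theorem invReps_facts : (∀ r ∈ [r3, r3 * swap 3 4],
      r * ((swap (5 : Fin 8) 6 * swap 6 7) * (swap 0 1 * swap 1 2)) =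
        ((swap 5 6 * swap 6 7) * (swap 0 1 * swap 1 2)) * r ∧
      r * (swap 5 6 * swap 6 7) ≠ swap 5 6 * swap 6 7 * r) ∧ Perm.sign (swap (3 : Fin 8) 4) = -1 := by
  decide +kernel

theorem involution_reps (σ : Perm (Fin 8)) (h : σ * σ = 1) (h1 : σ ≠ 1) : ∃ r ∈ invReps, IsConj r σ := by
  classical
  haveI : Fact (Nat.Prime 2) := ⟨Nat.prime_two⟩
  have ho : orderOf σ = 2 := orderOf_eq_prime (by rw [pow_two, h]) h1
  obtain ⟨n, hn⟩ := Equiv.Perm.cycleType_prime_order (by rw [ho]; exact Nat.prime_two)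
  rw [ho] at hn
  have hs : σ.cycleType.sum ≤ 8 := by
    rw [Equiv.Perm.sum_cycleType]; exact σ.support.card_le_univ.trans (by simp)
  rw [hn, Multiset.sum_replicate, smul_eq_mul] at hs
  have hn3 : n ≤ 3 := by omega
  have key : ∀ n ≤ 3, ∃ r ∈ invReps, Equiv.Perm.cycleType r = Multiset.replicate (n + 1) 2 := by
    decide +kernel
  obtain ⟨r, hr, hrc⟩ := key n hn3
  exact ⟨r, hr, Equiv.Perm.isConj_iff_cycleType_eq.2 (hrc.trans hn.symm)⟩

namespace Six

variable {G : Type*} [Group G] [Finite G] {C : Cfg G} (S : Six C)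
include S

theorem card_cent_t : Nat.card (centralizer ({C.F t0} : Set G)) = 1440 := by
  classical
  have h := S.φ.ker.card_mul_index
  rw [index_ker, MonoidHom.range_eq_top.2 S.surj, card_top, Nat.card_eq_fintype_card (α := P6),
    Fintype.card_perm, Fintype.card_fin] at h
  have hk : Nat.card S.φ.ker = 2 := by
    rw [Nat.card_eq_two_iff' 1]
    refine ⟨⟨⟨C.F t0, mem_centralizer_singleton_iff.2 rfl⟩, MonoidHom.mem_ker.2 ((S.ker _).2 (Or.inr rfl))⟩,
      fun e => ?_, fun x hx => ?_⟩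
    · exact rel_facts.2.2.2.2.2.2.2.2.2.2.2.2.2.2.2.1
        (C.F_inj ((congrArg (fun x : S.φ.ker => ((x : centralizer ({C.F t0} : Set G)) : G)) e).trans (map_one C.F).symm))
    · rcases (S.ker _).1 (MonoidHom.mem_ker.1 x.2) with e | e
      · exact absurd (Subtype.ext (Subtype.ext e)) hx
      · exact Subtype.ext (Subtype.ext e)
  rw [hk] at h
  norm_num [Nat.factorial] at h
  omega

/-- The sign character, together with the copy of `Sym(8)`. -/
theorem exists_sign : C.ε = false ∧ ∃ Φ : Perm (Fin 8) →* G, Function.Injective Φ ∧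
    (∀ q, Φ (emb8 q) = C.F q) ∧ ∃ χ : G →* ℤˣ, ∀ σ, χ (Φ σ) = Perm.sign σ := by
  classical
  haveI : Fact (Nat.Prime 2) := ⟨Nat.prime_two⟩
  obtain ⟨hε, Φ, hinj, h34, h01, h56, h13, hw, hz⟩ := S.exists_hom
  obtain ⟨v1, v2, v3, v4, v5, v6⟩ := emb8_vals
  have hw' : C.F tau0 * Φ (swap 1 2) = C.F w0 := by rw [← h01, ← map_mul, hw]
  have hz' : C.F j0 * Φ (swap 6 7) = C.F z0 := by rw [← h56, ← map_mul, hz]
  -- the chart is the restriction
  have hF : ∀ q, Φ (emb8 q) = C.F q := by
    have k5 : (Subgroup.closure (Set.range fun i : Fin 4 => swap i.castSucc i.succ) : Subgroup (Perm (Fin 5))) ≤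
        (MonoidHom.eqLocus ((Φ.comp emb8).comp (MonoidHom.inr (Perm (Fin 3)) (Perm (Fin 5))))
          (C.F.comp (MonoidHom.inr (Perm (Fin 3)) (Perm (Fin 5))))) := by
      rw [closure_le]
      rintro _ ⟨i, rfl⟩
      show Φ (emb8 (1, swap i.castSucc i.succ)) = C.F (1, swap i.castSucc i.succ)
      fin_cases i
      · exact (congrArg Φ v1).trans h01
      · show Φ (emb8 (1, swap 1 2)) = C.F (1, swap 1 2)
        rw [adj_LL.1]; simp only [map_mul, v1, v4, h01, hw']
      · show Φ (emb8 (1, swap 2 3)) = C.F (1, swap 2 3)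
        rw [adj_LL.2.1]; simp only [map_mul, v1, v3, v4, h01, h13, hw']
      · exact (congrArg Φ v2).trans h34
    have k3 : (Subgroup.closure (Set.range fun i : Fin 2 => swap i.castSucc i.succ) : Subgroup (Perm (Fin 3))) ≤
        (MonoidHom.eqLocus ((Φ.comp emb8).comp (MonoidHom.inl (Perm (Fin 3)) (Perm (Fin 5))))
          (C.F.comp (MonoidHom.inl (Perm (Fin 3)) (Perm (Fin 5))))) := by
      rw [closure_le]
      rintro _ ⟨i, rfl⟩
      show Φ (emb8 (swap i.castSucc i.succ, 1)) = C.F (swap i.castSucc i.succ, 1)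
      fin_cases i
      · exact (congrArg Φ v5).trans h56
      · show Φ (emb8 (swap 1 2, 1)) = C.F (swap 1 2, 1)
        rw [adj_LL.2.2]; simp only [map_mul, v5, v6, h56, hz']
    rintro ⟨a, b⟩
    have ha := k3 ((Subgroup.closure_eq_top_of_mclosure_eq_top (Perm.mclosure_swap_castSucc_succ 2)).symm ▸
      mem_top a)
    have hb := k5 ((Subgroup.closure_eq_top_of_mclosure_eq_top (Perm.mclosure_swap_castSucc_succ 4)).symm ▸
      mem_top b)
    change Φ (emb8 (a, 1)) = C.F (a, 1) at ha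
    change Φ (emb8 (1, b)) = C.F (1, b) at hb
    rw [show ((a, b) : LL) = (a, 1) * (1, b) from Prod.ext (mul_one a).symm (one_mul b).symm, map_mul,
      map_mul, ha, hb, map_mul]
  set H := Φ.range with hH
  -- centralisers of transpositions
  have hCt : centralizer ({C.F t0} : Set G) ≤ H := by
    have hle : (k62.range).map Φ ≤ centralizer ({C.F t0} : Set G) := by
      rintro _ ⟨_, ⟨⟨a, b⟩, rfl⟩, rfl⟩
      rw [mem_centralizer_singleton_iff, ← h34, ← map_mul, ← map_mul, ← k62_facts.1, ← map_mul, ← map_mul]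
      exact congrArg (fun x => Φ (k62 x)) (Prod.ext (by simp) (k62_facts.2 b))
    have he := eq_of_le_of_card_ge hle (by
      rw [S.card_cent_t, card_map_of_injective hinj, ← Nat.card_congr (MonoidHom.ofInjective k62_inj).toEquiv,
        Nat.card_eq_fintype_card, Fintype.card_prod, Fintype.card_perm, Fintype.card_perm, Fintype.card_fin,
        Fintype.card_fin]
      norm_num [Nat.factorial])
    rw [← he]; exact map_le_range _ _
  -- conjugates of `t` in `H` are transpositions
  have hclass : ∀ σ, IsConj (C.F t0) (Φ σ) → IsConj (swap 3 4) σ := by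
    intro σ hσ
    obtain ⟨g, hg⟩ := isConj_iff.1 hσ
    have h2 : Φ (σ * σ) = 1 := by
      rw [map_mul, ← hg]
      calc g * C.F t0 * g⁻¹ * (g * C.F t0 * g⁻¹) = g * (C.F t0 * C.F t0) * g⁻¹ := by group
        _ = 1 := by rw [← map_mul, rel_facts.2.1, map_one, mul_one, mul_inv_cancel]
    have h1 : σ ≠ 1 := fun e => by
      rw [e, map_one] at hg
      exact rel_facts.2.2.2.2.2.2.2.2.2.2.2.2.2.2.2.1 (C.F_inj ((conj_eq_one_iff.1 hg).trans (map_one C.F).symm))
    obtain ⟨r, hr, hrσ⟩ := involution_reps σ ((map_eq_one_iff Φ hinj).1 h2) h1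
    obtain ⟨k, hk⟩ := isConj_iff.1 hrσ
    have hr' : IsConj (C.F t0) (Φ r) := hσ.trans (IsConj.symm (isConj_iff.2 ⟨Φ k, by
      rw [← map_inv, ← map_mul, ← map_mul, hk]⟩))
    have hy : ∀ r ∈ [r3, r3 * swap 3 4], ¬ IsConj (C.F t0) (Φ r) := fun r hr h => by
      have hyF : C.F y0 = Φ ((swap 5 6 * swap 6 7) * (swap 0 1 * swap 1 2)) := by
        rw [map_mul, hz, hw, ← map_mul, z_move.2.2.2.2.2.1]
      have := C.y_unique h (by rw [hyF, ← map_mul, ← map_mul, (invReps_facts.1 r hr).1])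
      rw [← hz, ← map_mul, ← map_mul] at this
      exact (invReps_facts.1 r hr).2 (hinj this)
    simp only [invReps, List.mem_cons, List.not_mem_nil, or_false] at hr
    rcases hr with rfl | rfl | rfl | rfl
    · exact hrσ
    · exfalso
      rw [map_mul, h01, h34, ← map_mul, ← rel_facts.2.2.1] at hr'
      exact C.t_ne_a hr'
    · exact absurd hr' (hy _ (by simp))
    · exact absurd hr' (hy _ (by simp))
  -- the Sylow 2-subgroup
  obtain ⟨P0, hP0⟩ := (IsPGroup.of_card (p := 2) (n := 1) (G := zpowers (swap (3 : Fin 8) 4))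
    (by rw [Nat.card_zpowers, orderOf_eq_prime (by rw [pow_two, swap_mul_self]) (by decide +kernel), pow_one])).exists_le_sylow
  set T := (P0 : Subgroup (Perm (Fin 8))).map Φ with hT
  have hTp : IsPGroup 2 T := P0.isPGroup'.map Φ
  have hnorm : ∀ g : G, g ∈ normalizer (T : Set G) → g ∈ H := by
    intro g hg
    have h1 : g * C.F t0 * g⁻¹ ∈ T := (mem_normalizer_iff.1 hg _).1 ⟨_, hP0 (mem_zpowers _), h34⟩
    obtain ⟨σ, -, hσ⟩ := h1
    obtain ⟨k, hk⟩ := isConj_iff.1 (hclass σ (hσ ▸ isConj_iff.2 ⟨g, rfl⟩))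
    have : (Φ k)⁻¹ * g ∈ centralizer ({C.F t0} : Set G) := by
      rw [mem_centralizer_singleton_iff]
      have e : g * C.F t0 * g⁻¹ = Φ k * C.F t0 * (Φ k)⁻¹ := by
        rw [← hσ, ← hk, map_mul, map_mul, map_inv, h34]
      calc (Φ k)⁻¹ * g * C.F t0 = (Φ k)⁻¹ * (g * C.F t0 * g⁻¹) * g := by group
        _ = _ := by rw [e]; group
    have h2 := mul_mem (show Φ k ∈ H from ⟨k, rfl⟩) (hCt this)
    rwa [mul_inv_cancel_left] at h2
  obtain ⟨R, hR⟩ := hTp.exists_le_sylow
  have hRT : (R : Subgroup G) = T := by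
    refine le_antisymm ?_ hR
    by_contra hne
    haveI : Group.IsNilpotent (R : Subgroup G) := R.isPGroup'.isNilpotent
    obtain ⟨g, hgn, hgT⟩ := SetLike.exists_of_lt (Group.normalizerCondition_of_isNilpotent (G := (R : Subgroup G))
      (T.subgroupOf R) (lt_top_iff_ne_top.2 fun e => hne (subgroupOf_eq_top.1 e)))
    have hgN : (g : G) ∈ normalizer (T : Set G) := by
      rw [mem_normalizer_iff]
      intro h
      constructor
      · intro hh
        have := (mem_normalizer_iff.1 hgn ⟨h, hR hh⟩).1 (mem_subgroupOf.2 hh)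
        exact mem_subgroupOf.1 this
      · intro hh
        have hR' : h ∈ (R : Subgroup G) := by
          have := mul_mem (mul_mem (inv_mem g.2) (hR hh)) g.2
          simpa [mul_assoc] using this
        exact mem_subgroupOf.1 ((mem_normalizer_iff.1 hgn ⟨h, hR'⟩).2 (mem_subgroupOf.2 hh))
    obtain ⟨σ, hσ⟩ := hnorm _ hgN
    have hle : (P0 : Subgroup (Perm (Fin 8))) ≤ (R : Subgroup G).comap Φ := fun x hx => hR ⟨x, hx, rfl⟩
    have hp : IsPGroup 2 ((R : Subgroup G).comap Φ) := R.isPGroup'.comap_of_injective Φ hinj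
    have := P0.is_maximal' hp hle
    refine hgT (mem_subgroupOf.2 ⟨σ, ?_, hσ⟩)
    rw [← this]
    show Φ σ ∈ (R : Subgroup G)
    rw [hσ]; exact g.2
  -- transfer
  set M := ((P0 : Subgroup (Perm (Fin 8))) ⊓ (Perm.sign (α := Fin 8)).ker).map Φ with hM
  have hsw : Perm.sign (swap (3 : Fin 8) 4) = -1 := invReps_facts.2
  have hrel : M.relIndex T = 2 := by
    rw [hM, hT, relIndex_map_map_of_injective _ _ hinj, inf_relIndex_left]
    show ((Perm.sign (α := Fin 8)).ker.subgroupOf P0).index = 2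
    rw [show ((Perm.sign (α := Fin 8)).ker.subgroupOf P0) =
      ((Perm.sign (α := Fin 8)).comp (P0 : Subgroup (Perm (Fin 8))).subtype).ker from rfl, index_ker]
    have hne : ((Perm.sign (α := Fin 8)).comp (P0 : Subgroup (Perm (Fin 8))).subtype).range = ⊤ := by
      rw [eq_top_iff]
      intro x _
      rcases Int.units_eq_one_or x with rfl | rfl
      · exact one_mem _
      · exact ⟨⟨_, hP0 (mem_zpowers _)⟩, hsw⟩
    rw [hne, card_top, Nat.card_eq_fintype_card, Fintype.card_units_int]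
  obtain ⟨χ, hχ⟩ := SignThompson.exists_sign_hom M (C.F t0) 0 (R : Subgroup G).index
    (by rw [← h34, zero_add, pow_one]; exact (orderOf_injective Φ hinj _).trans (orderOf_eq_prime (by rw [pow_two, swap_mul_self]) (by decide +kernel)))
    (fun g hg => by
      rw [pow_zero, pow_one] at hg
      obtain ⟨σ, hσ, e⟩ := hg
      obtain ⟨k, hk⟩ := isConj_iff.1 (hclass σ (e ▸ isConj_iff.2 ⟨g⁻¹, by rw [inv_inv]⟩))
      have := MonoidHom.mem_ker.1 hσ.2
      rw [← hk, map_mul, map_mul, map_inv, hsw, mul_comm (Perm.sign k), mul_inv_cancel_right] at this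
      exact absurd this (by decide))
    (Nat.odd_iff.2 (Nat.two_dvd_ne_zero.1 R.not_dvd_index))
    (by rw [← relIndex_mul_index (hRT ▸ map_mono inf_le_left : M ≤ (R : Subgroup G)), hRT, hrel]; rfl)
  refine ⟨hε, Φ, hinj, hF, χ, fun σ => ?_⟩
  have he : χ.comp Φ = Perm.sign := Perm.eq_sign_of_surjective_hom fun x => by
    rcases Int.units_eq_one_or x with rfl | rfl
    · exact ⟨1, map_one _⟩
    · exact ⟨swap 3 4, by rw [MonoidHom.comp_apply, h34, hχ]⟩
  rw [← he]; rfl

end Six

end Cfsg.Agent.S8Three
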