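import Cfsg.Agent.Lib.S8Three.Model
import Mathlib.GroupTheory.SpecificGroups.Alternating

/-!
Finite facts used when the centraliser of `t` normalises `D`.
-/

set_option autoImplicit false
set_option maxRecDepth 20000
set_option synthInstance.maxSize 4096

namespace Cfsg.Agent.S8Three

open Equiv

/-- `(01)(23)` -/
def u0 : LL := (1, swap 0 1 * swap 2 3)
/-- `(02)(13)` -/
def u1 : LL := (1, swap 0 2 * swap 1 3)
/-- The four-group of the large part. -/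
def V0L : List LL := [1, u0, u1, u0 * u1]

theorem V0L_closed : (∀ a ∈ V0L, ∀ b ∈ V0L, a * b ∈ V0L) ∧ (∀ a ∈ V0L, a⁻¹ ∈ V0L) ∧ V0L.Nodup ∧
    u0 * u1 = u1 * u0 := by decide +kernel

/-- The four-group as a subgroup. -/
def V0m : Subgroup LL where
  carrier := {p | p ∈ V0L}
  one_mem' := by simp [V0L]
  mul_mem' ha hb := V0L_closed.1 _ ha _ hb
  inv_mem' ha := V0L_closed.2.1 _ ha

instance : DecidablePred (· ∈ V0m) := fun p => inferInstanceAs (Decidable (p ∈ V0L))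

theorem V0m_card : Fintype.card {p : LL // p ∈ V0m} = 4 := by decide +kernel

theorem V0_cent : ∀ q : LL, q * z0 = z0 * q → q * u0 = u0 * q → q * u1 = u1 * q →
    ∃ a : Fin 3, ∃ v : LL, v ∈ V0m ∧ q = z0 ^ (a : ℕ) * v := by
  decide +kernel

theorem V0_facts : (∀ v : LL, v ∈ V0m → v * u0 = u0 * v ∧ v * u1 = u1 * v ∧ v * z0 = z0 * v ∧ v * v = 1 ∧
      (v * w0 = w0 * v → v = 1)) ∧
    (∀ d : LL, d ∈ Dm → ∀ v : LL, v ∈ V0m → d * v * d⁻¹ ∈ V0m) ∧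
    (∀ v : LL, v ∈ V0m → tau0 * v * tau0 ∈ V0m) ∧ u0 ∈ V0m ∧ u1 ∈ V0m ∧
    u0 * tau0 ≠ 1 ∧ z0 * u0 = u0 * z0 ∧ z0 * u1 = u1 * z0 ∧ z0 * z0 * z0 = 1 ∧ z0 * z0 ≠ 1 := by
  decide +kernel

/-- Words excluding nontrivial invariant subgroups of order prime to three in `Sym(5)`. -/
def wordA (σ : Perm (Fin 5)) : Perm (Fin 5) :=
  σ * ((w5 * swap 3 4) * σ * (w5 * swap 3 4)⁻¹) * ((w5 * w5) * σ * (w5 * w5)⁻¹)

/-- Words excluding nontrivial invariant subgroups of order prime to three in `Sym(5)`. -/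
def wordB (σ : Perm (Fin 5)) : Perm (Fin 5) :=
  σ * σ * (w5 * σ * w5⁻¹) * ((w5 * w5) * σ * (w5 * w5)⁻¹)

theorem word_fact : ∀ σ : Perm (Fin 5), σ ^ 40 = 1 → σ ≠ 1 →
    (wordA σ ^ 40 ≠ 1 ∨ (wordA σ ≠ 1 ∧ wordA σ * w5 = w5 * wordA σ)) ∨
    (wordB σ ^ 40 ≠ 1 ∨ (wordB σ ≠ 1 ∧ wordB σ * w5 = w5 * wordB σ)) := by
  decide +kernel

theorem S3_normal : ∀ p : Perm (Fin 3), p ≠ 1 → p * p * p ≠ 1 → ∃ q, q * p * q⁻¹ ≠ p := by decide +kernel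

theorem u_gens : ((1, swap 2 4) : LL) * u0 * (1, swap 2 4)⁻¹ * i0 ∈ ([1, e0, e0 * i0] : List LL) ∧
    ((1, swap 2 4) : LL) * i0 * (1, swap 2 4)⁻¹ ∈ V0L ∧ ((1, swap 2 4) : LL) * e0 * (1, swap 2 4)⁻¹ ∈ V0L ∧
    ((1, swap 2 4) : LL) * u0 * (1, swap 2 4)⁻¹ ∈ ([1, i0, e0, i0 * e0] : List LL) ∧
    ((1, swap 2 4) : LL) * u1 * (1, swap 2 4)⁻¹ ∈ ([1, i0, e0, i0 * e0] : List LL) := by
  decide +kernel

theorem five_elt : ((1, swap 0 1 * swap 1 2 * swap 2 3 * swap 3 4) : LL) ^ 5 = 1 ∧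
    ((1, swap 0 1 * swap 1 2 * swap 2 3 * swap 3 4) : LL) ≠ 1 ∧
    ((1, swap 0 1 * swap 1 2 * swap 2 3 * swap 3 4) : LL) * j0 =
      j0 * (1, swap 0 1 * swap 1 2 * swap 2 3 * swap 3 4) := by
  decide +kernel

end Cfsg.Agent.S8Three
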