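import Cfsg.Agent.Lib.S8Three.Dichotomy
import Cfsg.Agent.Lib.S8Three.SmallModel
import Cfsg.Agent.Lib.Solvable.Coprime
import Cfsg.Agent.S3331
import Cfsg.Agent.Lib.SixCent.PSLSeven
import Cfsg.Agent.Lib.SmallCent.Main

/-!
The centraliser of the four-group on four points of the large part.
-/

set_option autoImplicit false
set_option linter.style.haveILetI false
set_option maxRecDepth 20000

namespace Cfsg.Agent.S8Three

open Equiv Subgroup

theorem card_psl7 : Nat.card (Matrix.ProjectiveSpecialLinearGroup (Fin 2) (ZMod 7)) = 168 := by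
  haveI : Fact (Nat.Prime 7) := ⟨by norm_num⟩
  have h := SmallCent.card_psl (ZMod 7)
  rw [ZMod.card] at h
  norm_num at h
  rw [Nat.card_eq_fintype_card]
  omega

/-- A normal subgroup of order prime to three lies in a normal subgroup with quotient of order three,
`Sym(3)` or `Alt(5)`. -/
theorem le_of_quot {Q : Type*} [Group Q] [Finite Q] (N : Subgroup Q) [N.Normal]
    (h : Nat.card (Q ⧸ N) = 3 ∨ Nonempty (Q ⧸ N ≃* Perm (Fin 3)) ∨ Nonempty (Q ⧸ N ≃* alternatingGroup (Fin 5)))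
    (M : Subgroup Q) [M.Normal] (hM : ¬ 3 ∣ Nat.card M) : M ≤ N := by
  set Mb := M.map (QuotientGroup.mk' N) with hMb
  haveI : Mb.Normal := Subgroup.Normal.map ‹_› _ (QuotientGroup.mk'_surjective N)
  have h3 : ¬ 3 ∣ Nat.card Mb := fun h => hM (h.trans (card_map_dvd M (QuotientGroup.mk' N)))
  suffices hb : Mb = ⊥ by
    intro x hx
    have : QuotientGroup.mk' N x ∈ Mb := mem_map_of_mem _ hx
    rw [hb, mem_bot] at this
    exact (QuotientGroup.eq_one_iff x).1 this
  rcases h with h | ⟨⟨e⟩⟩ | ⟨⟨e⟩⟩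
  · have hd := h ▸ card_subgroup_dvd_card Mb
    rcases (Nat.dvd_prime Nat.prime_three).1 hd with h1 | h1
    · exact card_eq_one.1 h1
    · exact absurd (h1 ▸ dvd_rfl) h3
  · by_contra hne
    haveI := (nontrivial_iff_ne_bot Mb).2 hne
    obtain ⟨⟨p, hp⟩, hp1⟩ := exists_ne (1 : Mb)
    have hne1 : e p ≠ 1 := fun h => hp1 (Subtype.ext (e.injective (h.trans (map_one e).symm)))
    have hcube : e p * e p * e p ≠ 1 := by
      intro hc
      refine h3 ?_
      have h3' : (⟨p, hp⟩ : Mb) ^ 3 = 1 := Subtype.ext (e.injective (by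
        rw [SubmonoidClass.coe_pow, map_pow, OneMemClass.coe_one, map_one, pow_succ, pow_two]; exact hc))
      rw [← orderOf_eq_prime h3' hp1]
      exact orderOf_dvd_natCard _
    obtain ⟨q, hq⟩ := S3_normal (e p) hne1 hcube
    -- two distinct nontrivial elements outside the subgroup of order three generate it
    have hq' : e.symm q * p * (e.symm q)⁻¹ ∈ Mb := Subgroup.Normal.conj_mem ‹_› p hp _
    have key : ∀ a b : Perm (Fin 3), a * a * a ≠ 1 → b * b * b ≠ 1 → a ≠ b →
        (a * b) * (a * b) * (a * b) = 1 ∧ a * b ≠ 1 := by decide +kernel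
    have hb : (q * e p * q⁻¹) * (q * e p * q⁻¹) * (q * e p * q⁻¹) ≠ 1 := by
      rw [show (q * e p * q⁻¹) * (q * e p * q⁻¹) * (q * e p * q⁻¹) = q * (e p * e p * e p) * q⁻¹ by group]
      exact fun h => hcube (conj_eq_one_iff.1 h)
    obtain ⟨k1, k2⟩ := key _ _ hcube hb (Ne.symm hq)
    have hm : p * (e.symm q * p * (e.symm q)⁻¹) ∈ Mb := mul_mem hp hq'
    refine h3 ?_
    have e' : e (p * (e.symm q * p * (e.symm q)⁻¹)) = e p * (q * e p * q⁻¹) := by
      simp only [map_mul, map_inv, MulEquiv.apply_symm_apply]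
    have h3' : (⟨_, hm⟩ : Mb) ^ 3 = 1 := Subtype.ext (e.injective (by
      rw [SubmonoidClass.coe_pow, map_pow, OneMemClass.coe_one, map_one, pow_succ, pow_two, e']; exact k1))
    rw [← orderOf_eq_prime h3' fun h => k2 (by
      rw [← e', show p * (e.symm q * p * (e.symm q)⁻¹) = 1 from congrArg Subtype.val h, map_one])]
    exact orderOf_dvd_natCard _
  · haveI : (Mb.map e.toMonoidHom).Normal := Subgroup.Normal.map ‹_› _ e.surjective
    rcases IsSimpleGroup.eq_bot_or_eq_top_of_normal (Mb.map e.toMonoidHom) ‹_› with h1 | h1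
    · exact (map_eq_bot_iff_of_injective _ e.injective).1 h1
    · exfalso
      refine h3 ?_
      rw [← card_map_of_injective (f := e.toMonoidHom) (K := Mb) e.injective, h1, card_top,
        Nat.card_eq_fintype_card]
      decide +kernel

namespace Cfg

variable {G : Type*} [Group G] [Finite G] (C : Cfg G)
include C

/-- The four-group. -/
abbrev V0 : Subgroup G := V0m.map C.F

/-- The centraliser of the four-group. -/
abbrev CV : Subgroup G := centralizer ({C.F u0} : Set G) ⊓ centralizer ({C.F u1} : Set G)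

theorem mem_CV {x : G} : x ∈ C.CV ↔ x * C.F u0 = C.F u0 * x ∧ x * C.F u1 = C.F u1 * x := by
  rw [mem_inf, mem_centralizer_singleton_iff, mem_centralizer_singleton_iff]

theorem CV_comm {x : G} (hx : x ∈ C.CV) {v : G} (hv : v ∈ C.V0) : x * v = v * x := by
  obtain ⟨p, hp, rfl⟩ := hv
  obtain ⟨h0, h1⟩ := C.mem_CV.1 hx
  simp only [V0m, mem_mk] at hp
  have hp' : p ∈ V0L := hp
  simp only [V0L, List.mem_cons, List.not_mem_nil, or_false] at hp'
  rcases hp' with rfl | rfl | rfl | rfl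
  · rw [map_one, mul_one, one_mul]
  · exact h0
  · exact h1
  · rw [map_mul]; exact (Commute.mul_right h0 h1).eq

theorem V0_le_CV : C.V0 ≤ C.CV := by
  rintro _ ⟨p, hp, rfl⟩
  exact C.mem_CV.2 ⟨C.F_comm.2 (V0_facts.1 p hp).1, C.F_comm.2 (V0_facts.1 p hp).2.1⟩

theorem z_mem_CV : C.F z0 ∈ C.CV :=
  C.mem_CV.2 ⟨C.F_comm.2 V0_facts.2.2.2.2.2.2.1, C.F_comm.2 V0_facts.2.2.2.2.2.2.2.1⟩

theorem card_V0 : Nat.card C.V0 = 4 := by
  rw [card_map_of_injective C.F_inj, Nat.card_eq_fintype_card, V0m_card]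

theorem z_ord : orderOf (C.F z0) = 3 := by
  haveI : Fact (Nat.Prime 3) := ⟨Nat.prime_three⟩
  refine orderOf_eq_prime (C.cube (mem_map_of_mem _ Dm_facts.1)) fun h => z_move.1 (C.F_inj (h.trans (map_one C.F).symm))

theorem cv_norm_D {d : G} (hd : d ∈ Dm.map C.F) {x : G} (hx : x ∈ C.CV) : d * x * d⁻¹ ∈ C.CV := by
  obtain ⟨p, hp, rfl⟩ := hd
  have key : ∀ v ∈ V0m, C.F p * x * (C.F p)⁻¹ * C.F v = C.F v * (C.F p * x * (C.F p)⁻¹) := by
    intro v hv
    have h := C.CV_comm hx (mem_map_of_mem C.F (V0_facts.2.1 p⁻¹ (inv_mem hp) v hv))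
    rw [inv_inv, map_mul, map_mul, map_inv] at h
    calc C.F p * x * (C.F p)⁻¹ * C.F v = C.F p * (x * ((C.F p)⁻¹ * C.F v * C.F p)) * (C.F p)⁻¹ := by group
      _ = C.F p * ((C.F p)⁻¹ * C.F v * C.F p * x) * (C.F p)⁻¹ := by rw [h]
      _ = _ := by group
  exact C.mem_CV.2 ⟨key _ V0_facts.2.2.2.1, key _ V0_facts.2.2.2.2.1⟩

theorem cv_norm_tau {x : G} (hx : x ∈ C.CV) : C.F tau0 * x * (C.F tau0)⁻¹ ∈ C.CV := by
  have htt : (C.F tau0)⁻¹ = C.F tau0 := inv_of_sq (by rw [← map_mul, rel_facts.1, map_one])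
  have key : ∀ v ∈ V0m, C.F tau0 * x * (C.F tau0)⁻¹ * C.F v = C.F v * (C.F tau0 * x * (C.F tau0)⁻¹) := by
    intro v hv
    have h := C.CV_comm hx (mem_map_of_mem C.F (V0_facts.2.2.1 v hv))
    rw [map_mul, map_mul] at h
    calc C.F tau0 * x * (C.F tau0)⁻¹ * C.F v
        = C.F tau0 * (x * ((C.F tau0)⁻¹ * C.F v * C.F tau0)) * (C.F tau0)⁻¹ := by group
      _ = C.F tau0 * (C.F tau0 * C.F v * C.F tau0 * x) * (C.F tau0)⁻¹ := by rw [htt, h]
      _ = _ := by rw [htt]; simp only [← mul_assoc]; rw [← map_mul C.F tau0 tau0, rel_facts.1, map_one, one_mul]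
  exact C.mem_CV.2 ⟨key _ V0_facts.2.2.2.1, key _ V0_facts.2.2.2.2.1⟩

theorem cv_cent_z {x : G} (hx : x ∈ C.CV) (h : x * C.F z0 = C.F z0 * x) :
    ∃ a : Fin 3, ∃ v : G, v ∈ C.V0 ∧ x = C.F z0 ^ (a : ℕ) * v := by
  obtain ⟨q, rfl, hqz⟩ := C.mem_cent_z h
  obtain ⟨h0, h1⟩ := C.mem_CV.1 hx
  obtain ⟨a, v, hv, rfl⟩ := V0_cent q hqz (C.F_comm.1 h0) (C.F_comm.1 h1)
  exact ⟨a, C.F v, mem_map_of_mem _ hv, by rw [map_mul, map_pow]⟩

/-- A subgroup of `CV` containing `V0`, of order prime to three, normalised by `D` and `τ`, is `V0`. -/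
theorem cv_three' (hε : C.ε = true) (X : Subgroup G) (hX : X ≤ C.CV) (hV : C.V0 ≤ X) (h3 : ¬ 3 ∣ Nat.card X)
    (hD : ∀ d ∈ Dm.map C.F, ∀ x ∈ X, d * x * d⁻¹ ∈ X)
    (hτ : ∀ x ∈ X, C.F tau0 * x * (C.F tau0)⁻¹ ∈ X) : X = C.V0 := by
  classical
  refine le_antisymm ?_ hV
  have hz : ∀ x ∈ X, x * C.F z0 = C.F z0 * x → x ∈ C.V0 := by
    intro x hx h
    obtain ⟨a, v, hv, rfl⟩ := C.cv_cent_z (hX hx) h
    have hza : C.F z0 ^ (a : ℕ) ∈ X := by
      simpa using mul_mem hx (inv_mem (hV hv))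
    have h1 : C.F z0 ^ (a : ℕ) = 1 := by
      by_contra hne
      haveI : Fact (Nat.Prime 3) := ⟨Nat.prime_three⟩
      refine h3 ?_
      have ho : orderOf (C.F z0 ^ (a : ℕ)) = 3 := orderOf_eq_prime (by
        rw [← pow_mul, mul_comm, pow_mul, C.cube (mem_map_of_mem _ Dm_facts.1), one_pow]) hne
      rw [← ho, ← orderOf_mk (C.F z0 ^ (a : ℕ)) hza]
      exact orderOf_dvd_natCard _
    rw [h1, one_mul]; exact hv
  have hy : ∀ x ∈ X, (∀ d ∈ Dm.map C.F, x * d * x⁻¹ ∈ Dm.map C.F) → x ∈ C.V0 := by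
    intro x hx hn
    refine hz x hx ?_
    have hzD := mem_map_of_mem C.F Dm_facts.1
    have hm : x * C.F z0 * x⁻¹ * (C.F z0)⁻¹ ∈ X := by
      rw [show x * C.F z0 * x⁻¹ * (C.F z0)⁻¹ = x * (C.F z0 * x⁻¹ * (C.F z0)⁻¹) by group]
      exact mul_mem hx (hD _ hzD _ (inv_mem hx))
    have hm' := mul_mem (hn _ hzD) (inv_mem hzD)
    have h1 : x * C.F z0 * x⁻¹ * (C.F z0)⁻¹ = 1 := by
      by_contra hne
      haveI : Fact (Nat.Prime 3) := ⟨Nat.prime_three⟩
      refine h3 ?_
      rw [← orderOf_eq_prime (C.cube hm') hne, ← orderOf_mk _ hm]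
      exact orderOf_dvd_natCard _
    rw [mul_inv_eq_one] at h1
    exact mul_inv_eq_iff_eq_mul.1 h1
  have hyall : ∀ d : LL, (d = y0 ∨ d = y0 * y0 ∨ d = j0 * y0 * j0 ∨ d = j0 * (y0 * y0) * j0) →
      ∀ x ∈ X, x * C.F d = C.F d * x → x ∈ C.V0 := by
    intro d hd x hx hxd
    refine hy x hx ?_
    have hyy : ∀ g : G, g * C.F (y0 * y0) = C.F (y0 * y0) * g → g * C.F y0 = C.F y0 * g := fun g h => by
      have e : C.F y0 = C.F (y0 * y0) * C.F (y0 * y0) := by
        rw [← map_mul]; congr 1; decide +kernel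
      rw [e]; exact (Commute.mul_right h h).eq
    have hj : ∀ d' ∈ Dm.map C.F, C.F j0 * d' * (C.F j0)⁻¹ ∈ Dm.map C.F := C.norm_mem rel_facts.2.2.2.2.1
    have ij : (C.F j0)⁻¹ = C.F j0 := inv_of_sq (by
      rw [← map_mul, rel_facts.2.2.2.2.2.2.2.2.2.2.2.2.2.2.2.2.2.2.2, map_one])
    have jj : C.F j0 * C.F j0 = 1 := by rw [← map_mul, rel_facts.2.2.2.2.2.2.2.2.2.2.2.2.2.2.2.2.2.2.2, map_one]
    have viaJ : (C.F j0 * x * C.F j0) * C.F y0 = C.F y0 * (C.F j0 * x * C.F j0) →
        ∀ d' ∈ Dm.map C.F, x * d' * x⁻¹ ∈ Dm.map C.F := by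
      intro h d' hd'
      have h2 := C.ynorm _ h _ (hj d' hd')
      have h3 := hj _ h2
      have e : C.F j0 * (C.F j0 * x * C.F j0 * (C.F j0 * d' * (C.F j0)⁻¹) * (C.F j0 * x * C.F j0)⁻¹) * (C.F j0)⁻¹
          = (C.F j0 * C.F j0) * x * (C.F j0 * C.F j0) * d' * (C.F j0 * C.F j0)⁻¹ * x⁻¹ * (C.F j0 * C.F j0)⁻¹ := by
        group
      rw [e, jj] at h3
      simpa using h3
    have conj : ∀ e : LL, x * C.F (j0 * e * j0) = C.F (j0 * e * j0) * x →
        (C.F j0 * x * C.F j0) * C.F e = C.F e * (C.F j0 * x * C.F j0) := fun e h => by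
      rw [map_mul, map_mul] at h
      calc C.F j0 * x * C.F j0 * C.F e = C.F j0 * (x * (C.F j0 * C.F e * C.F j0)) * (C.F j0)⁻¹ := by group
        _ = C.F j0 * (C.F j0 * C.F e * C.F j0 * x) * C.F j0 := by rw [h, ij]
        _ = (C.F j0 * C.F j0) * C.F e * (C.F j0 * x * C.F j0) := by group
        _ = _ := by rw [jj, one_mul]
    rcases hd with rfl | rfl | rfl | rfl
    · exact C.ynorm x hxd
    · exact C.ynorm x (hyy x hxd)
    · exact viaJ (conj y0 hxd)
    · exact viaJ (hyy _ (conj _ hxd))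
  -- the centraliser of `w`
  have hw : ∀ x ∈ X, x * C.F w0 = C.F w0 * x → x ∈ C.V0 := by
    intro x hx hxw
    suffices hx1 : x = 1 by rw [hx1]; exact one_mem _
    obtain ⟨q, hq, hqz⟩ := C.mem_cent_w hxw
    have hpow : ∀ p : LL, C.s * C.F p * C.s ∈ X → p ^ Nat.card X = 1 := by
      intro p hp
      apply C.F_inj
      rw [map_pow, map_one]
      have e : C.s * C.F p * C.s = C.s * C.F p * C.s⁻¹ := by rw [inv_of_sq C.ss]
      have h : (⟨_, hp⟩ : X) ^ Nat.card X = 1 := pow_card_eq_one'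
      have h' : (C.s * C.F p * C.s) ^ Nat.card X = 1 := congrArg Subtype.val h
      rw [e, conj_pow] at h'
      exact conj_eq_one_iff.1 h'
    have hq1 : q.1 = 1 := by
      have h := congrArg Prod.fst (hpow q (hq ▸ hx))
      rw [Prod.pow_fst, Prod.fst_one] at h
      have hP : ∀ a ∈ P3, a ^ 3 = 1 := by decide +kernel
      have := Nat.dvd_gcd (orderOf_dvd_of_pow_eq_one h) (orderOf_dvd_of_pow_eq_one (hP _ ((comm_z0 q).1 hqz)))
      rw [(Nat.Coprime.gcd_eq_one ((Nat.Prime.coprime_iff_not_dvd Nat.prime_three).2 h3).symm)] at this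
      exact orderOf_eq_one_iff.1 (Nat.dvd_one.1 this)
    let E : Subgroup (Perm (Fin 5)) :=
      X.comap (((MulAut.conj C.s).toMonoidHom.comp C.F).comp (MonoidHom.inr _ _))
    have hE : ∀ σ, σ ∈ E ↔ C.s * C.F (1, σ) * C.s ∈ X := fun σ => by
      show C.s * C.F (1, σ) * C.s⁻¹ ∈ X ↔ _
      rw [inv_of_sq C.ss]
    have hEw : ∀ σ ∈ E, w5 * σ * w5⁻¹ ∈ E := by
      intro σ hσ
      rw [hE] at hσ ⊢
      have h := hD _ (mem_map_of_mem _ Dm_facts.1) _ hσ
      have e : ((1, w5 * σ * w5⁻¹) : LL) = w0 * (1, σ) * w0⁻¹ := Prod.ext (by simp [w0]) (by simp [w0])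
      rw [e, map_mul, map_mul, map_inv, C.sconj_mul, C.sconj_mul, C.sw]
      rw [show C.s * (C.F w0)⁻¹ * C.s = (C.F z0)⁻¹ by
        rw [← C.sw, mul_inv_rev, mul_inv_rev, inv_of_sq C.ss]; group]
      exact h
    have hEt : ∀ σ ∈ E, swap 3 4 * σ * (swap 3 4)⁻¹ ∈ E := by
      intro σ hσ
      rw [hE] at hσ ⊢
      have h := hτ _ hσ
      have hτ' : C.F tau0 = C.s * C.F jt0 * C.s := by
        have h' := C.stau
        rw [hε, cond_true] at h'
        rw [← h', C.sconj_sconj]
      rw [hτ', inv_of_sq (show (C.s * C.F jt0 * C.s) * (C.s * C.F jt0 * C.s) = 1 by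
          rw [← C.sconj_mul, ← map_mul, show jt0 * jt0 = 1 by decide +kernel, map_one, mul_one, C.ss]),
          ← C.sconj_mul, ← C.sconj_mul, ← map_mul, ← map_mul] at h
      convert h using 4
      exact Prod.ext (by simp [jt0]) (by simp [jt0])
    have hEc : ∀ σ ∈ E, σ * w5 = w5 * σ → σ = 1 := by
      intro σ hσ hc
      rw [hE] at hσ
      have hcz : C.s * C.F (1, σ) * C.s * C.F z0 = C.F z0 * (C.s * C.F (1, σ) * C.s) := by
        rw [← C.sw]
        exact C.sconj_comm (C.F_comm.2 (Prod.ext (by simp [w0]) (by simpa [w0] using hc)))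
      obtain ⟨v, hv, e⟩ := hz _ hσ hcz
      have hvw : v * w0 = w0 * v := C.F_comm.1 (by
        rw [e, ← C.sz]
        exact C.sconj_comm (C.F_comm.2 (Prod.ext (by simp [z0]) (by simp [z0]))))
      rw [(V0_facts.1 v hv).2.2.2.2 hvw, map_one] at e
      have h1 : C.F (1, σ) = 1 := by
        rw [← C.sconj_sconj (C.F (1, σ)), ← e, mul_one, C.ss]
      exact congrArg Prod.snd (C.F_inj (h1.trans (map_one C.F).symm))
    have hEp : ∀ σ ∈ E, σ ^ 40 = 1 := by
      intro σ hσ
      have h := congrArg Prod.snd (hpow (1, σ) ((hE σ).1 hσ))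
      rw [Prod.pow_snd, Prod.snd_one] at h
      have h120 : σ ^ 120 = 1 := by
        have := pow_card_eq_one (x := σ)
        rwa [Fintype.card_perm, Fintype.card_fin] at this
      refine orderOf_dvd_iff_pow_eq_one.1 ?_
      refine Nat.Coprime.dvd_of_dvd_mul_left (k := orderOf σ) (m := 3) ?_ (orderOf_dvd_of_pow_eq_one h120)
      exact (((Nat.Prime.coprime_iff_not_dvd Nat.prime_three).2 h3).symm).coprime_dvd_left (orderOf_dvd_of_pow_eq_one h)
    have hσ0 : q.2 ∈ E := by
      rw [hE, show ((1, q.2) : LL) = q from Prod.ext hq1.symm rfl, hq]; exact hx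
    by_contra hne
    have hne1 : q.2 ≠ 1 := fun h => hne (by
      rw [← hq, show q = 1 from Prod.ext hq1 h, map_one, mul_one, C.ss])
    have hA : wordA q.2 ∈ E := by
      have h1 := hEw _ (hEt _ hσ0)
      have h2 := hEw _ (hEw _ hσ0)
      have := mul_mem (mul_mem hσ0 h1) h2
      convert this using 1
      unfold wordA; group
    have hB : wordB q.2 ∈ E := by
      have h2 := hEw _ (hEw _ hσ0)
      have := mul_mem (mul_mem (mul_mem hσ0 hσ0) (hEw _ hσ0)) h2
      convert this using 1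
      unfold wordB; group
    rcases word_fact q.2 (hEp _ hσ0) hne1 with (h | ⟨h, h'⟩) | (h | ⟨h, h'⟩)
    · exact h (hEp _ hA)
    · exact h (hEc _ hA h')
    · exact h (hEp _ hB)
    · exact h (hEc _ hB h')
  -- conclude
  haveI : IsMulCommutative (Dm.map C.F) := ⟨⟨fun a b => Subtype.ext (by
    obtain ⟨p, hp, ep⟩ := a.2
    obtain ⟨q, hq, eq⟩ := b.2
    show (a : G) * b = b * a
    rw [← ep, ← eq]; exact C.F_comm.2 (Dm_comm hp hq))⟩⟩
  have hnc : ¬ IsCyclic (Dm.map C.F) := by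
    intro h
    obtain ⟨g, hg⟩ := IsCyclic.exists_generator (α := Dm.map C.F)
    have h9 := orderOf_eq_card_of_forall_mem_zpowers hg
    rw [C.card_D] at h9
    have h3' : orderOf g ∣ 3 := orderOf_dvd_of_pow_eq_one (Subtype.ext (by rw [SubmonoidClass.coe_pow]; exact C.cube g.2))
    rw [h9] at h3'
    norm_num at h3'
  have hnorm : Dm.map C.F ≤ normalizer (X : Set G) := fun d hd => by
    rw [mem_normalizer_iff]
    refine fun n => ⟨hD d hd n, fun h => ?_⟩
    have := hD _ (inv_mem hd) _ h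
    simpa [mul_assoc] using this
  have hcop : (Nat.card (Dm.map C.F)).Coprime (Nat.card X) := by
    rw [C.card_D, show (9 : ℕ) = 3 ^ 2 by norm_num]
    exact ((Nat.Prime.coprime_iff_not_dvd Nat.prime_three).2 h3).pow_left 2
  rw [← CoprimeAct.generated_by_centralizers hnc hnorm hcop]
  refine iSup₂_le ?_
  rintro a ⟨⟨d, hd, rfl⟩, hd1⟩ x hx
  obtain ⟨hxX, hxd⟩ := mem_inf.1 hx
  rw [mem_centralizer_singleton_iff] at hxd
  have e2 : ∀ p : LL, p ∈ Dm → x * C.F (p * p) = C.F (p * p) * x → x * C.F p = C.F p * x := fun p hp h => by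
    have e : C.F p = C.F (p * p) * C.F (p * p) := by
      rw [← map_mul]; congr 1
      calc p = p * p * p * p := by rw [(Dm_facts.2.2.2.1 p hp).1, one_mul]
        _ = p * p * (p * p) := by group
    rw [e]; exact (Commute.mul_right h h).eq
  rcases Dm_lines d hd with rfl | rfl | rfl | rfl | rfl | h
  · exact absurd (map_one C.F) hd1
  · exact hz x hxX hxd
  · exact hz x hxX (e2 _ Dm_facts.1 hxd)
  · exact hw x hxX hxd
  · exact hw x hxX (e2 _ Dm_facts.2.1 hxd)
  · exact hyall d h x hxX hxd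

/-- The order of the centraliser of the four-group. -/
theorem cv_card (hε : C.ε = true) :
    Nat.card C.CV = 12 ∨ Nat.card C.CV = 24 ∨ Nat.card C.CV = 240 := by
  classical
  haveI : Fact (Nat.Prime 3) := ⟨Nat.prime_three⟩
  haveI hVn : (C.V0.subgroupOf C.CV).Normal := ⟨fun n hn g => by
    rw [mem_subgroupOf] at hn ⊢
    rw [Subgroup.coe_mul, Subgroup.coe_mul, Subgroup.coe_inv, C.CV_comm g.2 hn, mul_inv_cancel_right]
    exact hn⟩
  set π := QuotientGroup.mk' (C.V0.subgroupOf C.CV) with hπ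
  have hπ1 : ∀ a : C.CV, π a = 1 ↔ (a : G) ∈ C.V0 := fun a =>
    (QuotientGroup.eq_one_iff a).trans mem_subgroupOf
  have hcardV : Nat.card (C.V0.subgroupOf C.CV) = 4 :=
    (Nat.card_congr (subgroupOfEquivOfLe C.V0_le_CV).toEquiv).trans C.card_V0
  have hcard : Nat.card C.CV = Nat.card (C.CV ⧸ C.V0.subgroupOf C.CV) * 4 := by
    rw [card_eq_card_quotient_mul_card_subgroup (C.V0.subgroupOf C.CV), hcardV]
  set zb := π ⟨C.F z0, C.z_mem_CV⟩ with hzb
  have hz1 : zb ≠ 1 := by
    intro h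
    obtain ⟨v, hv, e⟩ := (hπ1 _).1 h
    rw [C.F_inj e] at hv
    exact absurd (show z0 ∈ V0m from hv) (by decide +kernel)
  have hzo : orderOf zb = 3 := orderOf_eq_prime (by
    rw [hzb, ← map_pow, hπ1, SubmonoidClass.coe_pow, C.cube (mem_map_of_mem _ Dm_facts.1)]
    exact one_mem _) hz1
  have hself : centralizer (zpowers zb : Set (C.CV ⧸ C.V0.subgroupOf C.CV)) = zpowers zb := by
    refine le_antisymm (fun b hb => ?_) ?_
    · obtain ⟨a, rfl⟩ := QuotientGroup.mk'_surjective _ b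
      have hc : π a * zb = zb * π a := ((mem_centralizer_iff.1 hb) zb (mem_zpowers _)).symm
      have h1 : π (a * ⟨C.F z0, C.z_mem_CV⟩ * a⁻¹ * (⟨C.F z0, C.z_mem_CV⟩ : C.CV)⁻¹) = 1 := by
        rw [map_mul, map_mul, map_mul, map_inv, map_inv, ← hzb, hc, mul_inv_cancel_right, mul_inv_cancel]
      have hv := (hπ1 _).1 h1
      simp only [Subgroup.coe_mul, Subgroup.coe_inv] at hv
      obtain ⟨v, hv, e⟩ := hv
      have hzc := C.cube (mem_map_of_mem C.F Dm_facts.1)
      have hev : (a : G) * C.F z0 * (a : G)⁻¹ = C.F v * C.F z0 := by rw [e, inv_mul_cancel_right]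
      have hcomm : Commute (C.F v) (C.F z0) := C.F_comm.2 (V0_facts.1 v hv).2.2.1
      have h3 : (C.F v * C.F z0) ^ 3 = 1 := by rw [← hev, conj_pow, hzc, mul_one, mul_inv_cancel]
      rw [hcomm.mul_pow, hzc, mul_one] at h3
      have hv1 : C.F v = 1 := by
        have h2 : C.F v * C.F v = 1 := by rw [← map_mul, (V0_facts.1 v hv).2.2.2.1, map_one]
        rw [pow_succ, pow_two, h2, one_mul] at h3
        exact h3
      rw [hv1, one_mul] at hev
      obtain ⟨k, w, hw, ea⟩ := C.cv_cent_z a.2 (mul_inv_eq_iff_eq_mul.1 hev)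
      have ha : a = (⟨C.F z0, C.z_mem_CV⟩ : C.CV) ^ (k : ℕ) * ⟨w, C.V0_le_CV hw⟩ := Subtype.ext (by
        rw [Subgroup.coe_mul, SubmonoidClass.coe_pow]; exact ea)
      have hb' : π a = zb ^ (k : ℕ) := by
        rw [ha, map_mul, map_pow, (hπ1 ⟨w, C.V0_le_CV hw⟩).2 hw, mul_one]
      rw [hb']
      exact pow_mem (mem_zpowers _) _
    · intro b hb
      rw [mem_centralizer_iff]
      intro c hc
      obtain ⟨i, rfl⟩ := hb
      obtain ⟨j, rfl⟩ := hc
      exact (Commute.zpow_zpow_self zb j i).eq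
  have hquot : ∀ N : Subgroup (C.CV ⧸ C.V0.subgroupOf C.CV), ∀ hN : N.Normal, ¬ 3 ∣ Nat.card N →
      (Nat.card (_ ⧸ N) = 3 ∨ Nonempty (_ ⧸ N ≃* Perm (Fin 3)) ∨ Nonempty (_ ⧸ N ≃* alternatingGroup (Fin 5))) →
      Nat.card C.CV = Nat.card (_ ⧸ N) * 4 := by
    intro N hN h3 hq
    set X := (N.comap π).map C.CV.subtype with hX
    have hmemX : ∀ x : G, x ∈ X ↔ ∃ h : x ∈ C.CV, π ⟨x, h⟩ ∈ N := by
      intro x
      constructor
      · rintro ⟨a, ha, rfl⟩; exact ⟨a.2, ha⟩
      · rintro ⟨h, h'⟩; exact ⟨⟨x, h⟩, h', rfl⟩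
    have hXc : Nat.card X = Nat.card N * 4 := by
      rw [hX, card_map_of_injective C.CV.subtype_injective]
      have h1 := (N.comap π).index_mul_card
      rw [index_comap_of_surjective _ (QuotientGroup.mk'_surjective _), hcard, ← N.index_mul_card, mul_assoc] at h1
      exact Nat.eq_of_mul_eq_mul_left (Nat.pos_of_ne_zero N.index_ne_zero_of_finite) h1
    have h3X : ¬ 3 ∣ Nat.card X := by
      rw [hXc]
      exact fun h => h3 ((Nat.Coprime.dvd_of_dvd_mul_right (by norm_num) h))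
    have hX3 : ∀ M : Subgroup C.CV, M.Normal → ¬ 3 ∣ Nat.card M → M ≤ N.comap π := by
      intro M hM hM3 x hx
      haveI : (M.map π).Normal := Subgroup.Normal.map hM _ (QuotientGroup.mk'_surjective _)
      exact mem_comap.2 (le_of_quot N hq (M.map π) (fun h => hM3 (h.trans (card_map_dvd M π))) (mem_map_of_mem _ hx))
    have hconj : ∀ g : G, (∀ x ∈ C.CV, g * x * g⁻¹ ∈ C.CV) → (∀ x ∈ C.CV, g⁻¹ * x * g ∈ C.CV) →
        ∀ x ∈ X, g * x * g⁻¹ ∈ X := by
      intro g hg hg' x hx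
      let α : C.CV ≃* C.CV :=
        { toFun := fun a => ⟨g * a * g⁻¹, hg a a.2⟩
          invFun := fun a => ⟨g⁻¹ * a * g, hg' a a.2⟩
          left_inv := fun a => Subtype.ext (by show g⁻¹ * (g * (a : G) * g⁻¹) * g = a; group)
          right_inv := fun a => Subtype.ext (by show g * (g⁻¹ * (a : G) * g) * g⁻¹ = a; group)
          map_mul' := fun a b => Subtype.ext (by
            show g * ((a : G) * b) * g⁻¹ = g * a * g⁻¹ * (g * b * g⁻¹); group) }
      haveI : N.Normal := hN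
      obtain ⟨h, h'⟩ := (hmemX x).1 hx
      have h3N : ¬ 3 ∣ Nat.card (N.comap π) := by
        rw [← card_map_of_injective (K := N.comap π) C.CV.subtype_injective, ← hX]; exact h3X
      have hle := hX3 ((N.comap π).map α.toMonoidHom) (Subgroup.Normal.map inferInstance _ α.surjective)
        (by rwa [card_map_of_injective α.injective])
      exact ⟨α ⟨x, h⟩, hle (mem_map_of_mem α.toMonoidHom (mem_comap.2 h')), rfl⟩
    have hXV := C.cv_three' hε X (fun x hx => ((hmemX x).1 hx).1)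
      (fun v hv => (hmemX v).2 ⟨C.V0_le_CV hv, by rw [(hπ1 ⟨v, C.V0_le_CV hv⟩).2 hv]; exact one_mem _⟩) h3X
      (fun d hd => hconj d (fun x hx => C.cv_norm_D hd hx) (fun x hx => by
        have := C.cv_norm_D (inv_mem hd) hx; rwa [inv_inv] at this))
      (hconj _ (fun x hx => C.cv_norm_tau hx) (fun x hx => by
        have := C.cv_norm_tau hx
        rw [inv_of_sq (show C.F tau0 * C.F tau0 = 1 by rw [← map_mul, rel_facts.1, map_one])] at this ⊢
        exact this))
    have hN1 : Nat.card N = 1 := by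
      have h := hXc
      rw [hXV, C.card_V0] at h
      omega
    have h := N.index_mul_card
    rw [hN1, mul_one, index_eq_card] at h
    rw [hcard, ← h]
  rcases Cfsg.Agent.S3331.result (zpowers zb) (by rw [Nat.card_zpowers, hzo]) hself with
    ⟨N, hN, -, hco, hq⟩ | ⟨N, hN, -, h2, ⟨e⟩⟩ | ⟨⟨e⟩⟩
  · have h := hquot N hN ((Nat.Prime.coprime_iff_not_dvd Nat.prime_three).1 hco.symm)
      (hq.elim Or.inl fun h => Or.inr (Or.inl h))
    rcases hq with hq | ⟨⟨e⟩⟩
    · rw [hq] at h; omega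
    · rw [Nat.card_congr e.toEquiv, Nat.card_eq_fintype_card (α := Perm (Fin 3)), Fintype.card_perm,
        Fintype.card_fin] at h
      exact Or.inr (Or.inl h)
  · have h3N : ¬ 3 ∣ Nat.card N := by
      intro h
      obtain ⟨⟨a, ha⟩, hao⟩ := exists_prime_orderOf_dvd_card' (G := N) 3 h
      have h' := h2 a ha
      rw [← orderOf_dvd_iff_pow_eq_one, ← orderOf_mk a ha, hao] at h'
      norm_num at h'
    have h := hquot N hN h3N (Or.inr (Or.inr ⟨e⟩))
    rw [Nat.card_congr e.toEquiv, nat_card_alternatingGroup, Nat.card_fin] at h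
    exact Or.inr (Or.inr h)
  · exfalso
    haveI : Fact (Nat.Prime 7) := ⟨by norm_num⟩
    have h672 : Nat.card C.CV = 672 := by rw [hcard, Nat.card_congr e.toEquiv, card_psl7]
    -- the Sylow 7-subgroups
    let f : Dm.map C.F →* MulAut C.CV :=
      { toFun := fun d =>
          { toFun := fun a => ⟨(d : G) * a * (d : G)⁻¹, C.cv_norm_D d.2 a.2⟩
            invFun := fun a => ⟨(d : G)⁻¹ * a * d, by
              have := C.cv_norm_D (inv_mem d.2) a.2; rwa [inv_inv] at this⟩
            left_inv := fun a => Subtype.ext (by show (d : G)⁻¹ * ((d : G) * a * (d : G)⁻¹) * d = a; group)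
            right_inv := fun a => Subtype.ext (by show (d : G) * ((d : G)⁻¹ * a * d) * (d : G)⁻¹ = a; group)
            map_mul' := fun a b => Subtype.ext (by
              show (d : G) * ((a : G) * b) * (d : G)⁻¹ = (d : G) * a * (d : G)⁻¹ * ((d : G) * b * (d : G)⁻¹)
              group) }
        map_one' := MulEquiv.ext fun a => Subtype.ext (by show (1 : G) * a * (1 : G)⁻¹ = a; simp)
        map_mul' := fun c d => MulEquiv.ext fun a => Subtype.ext (by
          show ((c : G) * d) * a * ((c : G) * d)⁻¹ = (c : G) * ((d : G) * a * (d : G)⁻¹) * (c : G)⁻¹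
          group) }
    obtain ⟨P⟩ : Nonempty (Sylow 7 C.CV) := inferInstance
    have hn : Nat.card (Sylow 7 C.CV) ∣ 96 := by
      have h1 := P.card_dvd_index
      have h2 := (P : Subgroup C.CV).index_mul_card
      have hP : Nat.card (P : Subgroup C.CV) = 7 := by
        rw [P.card_eq_multiplicity, h672]
        have : (672 : ℕ).factorization 7 = 1 := by
          rw [show (672 : ℕ) = 96 * 7 by norm_num, Nat.factorization_mul (by norm_num) (by norm_num),
            Finsupp.add_apply, Nat.factorization_eq_zero_of_not_dvd (by norm_num), zero_add,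
            Nat.Prime.factorization_self (by norm_num)]
        rw [this]; rfl
      rw [hP, h672] at h2
      rwa [show (P : Subgroup C.CV).index = 96 by omega] at h1
    have hmod : Nat.card (Sylow 7 C.CV) % 7 = 1 := card_sylow_modEq_one 7 C.CV
    have hn3 : ¬ 3 ∣ Nat.card (Sylow 7 C.CV) := fun h => by
      have : ∀ n ∈ Nat.divisors 96, n % 7 = 1 → ¬ 3 ∣ n := by decide +kernel
      exact this _ (Nat.mem_divisors.2 ⟨hn, by norm_num⟩) hmod h
    letI : MulAction (Dm.map C.F) (Sylow 7 C.CV) := MulAction.compHom (Sylow 7 C.CV) f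
    have hp : IsPGroup 3 (Dm.map C.F) := IsPGroup.of_card (n := 2) (by rw [C.card_D]; norm_num)
    obtain ⟨Q, hQ⟩ := hp.nonempty_fixed_point_of_prime_not_dvd_card (Sylow 7 C.CV) hn3
    have hQc : Nat.card (Q : Subgroup C.CV) = 7 := by
      rw [Q.card_eq_multiplicity, h672]
      have : (672 : ℕ).factorization 7 = 1 := by
        rw [show (672 : ℕ) = 96 * 7 by norm_num, Nat.factorization_mul (by norm_num) (by norm_num),
          Finsupp.add_apply, Nat.factorization_eq_zero_of_not_dvd (by norm_num), zero_add,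
          Nat.Prime.factorization_self (by norm_num)]
      rw [this]; rfl
    obtain ⟨⟨a, ha⟩, hao⟩ := exists_prime_orderOf_dvd_card' (G := (Q : Subgroup C.CV)) 7 (by rw [hQc])
    rw [orderOf_mk] at hao
    have hfix : ∀ d : Dm.map C.F, ∀ x ∈ (Q : Subgroup C.CV), f d x ∈ (Q : Subgroup C.CV) := fun d x hx => by
      have h : f d • Q = Q := hQ d
      have hx' : f d x ∈ ((f d • Q : Sylow 7 C.CV) : Subgroup C.CV) := by
        rw [Sylow.pointwise_smul_def]
        exact Subgroup.smul_mem_pointwise_smul x (f d) _ hx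
      rwa [h] at hx'
    have hza : zpowers a = (Q : Subgroup C.CV) := eq_of_le_of_card_ge (zpowers_le.2 ha)
      (by rw [hQc, Nat.card_zpowers, hao])
    have hpow : ∀ d : Dm.map C.F, ∃ m : ℕ, m < 7 ∧ f d a = a ^ m := fun d => by
      have h := hfix d a ha
      rw [← hza, mem_zpowers_iff_mem_range_orderOf, hao] at h
      obtain ⟨m, hm, e⟩ := Finset.mem_image.1 h
      exact ⟨m, Finset.mem_range.1 hm, e.symm⟩
    choose m hm hma using hpow
    have hnot : ∀ d : Dm.map C.F, d ≠ 1 → f d a ≠ a := by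
      intro d hd hc
      have hc' : (d : G) * (a : G) * (d : G)⁻¹ = (a : G) := congrArg Subtype.val hc
      have h7 : 7 ∣ Nat.card (centralizer ({(d : G)} : Set G)) := by
        have hao' : orderOf (a : G) = 7 := (orderOf_coe a).trans hao
        rw [← hao', ← orderOf_mk (a : G) (H := centralizer ({(d : G)} : Set G))
          (mem_centralizer_singleton_iff.2 (mul_inv_eq_iff_eq_mul.1 hc').symm)]
        exact orderOf_dvd_natCard _
      obtain ⟨p, hp, ep⟩ := d.2
      have hcd : Nat.card (centralizer ({(d : G)} : Set G)) = 360 ∨ Nat.card (centralizer ({(d : G)} : Set G)) = 36 := by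
        have sq : ∀ r : LL, r ∈ Dm → C.F (r * r) = (C.F r)⁻¹ := fun r hr =>
          (inv_eq_of_mul_eq_one_right (by
            rw [map_mul, ← mul_assoc]; simpa [pow_succ] using C.cube (mem_map_of_mem _ hr))).symm
        rw [← ep]
        rcases Dm_lines p hp with rfl | rfl | rfl | rfl | rfl | h
        · exact absurd (Subtype.ext (by rw [← ep, map_one]; rfl)) hd
        · exact Or.inl C.card_cent_z
        · rw [sq _ Dm_facts.1, centralizer_inv_eq]; exact Or.inl C.card_cent_z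
        · exact Or.inl C.card_cent_w
        · rw [sq _ Dm_facts.2.1, centralizer_inv_eq]; exact Or.inl C.card_cent_w
        · exact Or.inr (C.card_cent_y h)
      rcases hcd with h | h <;> rw [h] at h7 <;> omega
    -- the action on the cyclic group of order seven
    have hinj : Function.Injective fun d => (m d : ZMod 7) := by
      intro c d hcd
      have e : m c = m d := by
        have h := congrArg ZMod.val hcd
        simp only [ZMod.val_natCast, Nat.mod_eq_of_lt (hm c), Nat.mod_eq_of_lt (hm d)] at h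
        exact h
      by_contra hne
      refine hnot (c⁻¹ * d) (fun h => hne (inv_mul_eq_one.1 h)) ?_
      rw [map_mul, MulAut.mul_apply, hma d, ← e, ← hma c, map_inv]
      exact MulEquiv.symm_apply_apply (f c) a
    have hle := Nat.card_le_card_of_injective _ hinj
    rw [C.card_D, Nat.card_zmod] at hle
    omega

end Cfg

end Cfsg.Agent.S8Three
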