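import Cfsg.Agent.Lib.S8Three.SmallNorm
import Cfsg.Agent.Lib.S8Three.Sub

/-!
Centralisers of involutions in the subgroup of index four.
-/

set_option autoImplicit false
set_option linter.style.haveILetI false
set_option linter.unusedSectionVars false
set_option maxRecDepth 20000

namespace Cfsg.Agent.S8Three

open Equiv Subgroup

namespace Sub0

variable {G : Type*} [Group G] [Finite G] {C : Cfg G} {hS : C.Small} (Z : Sub0 C hS)
include Z

theorem io_G0 (x : alternatingGroup (Fin 5) × alternatingGroup (Fin 5)) : C.io hS x ∈ Z.G0 := Z.M0_le ⟨x, rfl⟩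

theorem io_swap (a b : alternatingGroup (Fin 5)) : C.s * C.io hS (a, b) * C.s = C.io hS (b, a) := by
  show C.s * C.Om hS (toK (a, b)) * C.s = C.Om hS (toK (b, a))
  rw [C.Om_swap]; rfl

/-- `W` as a Sylow 2-subgroup of an intermediate group. -/
theorem exists_sylow_W {U : Subgroup G} (h1 : Z.W ≤ U) (h2 : U ≤ Z.G0) :
    ∃ P : Sylow 2 U, (P : Subgroup U) = Z.W.subgroupOf U := by
  haveI : Fact (Nat.Prime 2) := ⟨Nat.prime_two⟩
  have hp : IsPGroup 2 (Z.W.subgroupOf U) := IsPGroup.of_card (n := 4)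
    ((Nat.card_congr (subgroupOfEquivOfLe h1).toEquiv).trans Z.card_W)
  have hi : ¬ 2 ∣ (Z.W.subgroupOf U).index := Nat.two_dvd_ne_zero.2 (Nat.odd_iff.1 (Z.rel_odd h1 h2))
  exact ⟨hp.toSylow hi, rfl⟩

/-- The centraliser of `(v, 1)`. -/
theorem cent_va {g : G} (hg : g ∈ Z.G0) (h : g * C.io hS (va, 1) = C.io hS (va, 1) * g) : g ∈ C.M0 hS := by
  classical
  haveI : Fact (Nat.Prime 2) := ⟨Nat.prime_two⟩
  set U := centralizer ({C.io hS (va, 1)} : Set G) ⊓ Z.G0 with hU
  have hUc : ∀ x ∈ U, x * C.io hS (va, 1) = C.io hS (va, 1) * x := fun x hx =>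
    mem_centralizer_singleton_iff.1 (mem_inf.1 hx).1
  have hioU : ∀ x : alternatingGroup (Fin 5) × alternatingGroup (Fin 5), x.1 ∈ W5 → C.io hS x ∈ U := fun x hx =>
    mem_inf.2 ⟨mem_centralizer_singleton_iff.2 (by
      rw [← map_mul, ← map_mul]
      congr 1
      exact Prod.ext (W5_comm hx va_mem.1) (by simp)), Z.io_G0 x⟩
  have hWU : Z.W ≤ U := fun v hv => by
    obtain ⟨a, b, ha, -, rfl⟩ := Z.mem_W.1 hv; exact hioU _ ha
  obtain ⟨P, hP⟩ := Z.exists_sylow_W hWU inf_le_right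
  letI : CommGroup Z.W :=
    { (inferInstance : Group Z.W) with mul_comm := fun a b => Subtype.ext (Z.W_comm _ a.2 _ b.2) }
  let φ : (Z.W.subgroupOf U) →* Z.W := (subgroupOfEquivOfLe hWU).toMonoidHom
  set τ : U →* Z.W := MonoidHom.transfer φ with hτ
  haveI : IsMulCommutative (P : Subgroup U) := ⟨⟨fun a b => Subtype.ext (Subtype.ext (by
    have ha : (((a : U) : G)) ∈ Z.W := mem_subgroupOf.1 (hP ▸ a.2)
    have hb : (((b : U) : G)) ∈ Z.W := mem_subgroupOf.1 (hP ▸ b.2)
    exact Z.W_comm _ ha _ hb))⟩⟩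
  have hτv : ∀ c, ∀ hc : c ∈ W5, ((τ ⟨C.io hS (c, 1), hioU _ hc⟩ : Z.W) : G) = C.io hS (c, 1) := by
    intro c hc
    set v : U := ⟨C.io hS (c, 1), hioU _ hc⟩ with hv
    have key : ∀ (k : ℕ) (g₀ : U), g₀⁻¹ * v ^ k * g₀ ∈ Z.W.subgroupOf U → g₀⁻¹ * v ^ k * g₀ = v ^ k := by
      intro k g₀ hk
      have hvP : v ^ k ∈ (P : Subgroup U) := by
        rw [hP]; exact pow_mem (mem_subgroupOf.2 (Z.mem_W.2 ⟨c, 1, hc, one_mem _, rfl⟩)) k
      obtain ⟨n, hn, e⟩ := P.conj_eq_normalizer_conj_of_mem (v ^ k) g₀ hvP (show _ ∈ (P : Subgroup U) by rw [hP]; exact hk)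
      rw [e]
      have hnW : (n : G) ∈ normalizer (Z.W : Set G) := by
        rw [mem_normalizer_iff]
        intro w
        have hn' : n ∈ normalizer ((P : Subgroup U) : Set U) := hn
        rw [hP] at hn'
        exact (norm_sub hWU n).1 hn' |> fun h => mem_normalizer_iff.1 h w
      obtain ⟨⟨x, y⟩, hxy⟩ := Z.norm_W_le (mem_inf.1 n.2).2 hnW
      have hn1 := hUc _ n.2
      rw [← hxy, ← map_mul, ← map_mul] at hn1
      have hx : x ∈ W5 := W5_cent (congrArg Prod.fst (C.io_inj hS hn1) :)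
      refine Subtype.ext ?_
      simp only [Subgroup.coe_mul, Subgroup.coe_inv, SubmonoidClass.coe_pow, hv]
      rw [← hxy, ← map_inv, ← map_pow, ← map_mul, ← map_mul]
      congr 1
      refine Prod.ext ?_ (by simp)
      show x⁻¹ * c ^ k * x = c ^ k
      rw [mul_assoc, W5_comm (pow_mem hc k) hx, ← mul_assoc, inv_mul_cancel, one_mul]
    rw [hτ, MonoidHom.transfer_eq_pow φ v key]
    show ((v ^ (Z.W.subgroupOf U).index : U) : G) = _
    rw [SubmonoidClass.coe_pow]
    obtain ⟨m, hm⟩ := Z.rel_odd hWU inf_le_right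
    rw [show (Z.W.subgroupOf U).index = 2 * m + 1 from hm, pow_succ, pow_mul, pow_two,
      Z.W_sq (Z.mem_W.2 ⟨c, 1, hc, one_mem _, rfl⟩), one_pow, one_mul]
  have hUcard : Nat.card U = 16 * Z.W.relIndex U := by rw [← Z.card_W, PBasic.card_mul_relIndex hWU]
  have h32 : ¬ 32 ∣ Nat.card U := by
    rw [hUcard]
    obtain ⟨m, hm⟩ := Z.rel_odd hWU inf_le_right
    rw [hm]; intro h; omega
  have hUR : Nat.card τ.ker * Nat.card τ.range = Nat.card U := by rw [← index_ker]; exact τ.ker.card_mul_index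
  have hrange : 4 ∣ Nat.card τ.range := by
    let f : W5 →* τ.range :=
      { toFun := fun c => ⟨τ ⟨C.io hS ((c : alternatingGroup (Fin 5)), 1), hioU _ c.2⟩, ⟨_, rfl⟩⟩
        map_one' := Subtype.ext (by
          show τ ⟨C.io hS ((1 : alternatingGroup (Fin 5)), 1), _⟩ = 1
          rw [← map_one τ]; congr 1; exact Subtype.ext (map_one _))
        map_mul' := fun c d => Subtype.ext (by
          show τ ⟨_, _⟩ = τ _ * τ _
          rw [← map_mul]; congr 1
          refine Subtype.ext ?_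
          show C.io hS ((c : alternatingGroup (Fin 5)) * d, 1) = C.io hS (↑c, 1) * C.io hS (↑d, 1)
          rw [← map_mul, Prod.mk_mul_mk, mul_one]) }
    have hf : Function.Injective f := fun c d h => by
      have h' : ((τ ⟨C.io hS ((c : alternatingGroup (Fin 5)), 1), hioU _ c.2⟩ : Z.W) : G) =
          ((τ ⟨C.io hS ((d : alternatingGroup (Fin 5)), 1), hioU _ d.2⟩ : Z.W) : G) :=
        congrArg (fun z : τ.range => ((z : Z.W) : G)) h
      rw [hτv _ c.2, hτv _ d.2] at h'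
      exact Subtype.ext (congrArg Prod.fst (C.io_inj hS h') :)
    exact card_W5 ▸ Subgroup.card_dvd_of_injective f hf
  have hB : ∀ y : alternatingGroup (Fin 5), (⟨C.io hS (1, y), hioU _ (one_mem _)⟩ : U) ∈ τ.ker := fun y => by
    let f : alternatingGroup (Fin 5) →* Z.W := τ.comp
      { toFun := fun y => ⟨C.io hS (1, y), hioU _ (one_mem _)⟩
        map_one' := Subtype.ext (map_one _)
        map_mul' := fun a b => Subtype.ext (by
          show C.io hS (1, a * b) = C.io hS (1, a) * C.io hS (1, b)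
          rw [← map_mul, Prod.mk_mul_mk, one_mul]) }
    exact MonoidHom.mem_ker.2 (hom_small f (by rw [Z.card_W]; norm_num) y)
  let ιB : alternatingGroup (Fin 5) →* τ.ker :=
    { toFun := fun y => ⟨_, hB y⟩
      map_one' := Subtype.ext (Subtype.ext (map_one _))
      map_mul' := fun a b => Subtype.ext (Subtype.ext (by
        show C.io hS (1, a * b) = C.io hS (1, a) * C.io hS (1, b)
        rw [← map_mul, Prod.mk_mul_mk, one_mul])) }
  have hιB : Function.Injective ιB := fun a b h =>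
    (congrArg Prod.snd (C.io_inj hS (congrArg (fun z : τ.ker => ((z : U) : G)) h)) :)
  have hz : C.io hS (1, wa) = C.F z0 := by
    rw [C.io_apply]; show C.Fb 1 * C.Pb w5 = _
    rw [map_one, one_mul, C.Pb_eq]; exact C.sw
  have hzo : orderOf (ιB wa) = 3 := by
    haveI : Fact (Nat.Prime 3) := ⟨Nat.prime_three⟩
    rw [orderOf_injective ιB hιB]
    exact orderOf_eq_prime (Subtype.ext (by show w5 ^ 3 = 1; decide +kernel))
      fun h => absurd (show w5 = 1 from congrArg Subtype.val h) (by decide +kernel)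
  have hself : centralizer (zpowers (ιB wa) : Set τ.ker) = zpowers (ιB wa) := by
    refine le_antisymm (fun r hr => ?_) (fun r hr => ?_)
    · have hc : r * ιB wa = ιB wa * r := ((mem_centralizer_iff.1 hr) _ (mem_zpowers _)).symm
      have hc' : ((r : U) : G) * C.io hS (1, wa) = C.io hS (1, wa) * ((r : U) : G) :=
        congrArg (fun z : τ.ker => ((z : U) : G)) hc
      obtain ⟨⟨x, y⟩, hxy⟩ := Z.inter _ (mem_inf.1 (r : U).2).2
        (C.cent_d_mem hS Dm_facts.1 z_move.1 (hz ▸ hc'))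
      have h1 := hUc _ (r : U).2
      rw [← hxy, ← map_mul, ← map_mul] at h1
      have hx : x ∈ W5 := W5_cent (congrArg Prod.fst (C.io_inj hS h1) :)
      rw [← hxy, ← map_mul, ← map_mul] at hc'
      have hy := cent_w5 _ y.2 (congrArg (fun z : alternatingGroup (Fin 5) × alternatingGroup (Fin 5) =>
        ((z.2 : alternatingGroup (Fin 5)) : P5t)) (C.io_inj hS hc'))
      have hr' : (r : U) = (⟨C.io hS (x, 1), hioU _ hx⟩ : U) * ⟨C.io hS (1, y), hioU _ (one_mem _)⟩ :=
        Subtype.ext (by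
          show ((r : U) : G) = C.io hS (x, 1) * C.io hS (1, y)
          rw [← map_mul, Prod.mk_mul_mk, mul_one, one_mul, hxy])
      have hx1 : C.io hS (x, 1) = 1 := by
        have h := MonoidHom.mem_ker.1 r.2
        rw [hr', map_mul, MonoidHom.mem_ker.1 (hB y), mul_one] at h
        rw [← hτv x hx, h]; rfl
      have hrr : r = ιB y := Subtype.ext (Subtype.ext (by
        show ((r : U) : G) = C.io hS (1, y)
        rw [hr']
        show C.io hS (x, 1) * C.io hS (1, y) = _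
        rw [hx1, one_mul]))
      rw [hrr]
      simp only [List.mem_cons, List.not_mem_nil, or_false] at hy
      obtain ⟨k, rfl⟩ : ∃ k : ℕ, y = wa ^ k := by
        rcases hy with h | h | h
        · exact ⟨0, by rw [pow_zero]; exact Subtype.ext h⟩
        · exact ⟨1, by rw [pow_one]; exact Subtype.ext h⟩
        · exact ⟨2, by rw [pow_two]; exact Subtype.ext h⟩
      rw [map_pow]
      exact pow_mem (mem_zpowers _) k
    · rw [mem_centralizer_iff]
      rintro c ⟨m, rfl⟩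
      obtain ⟨l, rfl⟩ := hr
      exact (Commute.zpow_zpow_self (ιB wa) m l).eq
  have h8 : ¬ 8 ∣ Nat.card τ.ker := fun h => h32 (hUR ▸ (show 32 ∣ _ from mul_dvd_mul h hrange))
  have hR60 : Nat.card τ.ker = 60 := by
    rcases Cfsg.Agent.S3331.result (zpowers (ιB wa)) (by rw [Nat.card_zpowers, hzo]) hself with
      ⟨N, hN, -, hco, hq⟩ | ⟨N, hN, -, h2, ⟨e⟩⟩ | ⟨⟨e⟩⟩
    · exfalso
      have hlt : Nat.card (τ.ker ⧸ N) < 60 := by
        rcases hq with h | ⟨⟨e⟩⟩
        · omega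
        · rw [Nat.card_congr e.toEquiv, Nat.card_eq_fintype_card, Fintype.card_perm, Fintype.card_fin]; decide
      have hm : ιB wa ∈ N :=
        (QuotientGroup.eq_one_iff _).1 (hom_small ((QuotientGroup.mk' N).comp ιB) hlt wa)
      have h3 : 3 ∣ Nat.card N := by rw [← hzo, ← orderOf_mk _ hm]; exact orderOf_dvd_natCard _
      exact ((Nat.Prime.coprime_iff_not_dvd Nat.prime_three).1 hco.symm) h3
    · have hN2 : IsPGroup 2 N := fun a => ⟨1, by rw [pow_one]; exact Subtype.ext (h2 _ a.2)⟩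
      obtain ⟨n, hn⟩ := IsPGroup.iff_card.1 hN2
      have hc : Nat.card τ.ker = 60 * Nat.card N := by
        rw [card_eq_card_quotient_mul_card_subgroup N, Nat.card_congr e.toEquiv, card_A5]
      rcases Nat.eq_zero_or_pos n with h0 | h0
      · rw [hc, hn, h0]; rfl
      · exfalso
        refine h8 (hc ▸ hn ▸ ?_)
        obtain ⟨m, rfl⟩ := Nat.exists_eq_add_of_le h0
        exact ⟨15 * 2 ^ m, by rw [pow_add]; ring⟩
    · exfalso
      refine h8 ?_
      rw [Nat.card_congr e.toEquiv, card_psl7]; norm_num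
  have hU240 : Nat.card U ≤ 240 := by
    have hd : Nat.card τ.range ∣ 2 ^ 4 := by
      have h := card_subgroup_dvd_card τ.range
      rw [Z.card_W] at h; exact h
    obtain ⟨m, hm, e⟩ := (Nat.dvd_prime_pow Nat.prime_two).1 hd
    rw [← hUR, hR60, e] at h32
    rw [← hUR, hR60, e]
    interval_cases m
    all_goals first | omega | (norm_num at h32) | norm_num
  -- comparison
  set Y := (W5.prod (⊤ : Subgroup (alternatingGroup (Fin 5)))).map (C.io hS) with hY
  have hYU : Y ≤ U := by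
    rintro _ ⟨x, hx, rfl⟩; exact hioU x hx.1
  have hYc : Nat.card Y = 240 := by
    rw [hY, card_map_of_injective (C.io_inj hS), Nat.card_congr (Subgroup.prodEquiv W5 ⊤).toEquiv,
      Nat.card_prod, card_W5, card_top, card_A5]
  have hgY : g ∈ Y := by
    rw [eq_of_le_of_card_ge hYU (by rw [hYc]; exact hU240)]
    exact mem_inf.2 ⟨mem_centralizer_singleton_iff.2 h, hg⟩
  obtain ⟨x, -, rfl⟩ := hgY
  exact ⟨x, rfl⟩

/-- Centralisers of involutions of the left factor. -/
theorem cent_left {c : alternatingGroup (Fin 5)} (hc : c * c = 1) (hc1 : c ≠ 1) {g : G} (hg : g ∈ Z.G0)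
    (h : g * C.io hS (c, 1) = C.io hS (c, 1) * g) : g ∈ C.M0 hS := by
  obtain ⟨d, hd, e⟩ := invol_v5 _ c.2 (congrArg Subtype.val hc) (fun h => hc1 (Subtype.ext h))
  set d' : alternatingGroup (Fin 5) := ⟨d, hd⟩
  have ec : C.io hS (c, 1) = C.io hS (d', 1) * C.io hS (va, 1) * (C.io hS (d', 1))⁻¹ := by
    rw [← map_inv, ← map_mul, ← map_mul]
    congr 1
    refine Prod.ext (Subtype.ext e.symm) (by simp)
  set m := C.io hS (d', 1)
  have hm : m ∈ C.M0 hS := ⟨_, rfl⟩
  have h' := Z.cent_va (g := m⁻¹ * g * m) (mul_mem (mul_mem (inv_mem (Z.M0_le hm)) hg) (Z.M0_le hm)) (by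
    rw [ec] at h
    calc m⁻¹ * g * m * C.io hS (va, 1) = m⁻¹ * (g * (m * C.io hS (va, 1) * m⁻¹)) * m := by group
      _ = m⁻¹ * (m * C.io hS (va, 1) * m⁻¹ * g) * m := by rw [h]
      _ = _ := by group)
  have h2 := mul_mem (mul_mem hm h') (inv_mem hm)
  rwa [show m * (m⁻¹ * g * m) * m⁻¹ = g by group] at h2

/-- Centralisers of involutions of the right factor. -/
theorem cent_right {c : alternatingGroup (Fin 5)} (hc : c * c = 1) (hc1 : c ≠ 1) {g : G} (hg : g ∈ Z.G0)
    (h : g * C.io hS (1, c) = C.io hS (1, c) * g) : g ∈ C.M0 hS := by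
  obtain ⟨⟨a, b⟩, hab⟩ := Z.cent_left hc hc1 (Z.s_conj g hg) (by
    rw [← Z.io_swap 1 c]; exact C.sconj_comm h)
  refine ⟨(b, a), ?_⟩
  rw [← Z.io_swap a b, hab, C.sconj_sconj]

/-- The centraliser of the diagonal involution is `W`. -/
theorem cent_k {g : G} (hg : g ∈ Z.G0) (h : g * C.io hS (va, va) = C.io hS (va, va) * g) : g ∈ C.M0 hS := by
  classical
  haveI : Fact (Nat.Prime 2) := ⟨Nat.prime_two⟩
  set U := centralizer ({C.io hS (va, va)} : Set G) ⊓ Z.G0 with hU
  have hWU : Z.W ≤ U := fun v hv => by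
    obtain ⟨a, b, ha, hb, rfl⟩ := Z.mem_W.1 hv
    refine mem_inf.2 ⟨mem_centralizer_singleton_iff.2 ?_, Z.io_G0 _⟩
    rw [← map_mul, ← map_mul, Prod.mk_mul_mk, Prod.mk_mul_mk, W5_comm ha va_mem.1, W5_comm hb va_mem.1]
  have hUW : ∀ x : U, (x : G) ∈ C.M0 hS → (x : G) ∈ Z.W := by
    rintro x ⟨⟨a, b⟩, e⟩
    have hx := mem_centralizer_singleton_iff.1 (mem_inf.1 x.2).1
    rw [← e, ← map_mul, ← map_mul] at hx
    have h1 := C.io_inj hS hx
    exact Z.mem_W.2 ⟨a, b, W5_cent (congrArg Prod.fst h1 :), W5_cent (congrArg Prod.snd h1 :), e⟩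
  obtain ⟨P, hP⟩ := Z.exists_sylow_W hWU inf_le_right
  have hPc : normalizer (P : Set U) ≤ centralizer (P : Set U) := by
    intro n hn
    have hn' : n ∈ normalizer ((P : Subgroup U) : Set U) := hn
    rw [hP] at hn'
    have hnW := hUW n (Z.norm_W_le (mem_inf.1 n.2).2 ((norm_sub hWU n).1 hn'))
    rw [mem_centralizer_iff]
    intro p hp
    have hp' : p ∈ (P : Subgroup U) := hp
    rw [hP, mem_subgroupOf] at hp'
    exact Subtype.ext (Z.W_comm _ hp' _ hnW)
  set O := (MonoidHom.transferSylow P hPc).ker with hO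
  have hOc : ¬ 2 ∣ Nat.card O := MonoidHom.not_dvd_card_ker_transferSylow P hPc
  set O' := O.map U.subtype with hO'
  set A := (W5.prod (⊥ : Subgroup (alternatingGroup (Fin 5)))).map (C.io hS) with hA
  have hAW : A ≤ Z.W := by
    rintro _ ⟨⟨a, b⟩, ⟨ha, hb⟩, rfl⟩
    have hb' : b = 1 := mem_bot.1 hb
    exact Z.mem_W.2 ⟨a, b, ha, by rw [hb']; exact one_mem _, rfl⟩
  have hAcard : Nat.card A = 4 := by
    rw [hA, card_map_of_injective (C.io_inj hS), Nat.card_congr (Subgroup.prodEquiv W5 ⊥).toEquiv,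
      Nat.card_prod, card_W5, card_bot]
  haveI : IsMulCommutative A := ⟨⟨fun a b => Subtype.ext (Z.W_comm _ (hAW a.2) _ (hAW b.2))⟩⟩
  have hnc : ¬ IsCyclic A := by
    intro hc
    obtain ⟨a, ha⟩ := IsCyclic.exists_generator (α := A)
    have h4 := orderOf_eq_card_of_forall_mem_zpowers ha
    rw [hAcard] at h4
    have h2 : orderOf a ∣ 2 := orderOf_dvd_of_pow_eq_one (Subtype.ext (by
      rw [SubmonoidClass.coe_pow, pow_two]; exact Z.W_sq (hAW a.2)))
    rw [h4] at h2
    norm_num at h2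
  have hAn : A ≤ normalizer (O' : Set G) := by
    intro a ha
    rw [hO']
    have : (⟨a, hWU (hAW ha)⟩ : U) ∈ normalizer (O : Set U) := by
      haveI : O.Normal := MonoidHom.normal_ker _
      rw [Subgroup.normalizer_eq_top]; exact mem_top _
    exact le_normalizer_map U.subtype ⟨_, this, rfl⟩
  have hO'c : Nat.card O' = Nat.card O := card_map_of_injective U.subtype_injective
  have hcop : (Nat.card A).Coprime (Nat.card O') := by
    rw [hAcard, hO'c, show (4 : ℕ) = 2 ^ 2 by norm_num]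
    exact ((Nat.Prime.coprime_iff_not_dvd Nat.prime_two).2 hOc).pow_left 2
  have hle : O' ≤ C.M0 hS := by
    rw [← CoprimeAct.generated_by_centralizers hnc hAn hcop]
    refine iSup₂_le ?_
    rintro _ ⟨⟨⟨a, b⟩, ⟨ha, hb⟩, rfl⟩, ha1⟩ x hx
    obtain ⟨hxO, hxa⟩ := mem_inf.1 hx
    obtain ⟨u, -, rfl⟩ := hxO
    have hb' : b = 1 := mem_bot.1 hb
    subst hb'
    refine Z.cent_left (Subtype.ext (V5L_facts.2.2.2.2.1 _ ha)) (fun h => ha1 (by
      show C.io hS (a, 1) = 1
      rw [show a = 1 from h]; exact map_one _)) (mem_inf.1 u.2).2 (mem_centralizer_singleton_iff.1 hxa)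
  have hO1 : O = ⊥ := by
    rw [eq_bot_iff_forall]
    intro x hx
    have hxW := hUW x (hle ⟨x, hx, rfl⟩)
    have h2 : (⟨x, hx⟩ : O) ^ 2 = 1 := Subtype.ext (Subtype.ext (by
      simp only [SubmonoidClass.coe_pow, pow_two]; exact Z.W_sq hxW))
    have ho := orderOf_dvd_of_pow_eq_one h2
    rcases (Nat.dvd_prime Nat.prime_two).1 ho with h | h
    · exact congrArg Subtype.val (orderOf_eq_one_iff.1 h)
    · exact absurd (h ▸ orderOf_dvd_natCard _) hOc
  have hgU : g ∈ U := mem_inf.2 ⟨mem_centralizer_singleton_iff.2 h, hg⟩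
  have hcomp := MonoidHom.ker_transferSylow_isComplement' P hPc
  have htop : (P : Subgroup U) = ⊤ := by
    rw [← hO, hO1] at hcomp
    exact isComplement'_bot_left.1 hcomp
  have hgW : (⟨g, hgU⟩ : U) ∈ (P : Subgroup U) := htop ▸ mem_top _
  rw [hP, mem_subgroupOf] at hgW
  obtain ⟨a, -, e⟩ := hgW
  exact ⟨a, e⟩

/-- The centraliser of every involution of `M₀` lies in `M₀`. -/
theorem cent_invol {c : G} (hc : c ∈ C.M0 hS) (hc2 : c * c = 1) (hc1 : c ≠ 1) {g : G} (hg : g ∈ Z.G0)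
    (h : g * c = c * g) : g ∈ C.M0 hS := by
  obtain ⟨⟨a, b⟩, rfl⟩ := hc
  rw [← map_mul] at hc2
  have e := C.io_inj hS (hc2.trans (map_one _).symm)
  have ea : a * a = 1 := congrArg Prod.fst e
  have eb : b * b = 1 := congrArg Prod.snd e
  by_cases ha : a = 1
  · subst ha
    exact Z.cent_right eb (fun hb => hc1 (by rw [hb]; exact map_one _)) hg h
  by_cases hb : b = 1
  · subst hb
    exact Z.cent_left ea ha hg h
  obtain ⟨d, hd, e1⟩ := invol_v5 _ a.2 (congrArg Subtype.val ea) (fun h => ha (Subtype.ext h))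
  obtain ⟨d', hd', e2⟩ := invol_v5 _ b.2 (congrArg Subtype.val eb) (fun h => hb (Subtype.ext h))
  have ec : C.io hS (a, b) = C.io hS (⟨d, hd⟩, ⟨d', hd'⟩) * C.io hS (va, va) * (C.io hS (⟨d, hd⟩, ⟨d', hd'⟩))⁻¹ := by
    rw [← map_inv, ← map_mul, ← map_mul]
    congr 1
    exact Prod.ext (Subtype.ext e1.symm) (Subtype.ext e2.symm)
  set m := C.io hS (⟨d, hd⟩, ⟨d', hd'⟩)
  have hm : m ∈ C.M0 hS := ⟨_, rfl⟩
  have h' := Z.cent_k (g := m⁻¹ * g * m) (mul_mem (mul_mem (inv_mem (Z.M0_le hm)) hg) (Z.M0_le hm)) (by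
    rw [ec] at h
    calc m⁻¹ * g * m * C.io hS (va, va) = m⁻¹ * (g * (m * C.io hS (va, va) * m⁻¹)) * m := by group
      _ = m⁻¹ * (m * C.io hS (va, va) * m⁻¹ * g) * m := by rw [h]
      _ = _ := by group)
  have h2 := mul_mem (mul_mem hm h') (inv_mem hm)
  rwa [show m * (m⁻¹ * g * m) * m⁻¹ = g by group] at h2

end Sub0

end Cfsg.Agent.S8Three
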