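import Cfsg.Agent.Lib.S8Three.SmallG0Facts
import Cfsg.Prelude.Def_CaseTheorems
import Mathlib.GroupTheory.SpecificGroups.Alternating.Simple

/-!
Finite facts for the last step of the small case.
-/

set_option autoImplicit false
set_option maxRecDepth 20000

namespace Cfsg.Agent.S8Three

open Equiv
open scoped commutatorElement

theorem cent_pair : ∀ σ : P5t, σ * v5 = v5 * σ → σ * w5 = w5 * σ → σ = 1 := by decide +kernel

theorem quasisimple_A5 : Cfsg.IsQuasisimple (alternatingGroup (Fin 5)) := by
  have hs : IsSimpleGroup (alternatingGroup (Fin 5)) := inferInstance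
  have hnc : Subgroup.center (alternatingGroup (Fin 5)) = ⊥ :=
    alternatingGroup.center_eq_bot (by simp)
  refine ⟨⟨(hs.eq_bot_or_eq_top_of_normal (commutator _) inferInstance).resolve_left fun h => ?_⟩,
    ((QuotientGroup.quotientMulEquivOfEq hnc).trans QuotientGroup.quotientBot).isSimpleGroup_congr.2 hs⟩
  have hcen : Subgroup.center (alternatingGroup (Fin 5)) = ⊤ := by
    refine eq_top_iff.2 fun g _ => Subgroup.mem_center_iff.2 fun x => ?_
    have hx : ⁅x, g⁆ ∈ commutator _ :=
      Subgroup.commutator_mem_commutator (Subgroup.mem_top x) (Subgroup.mem_top g)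
    rw [h, Subgroup.mem_bot] at hx
    exact commutatorElement_eq_one_iff_mul_comm.1 hx
  rw [hnc] at hcen
  exact bot_ne_top hcen

end Cfsg.Agent.S8Three
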