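import Cfsg.Agent.Lib.S8Three.SmallCent
import Cfsg.Agent.Lib.S8Three.SmallFinishFacts

/-!
The subgroup of index four is `A₅ × A₅`.
-/

set_option autoImplicit false
set_option linter.style.haveILetI false
set_option linter.unusedSectionVars false
set_option maxRecDepth 20000

namespace Cfsg.Agent.S8Three

open Equiv Subgroup

theorem conj_cases (a : alternatingGroup (Fin 5)) (ha : a * a = 1) :
    a = 1 ∨ ∃ c : alternatingGroup (Fin 5), a = c * va * c⁻¹ := by
  by_cases h : a = 1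
  · exact Or.inl h
  obtain ⟨c, hc, e⟩ := invol_v5 _ a.2 (congrArg Subtype.val ha) fun h' => h (Subtype.ext h')
  exact Or.inr ⟨⟨c, hc⟩, Subtype.ext e.symm⟩

/-- An involution of `G` inside a pair of involutions generating a group of even order. -/
theorem invol_pair {G : Type*} [Group G] [Finite G] {H : Subgroup G} {b u : G} (hb : b ∈ H) (hu : u ∈ H)
    (hb2 : b * b = 1) (hu2 : u * u = 1) (hno : ∀ h ∈ H, h * u * h⁻¹ ≠ b) :
    ∃ c ∈ H, c * c = 1 ∧ c ≠ 1 ∧ c * b = b * c ∧ u * c = c * u := by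
  have hdH : b * u ∈ H := mul_mem hb hu
  have hbi : b⁻¹ = b := inv_eq_of_mul_eq_one_right hb2
  have hui : u⁻¹ = u := inv_eq_of_mul_eq_one_right hu2
  have hdi : (b * u)⁻¹ = u * b := by rw [mul_inv_rev, hui, hbi]
  have hu_d : ∀ k : ℕ, u * (b * u) ^ k * u = ((b * u) ^ k)⁻¹ := fun k => by
    calc u * (b * u) ^ k * u = u * (b * u) ^ k * u⁻¹ := by rw [hui]
      _ = (u * (b * u) * u⁻¹) ^ k := conj_pow.symm
      _ = (b * u)⁻¹ ^ k := by
        congr 1
        rw [hui, hdi, mul_assoc, mul_assoc b u u, hu2, mul_one]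
      _ = _ := inv_pow _ _
  have hb_d : ∀ k : ℕ, b * (b * u) ^ k * b = ((b * u) ^ k)⁻¹ := fun k => by
    calc b * (b * u) ^ k * b = b * (b * u) ^ k * b⁻¹ := by rw [hbi]
      _ = (b * (b * u) * b⁻¹) ^ k := conj_pow.symm
      _ = (b * u)⁻¹ ^ k := by
        congr 1
        rw [hbi, hdi, ← mul_assoc b b u, hb2, one_mul]
      _ = _ := inv_pow _ _
  rcases Nat.even_or_odd (orderOf (b * u)) with ⟨m, hm⟩ | ⟨m, hm⟩
  · have hpos : 0 < orderOf (b * u) := orderOf_pos _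
    have hc2 : (b * u) ^ m * (b * u) ^ m = 1 := by rw [← pow_add, ← hm, pow_orderOf_eq_one]
    have hci : ((b * u) ^ m)⁻¹ = (b * u) ^ m := inv_eq_of_mul_eq_one_right hc2
    refine ⟨(b * u) ^ m, pow_mem hdH m, hc2, pow_ne_one_of_lt_orderOf (by omega) (by omega), ?_, ?_⟩
    · have e := hb_d m
      rw [hci] at e
      calc (b * u) ^ m * b = b * (b * u) ^ m * b * b := by rw [e]
        _ = _ := by rw [mul_assoc _ b b, hb2, mul_one]
    · have e := hu_d m
      rw [hci] at e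
      calc u * (b * u) ^ m = u * (b * u) ^ m * u * u := by rw [mul_assoc _ u u, hu2, mul_one]
        _ = _ := by rw [e]
  · exfalso
    refine hno ((b * u) ^ (m + 1)) (pow_mem hdH _) ?_
    have e := hu_d (m + 1)
    have e' : u * ((b * u) ^ (m + 1))⁻¹ = (b * u) ^ (m + 1) * u := by
      rw [← e, ← mul_assoc, ← mul_assoc, hu2, one_mul]
    rw [mul_assoc, e', ← mul_assoc, ← pow_add, show m + 1 + (m + 1) = orderOf (b * u) + 1 by omega, pow_succ,
      pow_orderOf_eq_one, one_mul, mul_assoc, hu2, mul_one]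

namespace Sub0

variable {G : Type*} [Group G] [Finite G] {C : Cfg G} {hS : C.Small} (Z : Sub0 C hS)
include Z

theorem not_conj_k {x y : alternatingGroup (Fin 5) × alternatingGroup (Fin 5)} (hxy : x * y = y * x)
    (hy : y * y ≠ 1) {g : G} (hg : g ∈ Z.G0) : g * C.io hS x * g⁻¹ ≠ C.io hS (va, va) := by
  intro e
  obtain ⟨⟨a, b⟩, hab⟩ := Z.cent_k (g := g * C.io hS y * g⁻¹)
    (mul_mem (mul_mem hg (Z.io_G0 y)) (inv_mem hg)) (by
      rw [← e]
      calc g * C.io hS y * g⁻¹ * (g * C.io hS x * g⁻¹) = g * (C.io hS y * C.io hS x) * g⁻¹ := by group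
        _ = g * (C.io hS x * C.io hS y) * g⁻¹ := by rw [← map_mul, ← map_mul, hxy]
        _ = _ := by group)
  have h1 : C.io hS ((a, b) * (va, va)) = C.io hS ((va, va) * (a, b)) := by
    rw [map_mul, map_mul, hab, ← e]
    calc g * C.io hS y * g⁻¹ * (g * C.io hS x * g⁻¹) = g * (C.io hS y * C.io hS x) * g⁻¹ := by group
      _ = g * (C.io hS x * C.io hS y) * g⁻¹ := by rw [← map_mul, ← map_mul, hxy]
      _ = _ := by group
  have h2 := C.io_inj hS h1
  have h3 := Z.W_sq (Z.mem_W.2 ⟨a, b, W5_cent (congrArg Prod.fst h2 :), W5_cent (congrArg Prod.snd h2 :), rfl⟩)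
  refine hy (C.io_inj hS ?_)
  rw [map_one, map_mul]
  rw [hab] at h3
  calc C.io hS y * C.io hS y = g⁻¹ * (g * C.io hS y * g⁻¹ * (g * C.io hS y * g⁻¹)) * g := by group
    _ = 1 := by rw [h3]; group

theorem wa_sq : wa * wa ≠ 1 := fun h =>
  absurd (show w5 * w5 = 1 from congrArg Subtype.val h) (by decide +kernel)

theorem left_not_k {g : G} (hg : g ∈ Z.G0) : g * C.io hS (va, 1) * g⁻¹ ≠ C.io hS (va, va) :=
  Z.not_conj_k (y := (1, wa)) (Prod.ext (by simp) (by simp)) (fun h => Z.wa_sq (congrArg Prod.snd h :)) hg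

theorem right_not_k {g : G} (hg : g ∈ Z.G0) : g * C.io hS (1, va) * g⁻¹ ≠ C.io hS (va, va) :=
  Z.not_conj_k (y := (wa, 1)) (Prod.ext (by simp) (by simp)) (fun h => Z.wa_sq (congrArg Prod.fst h :)) hg

/-- Every involution of the subgroup lies in `M₀`. -/
theorem invol_mem {u : G} (hu : u ∈ Z.G0) (hu2 : u * u = 1) : u ∈ C.M0 hS := by
  have va2 : va * va = 1 := Subtype.ext (V5L_facts.2.2.2.2.1 _ va_mem.1)
  obtain ⟨x, hx2, hx1, hno⟩ : ∃ x : alternatingGroup (Fin 5) × alternatingGroup (Fin 5),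
      x * x = 1 ∧ x ≠ 1 ∧ ∀ h ∈ Z.G0, h * u * h⁻¹ ≠ C.io hS x := by
    by_cases hk : ∃ g ∈ Z.G0, g * u * g⁻¹ = C.io hS (va, va)
    · obtain ⟨g, hg, e⟩ := hk
      refine ⟨(va, 1), Prod.ext va2 (one_mul _), fun h => va_mem.2.2 (congrArg Prod.fst h :), fun h hh e' => ?_⟩
      refine Z.left_not_k (g := g * h⁻¹) (mul_mem hg (inv_mem hh)) ?_
      rw [← e', ← e]; group
    · exact ⟨(va, va), Prod.ext va2 va2, fun h => va_mem.2.2 (congrArg Prod.fst h :),
        fun h hh e => hk ⟨h, hh, e⟩⟩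
  have hb2 : C.io hS x * C.io hS x = 1 := by rw [← map_mul, hx2, map_one]
  have hb1 : C.io hS x ≠ 1 := fun h => hx1 (C.io_inj hS (h.trans (map_one _).symm))
  obtain ⟨c, hc, hc2, hc1, hcb, huc⟩ := invol_pair (Z.io_G0 x) hu hb2 hu2 hno
  exact Z.cent_invol (Z.cent_invol ⟨x, rfl⟩ hb2 hb1 hc hcb) hc2 hc1 hu huc

theorem G0_eq : Z.G0 = C.M0 hS := by
  refine le_antisymm (fun g hg => ?_) Z.M0_le
  have va2 : va * va = 1 := Subtype.ext (V5L_facts.2.2.2.2.1 _ va_mem.1)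
  set k := C.io hS (va, va) with hk
  have hk2 : k * k = 1 := by rw [hk, ← map_mul, Prod.mk_mul_mk, va2]; exact map_one _
  have hk1 : k ≠ 1 := fun h => va_mem.2.2 (congrArg Prod.fst (C.io_inj hS (h.trans (map_one _).symm)) :)
  obtain ⟨⟨a, b⟩, hab⟩ := Z.invol_mem (u := g * k * g⁻¹) (mul_mem (mul_mem hg (Z.io_G0 _)) (inv_mem hg))
    (by calc g * k * g⁻¹ * (g * k * g⁻¹) = g * (k * k) * g⁻¹ := by group
          _ = 1 := by rw [hk2]; group)
  have hsq : (a, b) * (a, b) = 1 := C.io_inj hS (by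
    rw [map_mul, map_one, hab]
    calc g * k * g⁻¹ * (g * k * g⁻¹) = g * (k * k) * g⁻¹ := by group
      _ = 1 := by rw [hk2]; group)
  have fin : ∀ m x, (a, b) = m * x * m⁻¹ →
      (∀ h ∈ Z.G0, h * C.io hS x * h⁻¹ = k → h ∈ C.M0 hS) → g ∈ C.M0 hS := by
    intro m x e hx
    have h' : g⁻¹ * C.io hS m ∈ C.M0 hS := hx _ (mul_mem (inv_mem hg) (Z.io_G0 m)) (by
      calc g⁻¹ * C.io hS m * C.io hS x * (g⁻¹ * C.io hS m)⁻¹
          = g⁻¹ * (C.io hS m * C.io hS x * (C.io hS m)⁻¹) * g := by group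
        _ = g⁻¹ * C.io hS (a, b) * g := by rw [e, map_mul, map_mul, map_inv]
        _ = k := by rw [hab]; group)
    have h2 := mul_mem (show C.io hS m ∈ C.M0 hS from ⟨m, rfl⟩) (inv_mem h')
    rwa [show C.io hS m * (g⁻¹ * C.io hS m)⁻¹ = g by group] at h2
  rcases conj_cases a (congrArg Prod.fst hsq :) with rfl | ⟨c, rfl⟩
  · rcases conj_cases b (congrArg Prod.snd hsq :) with rfl | ⟨d, rfl⟩
    · exfalso
      rw [show ((1, 1) : alternatingGroup (Fin 5) × alternatingGroup (Fin 5)) = 1 from rfl, map_one] at hab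
      exact hk1 (conj_eq_one_iff.1 hab.symm)
    · exact fin (1, d) (1, va) (Prod.ext (by simp) rfl) fun h hh e => (Z.right_not_k hh e).elim
  · rcases conj_cases b (congrArg Prod.snd hsq :) with rfl | ⟨d, rfl⟩
    · exact fin (c, 1) (va, 1) (Prod.ext rfl (by simp)) fun h hh e => (Z.left_not_k hh e).elim
    · exact fin (c, d) (va, va) rfl fun h hh e => Z.cent_k hh (mul_inv_eq_iff_eq_mul.1 e)

theorem Mb_top : C.Mb hS = ⊤ := by
  have h := Z.index
  rw [Z.G0_eq, C.M0_index] at h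
  exact index_eq_one.1 (by omega)

theorem M0_index_four : (C.M0 hS).index = 4 := Z.G0_eq ▸ Z.index

end Sub0

end Cfsg.Agent.S8Three
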