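import Cfsg.Agent.Lib.S8Three.SmallTransferFacts

/-!
Finite facts for the subgroup of index four.
-/

set_option autoImplicit false
set_option maxRecDepth 20000
set_option synthInstance.maxSize 4096

namespace Cfsg.Agent.S8Three

open Equiv

theorem cent_v5 : ∀ σ : P5t, Perm.sign σ = 1 → σ * v5 = v5 * σ → σ ∈ V5L := by decide +kernel

theorem norm_VD : ∀ σ : P5t, Perm.sign σ = 1 → (∀ v ∈ V5L, σ * v * σ⁻¹ ∈ V5L) →
    σ * w5 * σ⁻¹ ∈ [1, w5, w5 * w5] → σ ∈ [1, w5, w5 * w5] := by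
  decide +kernel

theorem invol_v5 : ∀ σ : P5t, Perm.sign σ = 1 → σ * σ = 1 → σ ≠ 1 →
    ∃ c : P5t, Perm.sign c = 1 ∧ c * v5 * c⁻¹ = σ := by
  decide +kernel

theorem V5L_orbit : ∀ v ∈ V5L, v ≠ 1 → v = v5 ∨ v = w5 * v5 * w5⁻¹ ∨ v = (w5 * w5) * v5 * (w5 * w5)⁻¹ := by
  decide +kernel

end Cfsg.Agent.S8Three
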