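import Cfsg.Agent.Lib.S8Three.SmallG1
import Cfsg.Agent.Lib.S8Three.SmallG0Facts

/-!
The subgroup of index four met in `A₅ × A₅` only.
-/

set_option autoImplicit false
set_option linter.style.haveILetI false
set_option linter.unusedSectionVars false
set_option maxRecDepth 20000

namespace Cfsg.Agent.S8Three

open Equiv Subgroup

/-- The data of the subgroup of index four. -/
structure Sub0 {G : Type*} [Group G] [Finite G] (C : Cfg G) (hS : C.Small) where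
  /-- the subgroup -/
  G0 : Subgroup G
  M0_le : C.M0 hS ≤ G0
  inter : ∀ x ∈ G0, x ∈ C.Mb hS → x ∈ C.M0 hS
  index : G0.index = 4
  s_conj : ∀ x ∈ G0, C.s * x * C.s ∈ G0

namespace Cfg

variable {G : Type*} [Group G] [Finite G] (C : Cfg G)
include C

theorem exists_sub0 (hS : C.Small) : ∃ C' : Cfg G, ∃ hS' : C'.Small, Nonempty (Sub0 C' hS') := by
  obtain ⟨χ, ht⟩ := C.exists_sign1 hS
  suffices key : ∀ C' : Cfg G, ∀ hS' : C'.Small, χ (C'.F t0) = -1 → χ C'.s = 1 → Nonempty (Sub0 C' hS') by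
    rcases Int.units_eq_one_or (χ C.s) with h | h
    · exact ⟨C, hS, key C hS ht h⟩
    · refine ⟨C.flip, C.flip_small hS, key _ _ ht ?_⟩
      show χ (C.s * C.F t0) = 1
      rw [map_mul, h, ht]; decide
  intro C hS ht hs
  obtain ⟨χ2, h2⟩ := C.exists_sign2 hS χ ht hs
  have hM0 : ∀ a, ∀ h : C.io hS a ∈ χ.ker, χ2 ⟨C.io hS a, h⟩ = 1 := by
    intro a h
    let φ : alternatingGroup (Fin 5) × alternatingGroup (Fin 5) →* χ.ker :=
      (C.io hS).codRestrict χ.ker fun b => C.M0_le_ker hS χ ht hs ⟨b, rfl⟩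
    show χ2 (φ a) = 1
    rw [show a = (a.1, 1) * (1, a.2) from Prod.ext (mul_one _).symm (one_mul _).symm, map_mul, map_mul]
    rw [show χ2 (φ (a.1, 1)) = 1 from hom_small ((χ2.comp φ).comp (MonoidHom.inl _ _))
      (by rw [Nat.card_eq_fintype_card, Fintype.card_units_int]; norm_num) a.1,
      show χ2 (φ (1, a.2)) = 1 from hom_small ((χ2.comp φ).comp (MonoidHom.inr _ _))
      (by rw [Nat.card_eq_fintype_card, Fintype.card_units_int]; norm_num) a.2, one_mul]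
  refine ⟨⟨χ2.ker.map χ.ker.subtype, ?_, ?_, ?_, ?_⟩⟩
  · rintro _ ⟨a, rfl⟩
    exact ⟨⟨C.io hS a, C.M0_le_ker hS χ ht hs ⟨a, rfl⟩⟩, hM0 a _, rfl⟩
  · rintro _ ⟨⟨x, hx⟩, hx2, rfl⟩ hM
    obtain ⟨p, hp, e⟩ := C.mem_M1_of hS χ ht hs hM hx
    obtain ⟨a, ha⟩ := C.io_eq hS hp
    rcases e with e | e
    · exact ⟨a, ha.trans e.symm⟩
    · exfalso
      have ha' := C.M0_le_ker hS χ ht hs ⟨a, rfl⟩
      have e' : (⟨x, hx⟩ : χ.ker) = ⟨C.io hS a, ha'⟩ * ⟨C.s, hs⟩ := Subtype.ext (by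
        show x = C.io hS a * C.s
        rw [ha]; exact e)
      have h := MonoidHom.mem_ker.1 hx2
      rw [e', map_mul, hM0, one_mul, h2] at h
      exact absurd h (by decide)
  · rw [← relIndex_mul_index (map_subtype_le χ2.ker), C.ker_index hS χ ht hs,
      show (χ2.ker.map χ.ker.subtype).relIndex χ.ker = χ2.ker.index by
        rw [Subgroup.relIndex, subgroupOf, comap_map_eq_self_of_injective χ.ker.subtype_injective],
      index_ker, MonoidHom.range_eq_top.2 fun x => by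
        rcases Int.units_eq_one_or x with rfl | rfl
        · exact ⟨1, map_one _⟩
        · exact ⟨_, h2⟩, card_top, Nat.card_eq_fintype_card, Fintype.card_units_int]
  · rintro _ ⟨⟨x, hx⟩, hx2, rfl⟩
    refine ⟨⟨C.s, hs⟩ * ⟨x, hx⟩ * ⟨C.s, hs⟩, ?_, rfl⟩
    show χ2 _ = 1
    rw [map_mul, map_mul, MonoidHom.mem_ker.1 hx2, h2]
    decide

/-- An element of order three has a centraliser of order 360 or 36. -/
theorem cent_three {a : G} (ha : a ^ 3 = 1) (ha1 : a ≠ 1) :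
    Nat.card (centralizer ({a} : Set G)) = 360 ∨ Nat.card (centralizer ({a} : Set G)) = 36 := by
  haveI : Fact (Nat.Prime 3) := ⟨Nat.prime_three⟩
  have hp : IsPGroup 3 (zpowers a) := by
    refine IsPGroup.of_card (n := 1) ?_
    rw [Nat.card_zpowers, pow_one]; exact orderOf_eq_prime ha ha1
  obtain ⟨Q, hQ⟩ := hp.exists_le_sylow
  obtain ⟨R0, hR0⟩ := C.exists_sylow
  obtain ⟨g, hg⟩ := MulAction.exists_smul_eq G Q R0
  have hm : g * a * g⁻¹ ∈ Dm.map C.F := by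
    rw [← hR0, ← hg, Sylow.coe_subgroup_smul]
    exact ⟨a, hQ (mem_zpowers _), rfl⟩
  obtain ⟨p, hp, ep⟩ := hm
  rw [← card_cent_conj g a, ← ep]
  have sq : ∀ r : LL, r ∈ Dm → C.F (r * r) = (C.F r)⁻¹ := fun r hr =>
    (inv_eq_of_mul_eq_one_right (by
      rw [map_mul, ← mul_assoc]; simpa [pow_succ] using C.cube (mem_map_of_mem _ hr))).symm
  rcases Dm_lines p hp with rfl | rfl | rfl | rfl | rfl | h
  · rw [map_one] at ep; exact absurd (conj_eq_one_iff.1 ep.symm) ha1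
  · exact Or.inl C.card_cent_z
  · rw [sq _ Dm_facts.1, centralizer_inv_eq]; exact Or.inl C.card_cent_z
  · exact Or.inl C.card_cent_w
  · rw [sq _ Dm_facts.2.1, centralizer_inv_eq]; exact Or.inl C.card_cent_w
  · exact Or.inr (C.card_cent_y h)

end Cfg

/-- `(01)(23)` in `A₅`. -/
def va : alternatingGroup (Fin 5) := ⟨v5, V5L_facts.2.2.2.1 _ V5L_facts.2.2.2.2.2.2.1⟩
/-- `(02)(13)` in `A₅`. -/
def va' : alternatingGroup (Fin 5) := ⟨v5', V5L_facts.2.2.2.1 _ V5L_facts.2.2.2.2.2.2.2.1⟩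
/-- the 3-cycle in `A₅`. -/
def wa : alternatingGroup (Fin 5) := ⟨w5, uu5_vals.2.2.2.2.1⟩

theorem va_mem : va ∈ W5 ∧ va' ∈ W5 ∧ va ≠ 1 :=
  ⟨V5L_facts.2.2.2.2.2.2.1, V5L_facts.2.2.2.2.2.2.2.1, fun h =>
    absurd (show v5 = 1 from congrArg Subtype.val h) (by decide +kernel)⟩

theorem W5_comm {a b : alternatingGroup (Fin 5)} (ha : a ∈ W5) (hb : b ∈ W5) : a * b = b * a :=
  Subtype.ext (V5L_facts.1 _ ha _ hb).2

theorem W5_wa {a : alternatingGroup (Fin 5)} (ha : a ∈ W5) : wa * a * wa⁻¹ ∈ W5 :=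
  V5L_facts.2.2.2.2.2.1 _ ha

theorem W5_cent {x : alternatingGroup (Fin 5)} (h : x * va = va * x) : x ∈ W5 :=
  cent_v5 _ x.2 (congrArg Subtype.val h)

namespace Sub0

variable {G : Type*} [Group G] [Finite G] {C : Cfg G} {hS : C.Small} (Z : Sub0 C hS)
include Z

/-- The four-groups of both sides. -/
def W (_ : Sub0 C hS) : Subgroup G := (W5.prod W5).map (C.io hS)

theorem mem_W {x : G} : x ∈ Z.W ↔ ∃ a b, a ∈ W5 ∧ b ∈ W5 ∧ C.io hS (a, b) = x := by
  constructor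
  · rintro ⟨⟨a, b⟩, ⟨ha, hb⟩, rfl⟩; exact ⟨a, b, ha, hb, rfl⟩
  · rintro ⟨a, b, ha, hb, rfl⟩; exact ⟨(a, b), ⟨ha, hb⟩, rfl⟩

theorem card_W : Nat.card Z.W = 16 := by
  rw [W, card_map_of_injective (C.io_inj hS), Nat.card_congr (Subgroup.prodEquiv W5 W5).toEquiv,
    Nat.card_prod, card_W5]

theorem W_le : Z.W ≤ Z.G0 := fun _ ⟨a, _, e⟩ => Z.M0_le ⟨a, e⟩

theorem W_comm : ∀ x ∈ Z.W, ∀ y ∈ Z.W, x * y = y * x := by
  intro x hx y hy
  obtain ⟨a, b, ha, hb, rfl⟩ := Z.mem_W.1 hx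
  obtain ⟨c, d, hc, hd, rfl⟩ := Z.mem_W.1 hy
  rw [← map_mul, ← map_mul, Prod.mk_mul_mk, Prod.mk_mul_mk, W5_comm ha hc, W5_comm hb hd]

theorem D_le : Dm.map C.F ≤ C.M0 hS := by
  have hz : C.F z0 ∈ C.M0 hS := ⟨(1, wa), by
    rw [C.io_apply]; show C.Fb 1 * C.Pb w5 = _
    rw [map_one, one_mul, C.Pb_eq]; exact C.sw⟩
  have hw : C.F w0 ∈ C.M0 hS := ⟨(wa, 1), by
    rw [C.io_apply]; show C.Fb w5 * C.Pb 1 = _
    rw [map_one, mul_one]; rfl⟩
  rintro _ ⟨p, hp, rfl⟩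
  obtain ⟨i, j, rfl⟩ := Dm_gen p hp
  rw [map_mul, map_pow, map_pow]
  exact mul_mem (pow_mem hz _) (pow_mem hw _)

theorem D_norm_W {d : G} (hd : d ∈ Dm.map C.F) {x : G} (hx : x ∈ Z.W) : d * x * d⁻¹ ∈ Z.W := by
  obtain ⟨p, hp, rfl⟩ := hd
  let N : Subgroup G :=
    { carrier := {g | ∀ x ∈ Z.W, g * x * g⁻¹ ∈ Z.W}
      one_mem' := fun x hx => by simpa using hx
      mul_mem' := fun {a b} ha hb x hx => by
        rw [show a * b * x * (a * b)⁻¹ = a * (b * x * b⁻¹) * a⁻¹ by group]; exact ha _ (hb _ hx)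
      inv_mem' := fun {a} ha x hx => by
        have hfin : Function.Surjective fun y : Z.W => (⟨a * y * a⁻¹, ha _ y.2⟩ : Z.W) :=
          Finite.surjective_of_injective fun y y' h =>
            Subtype.ext (mul_left_cancel (mul_right_cancel (congrArg Subtype.val h :)))
        obtain ⟨y, hy⟩ := hfin ⟨x, hx⟩
        have hy' : a * y * a⁻¹ = x := congrArg Subtype.val hy
        rw [← hy', show a⁻¹ * (a * (y : G) * a⁻¹) * a⁻¹⁻¹ = y by group]
        exact y.2 }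
  have hz : C.F z0 ∈ N := fun x hx => by
    obtain ⟨a, b, ha, hb, rfl⟩ := Z.mem_W.1 hx
    rw [show C.F z0 = C.io hS (1, wa) by
      rw [C.io_apply]; show _ = C.Fb 1 * C.Pb w5
      rw [map_one, one_mul, C.Pb_eq]; exact C.sw.symm, ← map_inv, ← map_mul, ← map_mul]
    exact Z.mem_W.2 ⟨_, _, by simpa using ha, W5_wa hb, rfl⟩
  have hw : C.F w0 ∈ N := fun x hx => by
    obtain ⟨a, b, ha, hb, rfl⟩ := Z.mem_W.1 hx
    rw [show C.F w0 = C.io hS (wa, 1) by
      rw [C.io_apply]; show _ = C.Fb w5 * C.Pb 1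
      rw [map_one, mul_one]; rfl, ← map_inv, ← map_mul, ← map_mul]
    exact Z.mem_W.2 ⟨_, _, W5_wa ha, by simpa using hb, rfl⟩
  obtain ⟨i, j, rfl⟩ := Dm_gen p hp
  rw [map_mul, map_pow, map_pow]
  exact mul_mem (pow_mem hz _) (pow_mem hw _) x hx

theorem rel_odd {H : Subgroup G} (h1 : Z.W ≤ H) (h2 : H ≤ Z.G0) : Odd (Z.W.relIndex H) := by
  have hi : (C.M0 hS).relIndex Z.G0 = (C.Mb hS).index := by
    have h := relIndex_mul_index Z.M0_le
    rw [Z.index, C.M0_index] at h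
    omega
  have hW : Z.W.relIndex (C.M0 hS) = 225 := by
    have h := PBasic.card_mul_relIndex (A := Z.W) (B := C.M0 hS) (fun _ ⟨a, _, e⟩ => ⟨a, e⟩)
    rw [Z.card_W, C.card_M0] at h
    omega
  have hG : Z.W.relIndex Z.G0 = 225 * (C.Mb hS).index := by
    rw [← relIndex_mul_relIndex Z.W (C.M0 hS) Z.G0 (fun _ ⟨a, _, e⟩ => ⟨a, e⟩) Z.M0_le, hW, hi]
  refine Odd.of_dvd_nat ?_ (Dvd.intro _ (relIndex_mul_relIndex Z.W H Z.G0 h1 h2))
  rw [hG]
  exact Odd.mul (by decide) (C.index_odd hS)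

/-- The centraliser of `W` is `W`. -/
theorem cent_W {x : G} (hx : x ∈ Z.G0) (h : ∀ v ∈ Z.W, x * v = v * x) : x ∈ Z.W := by
  set X := centralizer (Z.W : Set G) ⊓ Z.G0 with hX
  have hxX : x ∈ X := mem_inf.2 ⟨mem_centralizer_iff.2 fun v hv => (h v hv).symm, hx⟩
  have hle : X ≤ C.Mb hS := by
    refine C.invariant_le hS X (fun h3 => ?_) (fun d hd y hy => ?_)
    · haveI : Fact (Nat.Prime 3) := ⟨Nat.prime_three⟩
      obtain ⟨⟨a, ha⟩, hao⟩ := exists_prime_orderOf_dvd_card' (G := X) 3 h3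
      rw [orderOf_mk] at hao
      have hc := C.cent_three (a := a) (by rw [← hao]; exact pow_orderOf_eq_one a)
        (fun e => by rw [e, orderOf_one] at hao; norm_num at hao)
      have h16 : 16 ∣ Nat.card (centralizer ({a} : Set G)) := by
        rw [← Z.card_W]
        exact card_dvd_of_le fun v hv => mem_centralizer_singleton_iff.2 (mem_centralizer_iff.1 (mem_inf.1 ha).1 v hv)
      rcases hc with e | e <;> rw [e] at h16 <;> norm_num at h16
    · obtain ⟨hy1, hy2⟩ := mem_inf.1 hy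
      refine mem_inf.2 ⟨mem_centralizer_iff.2 fun v hv => ?_, ?_⟩
      · have hv' := Z.D_norm_W (inv_mem hd) hv
        rw [inv_inv] at hv'
        have e := mem_centralizer_iff.1 hy1 _ hv'
        calc v * (d * y * d⁻¹) = d * (d⁻¹ * v * d * y) * d⁻¹ := by group
          _ = d * (y * (d⁻¹ * v * d)) * d⁻¹ := by rw [e]
          _ = _ := by group
      · have hd0 := Z.M0_le (Z.D_le hd)
        exact mul_mem (mul_mem hd0 hy2) (inv_mem hd0)
  obtain ⟨⟨a, b⟩, rfl⟩ := Z.inter x hx (hle hxX)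
  have e := h _ (Z.mem_W.2 ⟨va, va, va_mem.1, va_mem.1, rfl⟩)
  rw [← map_mul, ← map_mul] at e
  have e' := C.io_inj hS e
  exact Z.mem_W.2 ⟨a, b, W5_cent (congrArg Prod.fst e' :), W5_cent (congrArg Prod.snd e' :), rfl⟩

end Sub0

end Cfsg.Agent.S8Three
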