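import Cfsg.Agent.Lib.S8Three.SmallTransfer

/-!
The second transfer.
-/

set_option autoImplicit false
set_option linter.style.haveILetI false
set_option linter.unusedSectionVars false
set_option maxRecDepth 20000

namespace Cfsg.Agent.S8Three

open Equiv Subgroup

theorem card_A5 : Nat.card (alternatingGroup (Fin 5)) = 60 := by
  rw [nat_card_alternatingGroup, Nat.card_fin]; rfl

theorem hom_small {Q : Type*} [Group Q] [Finite Q] (φ : alternatingGroup (Fin 5) →* Q) (hQ : Nat.card Q < 60)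
    (a : alternatingGroup (Fin 5)) : φ a = 1 := by
  rcases IsSimpleGroup.eq_bot_or_eq_top_of_normal φ.ker φ.normal_ker with h | h
  · have hle := Nat.card_le_card_of_injective φ ((MonoidHom.ker_eq_bot_iff φ).1 h)
    rw [card_A5] at hle
    omega
  · exact MonoidHom.mem_ker.1 (h ▸ mem_top a)

/-- The four-group of pairs. -/
def W5 : Subgroup (alternatingGroup (Fin 5)) where
  carrier := {a | (a : P5t) ∈ V5L}
  one_mem' := by simp [V5L]
  mul_mem' ha hb := (V5L_facts.1 _ ha _ hb).1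
  inv_mem' ha := V5L_facts.2.1 _ ha

theorem card_W5 : Nat.card W5 = 4 := by
  have h : Nat.card W5 = Nat.card {x : P5t // x ∈ V5L} := Nat.card_congr
    { toFun := fun a => ⟨((a : alternatingGroup (Fin 5)) : P5t), a.2⟩
      invFun := fun x => ⟨⟨x.1, V5L_facts.2.2.2.1 _ x.2⟩, x.2⟩
      left_inv := fun _ => rfl
      right_inv := fun _ => rfl }
  rw [h, Nat.card_eq_fintype_card, Fintype.card_subtype]
  decide +kernel

namespace Cfg

variable {G : Type*} [Group G] [Finite G] (C : Cfg G) (hS : C.Small)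
include C hS

/-- The homomorphism from `A₅ × A₅`. -/
def io : alternatingGroup (Fin 5) × alternatingGroup (Fin 5) →* G := (C.Om hS).comp toK

theorem io_inj : Function.Injective (C.io hS) := (C.Om_inj hS).comp toK_inj

theorem io_apply (a b : alternatingGroup (Fin 5)) : C.io hS (a, b) = C.Fb a * C.Pb b :=
  C.Om_even hS _ _ a.2 b.2

theorem io_eq {p : K5} (hp : Perm.sign p.1.1 = 1) : ∃ a, C.io hS a = C.Om hS p := by
  have hp' : Perm.sign p.1.2 = 1 := (show Perm.sign p.1.1 = Perm.sign p.1.2 from p.2) ▸ hp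
  exact ⟨(⟨_, hp⟩, ⟨_, hp'⟩), rfl⟩

/-- The image of `A₅ × A₅`. -/
def M0 : Subgroup G := (C.io hS).range

theorem card_M0 : Nat.card (C.M0 hS) = 3600 := by
  rw [M0, ← Nat.card_congr (MonoidHom.ofInjective (C.io_inj hS)).toEquiv, Nat.card_prod, card_A5]

theorem M0_le : C.M0 hS ≤ C.M1 hS := by
  rintro _ ⟨a, rfl⟩
  exact (C.Om_M1 hS).2 a.1.2

theorem M0_rel : (C.M0 hS).relIndex (C.M1 hS) = 2 := by
  have hs : C.s ∈ C.M1 hS := ⟨1, map_one _, Or.inr (by rw [map_one, one_mul])⟩
  refine relIndex_eq_two_iff.2 ⟨C.s, hs, ?_⟩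
  have hno : ∀ p : K5, C.Om hS p * C.s ∉ C.M0 hS := fun p ⟨a, ha⟩ => C.Om_cases hS ha
  rintro b ⟨p, hp, rfl | rfl⟩
  · exact Or.inr ⟨C.io_eq hS hp, hno p⟩
  · refine Or.inl ⟨?_, hno p⟩
    rw [mul_assoc, C.ss, mul_one]
    exact C.io_eq hS hp

theorem card_Mb : Nat.card (C.Mb hS) = 14400 := by
  rw [← PBasic.card_mul_relIndex (C.M1_le hS), ← PBasic.card_mul_relIndex (C.M0_le hS), C.card_M0, C.M0_rel,
    C.M1_rel]

theorem not_dvd_128 : ¬ 128 ∣ Nat.card G := by
  rw [← (C.Mb hS).card_mul_index, C.card_Mb]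
  obtain ⟨k, hk⟩ := C.index_odd hS
  rw [hk]
  intro h
  omega

theorem M0_index : (C.M0 hS).index = 4 * (C.Mb hS).index := by
  rw [← relIndex_mul_index ((C.M0_le hS).trans (C.M1_le hS)),
    ← relIndex_mul_relIndex _ _ _ (C.M0_le hS) (C.M1_le hS), C.M0_rel, C.M1_rel]

variable (χ : G →* ℤˣ) (ht : χ (C.F t0) = -1) (hs : χ C.s = 1)
include ht hs

theorem chi_Om (p : K5) : χ (C.Om hS p) = Perm.sign p.1.1 := by
  obtain ⟨h1, -, h3, -⟩ := uu5_facts p.1.1
  obtain ⟨h1', -, h3', -⟩ := uu5_facts p.1.2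
  rw [C.Om_apply, map_mul, (C.char_even χ h1).1, one_mul,
    show p.1.2 = p.1.2 * uu5 p.1.2 * uu5 p.1.2 by rw [mul_assoc, h3', mul_one], map_mul, map_mul,
    (C.char_even χ h1').2, one_mul, C.Pb_uu, ← K5_uu p.2]
  unfold uu5
  rcases Int.units_eq_one_or (Perm.sign p.1.1) with h | h <;> rw [h]
  · rw [if_pos rfl, map_one, map_one]
  · rw [if_neg (by decide)]; exact ht

theorem mem_M1_of {x : G} (hx : x ∈ C.Mb hS) (h1 : χ x = 1) : x ∈ C.M1 hS := by
  obtain ⟨p, rfl | rfl⟩ := hx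
  · exact ⟨p, (C.chi_Om hS χ ht hs p).symm.trans h1, Or.inl rfl⟩
  · rw [map_mul, hs, mul_one] at h1
    exact ⟨p, (C.chi_Om hS χ ht hs p).symm.trans h1, Or.inr rfl⟩

theorem M0_le_ker : C.M0 hS ≤ χ.ker := by
  rintro _ ⟨a, rfl⟩
  exact (C.chi_Om hS χ ht hs (toK a)).trans a.1.2

theorem ker_index : χ.ker.index = 2 := by
  rw [index_ker, MonoidHom.range_eq_top.2 fun x => by
    rcases Int.units_eq_one_or x with rfl | rfl
    · exact ⟨1, map_one _⟩
    · exact ⟨_, ht⟩, card_top, Nat.card_eq_fintype_card, Fintype.card_units_int]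

theorem not_dvd_64 : ¬ 64 ∣ Nat.card χ.ker := by
  intro h
  refine C.not_dvd_128 hS ?_
  rw [← χ.ker.card_mul_index, C.ker_index hS χ ht hs, show (128 : ℕ) = 64 * 2 from rfl]
  exact Nat.mul_dvd_mul_right h 2

/-- The three classes of involutions of `M0` have centralisers of order divisible by 16 in the kernel. -/
theorem dvd_16 {x : G} (h : IsConj (C.F i0) x ∨ IsConj (C.F j0) x ∨ IsConj (C.F (i0 * j0)) x) :
    16 ∣ Nat.card ((centralizer ({x} : Set G)).subgroupOf χ.ker) := by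
  obtain ⟨-, -, -, -, -, -, hv, hv', c, hc, ec⟩ := V5L_facts
  -- conjugates inside the four-groups
  have hji : C.Pb i5 = C.F j0 := by rw [C.Pb_eq]; exact C.sis hS
  obtain ⟨a, ha, hax⟩ : ∃ a : alternatingGroup (Fin 5) × alternatingGroup (Fin 5),
      a ∈ W5.prod W5 ∧ IsConj (C.io hS a) x := by
    have hci : IsConj (C.F i0) (C.Fb v5) := isConj_iff.2 ⟨C.Fb c, by rw [← ec, map_mul, map_mul, map_inv]; rfl⟩
    have hcj : IsConj (C.F j0) (C.Pb v5) :=
      isConj_iff.2 ⟨C.Pb c, by rw [← hji, ← ec, map_mul, map_mul, map_inv]⟩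
    have hv1 : Perm.sign v5 = 1 := V5L_facts.2.2.2.1 _ hv
    rcases h with h | h | h
    · refine ⟨(⟨v5, hv1⟩, 1), ⟨hv, one_mem _⟩, ?_⟩
      rw [C.io_apply]; simpa using hci.symm.trans h
    · refine ⟨(1, ⟨v5, hv1⟩), ⟨one_mem _, hv⟩, ?_⟩
      rw [C.io_apply]; simpa using hcj.symm.trans h
    · refine ⟨(⟨v5, hv1⟩, ⟨v5, hv1⟩), ⟨hv, hv⟩, IsConj.trans (IsConj.symm ?_) h⟩
      refine isConj_iff.2 ⟨C.Fb c * C.Pb c, ?_⟩
      rw [C.io_apply, map_mul C.F, show C.F i0 = C.Fb i5 from rfl, ← hji, ← C.Om_even hS c c hc hc,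
        ← C.Om_even hS i5 i5 uu5_vals.2.2.1 uu5_vals.2.2.1, ← map_inv, ← map_mul, ← map_mul,
        ← C.Om_even hS v5 v5 hv1 hv1]
      exact congrArg (C.Om hS) (Subtype.ext (Prod.ext ec ec))
  obtain ⟨g, rfl⟩ := isConj_iff.1 hax
  let f : (W5.prod W5 : Subgroup _) →* G := ((MulAut.conj g).toMonoidHom.comp (C.io hS)).comp (W5.prod W5).subtype
  have hf : Function.Injective f :=
    ((MulAut.conj g).injective.comp (C.io_inj hS)).comp (Subgroup.subtype_injective _)
  have hr : f.range ≤ centralizer ({g * C.io hS a * g⁻¹} : Set G) ⊓ χ.ker := by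
    rintro _ ⟨⟨b, hb⟩, rfl⟩
    refine mem_inf.2 ⟨?_, ?_⟩
    · rw [mem_centralizer_singleton_iff]
      show g * C.io hS b * g⁻¹ * (g * C.io hS a * g⁻¹) = g * C.io hS a * g⁻¹ * (g * C.io hS b * g⁻¹)
      rw [show g * C.io hS b * g⁻¹ * (g * C.io hS a * g⁻¹) = g * (C.io hS b * C.io hS a) * g⁻¹ by group,
        show g * C.io hS a * g⁻¹ * (g * C.io hS b * g⁻¹) = g * (C.io hS a * C.io hS b) * g⁻¹ by group,
        ← map_mul, ← map_mul]
      congr 3
      exact Prod.ext (Subtype.ext (V5L_facts.1 _ hb.1 _ ha.1).2) (Subtype.ext (V5L_facts.1 _ hb.2 _ ha.2).2)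
    · exact (χ.normal_ker).conj_mem _ (C.M0_le_ker hS χ ht hs ⟨b, rfl⟩) g
  have hc16 : Nat.card f.range = 16 := by
    rw [← Nat.card_congr (MonoidHom.ofInjective hf).toEquiv, Nat.card_congr (Subgroup.prodEquiv W5 W5).toEquiv,
      Nat.card_prod, card_W5]
  rw [← hc16]
  refine (card_dvd_of_le hr).trans (dvd_of_eq ?_)
  exact Nat.card_congr
    { toFun := fun z => ⟨⟨(z : G), (mem_inf.1 z.2).2⟩, (mem_inf.1 z.2).1⟩
      invFun := fun z => ⟨((z : χ.ker) : G), mem_inf.2 ⟨z.2, (z : χ.ker).2⟩⟩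
      left_inv := fun _ => rfl
      right_inv := fun _ => rfl }

/-- The centraliser of `s` in the kernel has order 120. -/
theorem card_cent_s : Nat.card ((centralizer ({C.s} : Set G)).subgroupOf χ.ker) = 120 := by
  classical
  haveI : Fact (Nat.Prime 3) := ⟨Nat.prime_three⟩
  set K := centralizer ({C.s} : Set G) ⊓ χ.ker with hK
  have hcardK : Nat.card ((centralizer ({C.s} : Set G)).subgroupOf χ.ker) = Nat.card K := Nat.card_congr
    { toFun := fun z => ⟨((z : χ.ker) : G), mem_inf.2 ⟨z.2, (z : χ.ker).2⟩⟩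
      invFun := fun z => ⟨⟨(z : G), (mem_inf.1 z.2).2⟩, (mem_inf.1 z.2).1⟩
      left_inv := fun _ => rfl
      right_inv := fun _ => rfl }
  rw [hcardK]
  have hsK : C.s ∈ K := mem_inf.2 ⟨mem_centralizer_singleton_iff.2 rfl, hs⟩
  set sK : K := ⟨C.s, hsK⟩ with hsKd
  have hs1 : C.s ≠ 1 := fun h => C.s_not_Om hS 1 (by rw [h, map_one])
  have hcs : ∀ g : K, g * sK = sK * g := fun g => Subtype.ext (mem_centralizer_singleton_iff.1 (mem_inf.1 g.2).1)
  haveI hn : (zpowers sK).Normal := ⟨fun n hn g => by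
    obtain ⟨k, rfl⟩ := hn
    show g * sK ^ k * g⁻¹ ∈ zpowers sK
    rw [((show Commute g sK from hcs g).zpow_right k).eq, mul_inv_cancel_right]
    exact ⟨k, rfl⟩⟩
  have hso : orderOf sK = 2 := by
    haveI : Fact (Nat.Prime 2) := ⟨Nat.prime_two⟩
    exact orderOf_eq_prime (Subtype.ext (by rw [SubmonoidClass.coe_pow, pow_two]; exact C.ss))
      fun h => hs1 (congrArg Subtype.val h)
  set π := QuotientGroup.mk' (zpowers sK) with hπ
  have hπ1 : ∀ a : K, π a = 1 ↔ (a : G) = 1 ∨ (a : G) = C.s := by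
    intro a
    rw [show π a = 1 ↔ a ∈ zpowers sK from QuotientGroup.eq_one_iff a, mem_zpowers_iff_mem_range_orderOf, hso]
    rw [Finset.mem_image]
    constructor
    · rintro ⟨k, hk, rfl⟩
      rw [Finset.mem_range] at hk
      interval_cases k
      · exact Or.inl (by rw [pow_zero]; rfl)
      · exact Or.inr (by rw [pow_one])
    · rintro (h | h)
      · exact ⟨0, by simp, by rw [pow_zero]; exact Subtype.ext h.symm⟩
      · exact ⟨1, by simp, by rw [pow_one]; exact Subtype.ext h.symm⟩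
  have hcard : Nat.card K = Nat.card (K ⧸ zpowers sK) * 2 := by
    rw [card_eq_card_quotient_mul_card_subgroup (zpowers sK), Nat.card_zpowers, hso]
  -- the diagonal
  let δ0 : alternatingGroup (Fin 5) →* K :=
    { toFun := fun a => ⟨C.io hS (a, a), mem_inf.2 ⟨mem_centralizer_singleton_iff.2 (by
          show C.Om hS (toK (a, a)) * C.s = C.s * C.Om hS (toK (a, a))
          rw [C.s_Om hS]; rfl),
        C.M0_le_ker hS χ ht hs ⟨_, rfl⟩⟩⟩
      map_one' := Subtype.ext (map_one _)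
      map_mul' := fun a b => Subtype.ext (by
        show C.io hS (a * b, a * b) = _
        rw [← Prod.mk_mul_mk, map_mul]; rfl) }
  set δ := π.comp δ0 with hδ
  have hδinj : Function.Injective δ := by
    rw [← MonoidHom.ker_eq_bot_iff, eq_bot_iff]
    intro a ha
    rcases (hπ1 (δ0 a)).1 ha with e | e
    · exact mem_bot.2 (congrArg Prod.fst (C.io_inj hS (e.trans (map_one _).symm)))
    · exact absurd e.symm (C.s_not_Om hS _)
  set w' : alternatingGroup (Fin 5) := ⟨w5, uu5_vals.2.2.2.2.1⟩ with hw'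
  have hw3 : w' ^ 3 = 1 := Subtype.ext (by show w5 ^ 3 = 1; decide +kernel)
  have hw1 : w' ≠ 1 := fun h => absurd (show w5 = 1 from congrArg Subtype.val h) (by decide +kernel)
  set yb := δ w' with hyb
  have hyo : orderOf yb = 3 := by
    rw [hyb, orderOf_injective δ hδinj]; exact orderOf_eq_prime hw3 hw1
  have hy : C.io hS (w', w') = C.F y0 := by
    rw [C.io_apply]
    show C.Fb w5 * C.Pb w5 = _
    rw [C.Pb_eq, show C.Fb w5 = C.F w0 from rfl, C.sw, ← map_mul]
    congr 1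
  have hself : centralizer (zpowers yb : Set (K ⧸ zpowers sK)) = zpowers yb := by
    refine le_antisymm (fun b hb => ?_) (fun b hb => ?_)
    · obtain ⟨g, rfl⟩ := QuotientGroup.mk'_surjective _ b
      have hc : π g * π (δ0 w') = π (δ0 w') * π g := ((mem_centralizer_iff.1 hb) yb (mem_zpowers _)).symm
      have hyK : ((δ0 w' : K) : G) = C.F y0 := hy
      have hgy : (g : G) * C.F y0 = C.F y0 * g := by
        rw [← map_mul, ← map_mul] at hc
        have h1 := (hπ1 ((δ0 w' * g)⁻¹ * (g * δ0 w'))).1 (by rw [map_mul, map_inv, hc, inv_mul_cancel])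
        simp only [Subgroup.coe_mul, Subgroup.coe_inv, hyK] at h1
        rcases h1 with e | e
        · exact (inv_mul_eq_one.1 e).symm
        · exfalso
          have e' : (g : G) * C.F y0 * (g : G)⁻¹ = C.F y0 * C.s := by
            have hgs : (g : G) * C.s = C.s * g := mem_centralizer_singleton_iff.1 (mem_inf.1 g.2).1
            rw [show (g : G) * C.F y0 = C.F y0 * (g : G) * C.s by rw [← e]; group, mul_assoc (C.F y0), hgs]
            group
          have h3 : ((g : G) * C.F y0 * (g : G)⁻¹) ^ 3 = 1 := by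
            rw [conj_pow, C.cube (mem_map_of_mem _ Dm_facts.2.2.1), mul_one, mul_inv_cancel]
          rw [e', (show Commute (C.F y0) C.s from C.s_comm_y.symm).mul_pow,
            C.cube (mem_map_of_mem _ Dm_facts.2.2.1), one_mul, pow_succ, pow_two, C.ss, one_mul] at h3
          exact hs1 h3
      obtain ⟨p, hp, hg⟩ := C.mem_M1_of hS χ ht hs (C.cent_d_mem hS Dm_facts.2.2.1 z_move.2.2.1 hgy) (mem_inf.1 g.2).2
      have hgs : (g : G) * C.s = C.s * g := mem_centralizer_singleton_iff.1 (mem_inf.1 g.2).1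
      -- reduce to an element of the image of the pairs
      obtain ⟨g', hg', hπg⟩ : ∃ g' : K, (g' : G) = C.Om hS p ∧ π g = π g' := by
        rcases hg with h | h
        · exact ⟨g, h, rfl⟩
        · refine ⟨g * sK, ?_, ?_⟩
          · rw [Subgroup.coe_mul, h, show (sK : G) = C.s from rfl, mul_assoc, C.ss, mul_one]
          · rw [map_mul, (hπ1 sK).2 (Or.inr rfl), mul_one]
      have hps : C.Om hS (swapK p) = C.Om hS p := by
        have h := mem_centralizer_singleton_iff.1 (mem_inf.1 g'.2).1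
        rw [hg', C.s_Om hS] at h
        exact (mul_right_cancel h).symm
      have e21 : p.1.2 = p.1.1 := congrArg (fun q : K5 => q.1.1) (C.Om_inj hS hps)
      have hpy : p.1.1 * w5 = w5 * p.1.1 := by
        have h1 : π g' * π (δ0 w') = π (δ0 w') * π g' := by rw [← hπg]; exact hc
        have h2 : (g' : G) * C.F y0 = C.F y0 * g' := by
          rcases hg with h | h
          · rw [hg', ← h]; exact hgy
          · rw [hg', ← show (g : G) * C.s = C.Om hS p by rw [h, mul_assoc, C.ss, mul_one]]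
            exact (Commute.mul_left hgy C.s_comm_y).eq
        rw [hg', ← hy] at h2
        change C.Om hS p * C.Om hS (toK (w', w')) = C.Om hS (toK (w', w')) * C.Om hS p at h2
        rw [← map_mul, ← map_mul] at h2
        exact congrArg (fun q : K5 => q.1.1) (C.Om_inj hS h2)
      have hmem := cent_w5 _ hp hpy
      rw [hπg]
      obtain ⟨k, hk⟩ : ∃ k : ℕ, p.1.1 = w5 ^ k := by
        simp only [List.mem_cons, List.not_mem_nil, or_false] at hmem
        rcases hmem with h | h | h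
        · exact ⟨0, by rw [h, pow_zero]⟩
        · exact ⟨1, by rw [h, pow_one]⟩
        · exact ⟨2, by rw [h, pow_two]⟩
      have e : g' = δ0 w' ^ k := by
        rw [← map_pow]
        refine Subtype.ext (hg'.trans (congrArg (C.Om hS) ?_))
        exact Subtype.ext (Prod.ext hk (e21.trans hk))
      rw [e, map_pow]
      exact pow_mem (mem_zpowers _) k
    · rw [mem_centralizer_iff]
      rintro c ⟨m, rfl⟩
      obtain ⟨l, rfl⟩ := hb
      exact (Commute.zpow_zpow_self yb m l).eq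
  have hnoN : ∀ (N : Subgroup (K ⧸ zpowers sK)) [N.Normal],
      Nat.card ((K ⧸ zpowers sK) ⧸ N) < 60 → yb ∈ N := by
    intro N _ h
    exact (QuotientGroup.eq_one_iff yb).1 (hom_small ((QuotientGroup.mk' N).comp δ) h w')
  rcases Cfsg.Agent.S3331.result (zpowers yb) (by rw [Nat.card_zpowers, hyo]) hself with
    ⟨N, hN, -, hco, hq⟩ | ⟨N, hN, hNc, h2, ⟨e⟩⟩ | ⟨⟨e⟩⟩
  · exfalso
    have hlt : Nat.card ((K ⧸ zpowers sK) ⧸ N) < 60 := by
      rcases hq with h | ⟨⟨e⟩⟩
      · omega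
      · rw [Nat.card_congr e.toEquiv, Nat.card_eq_fintype_card, Fintype.card_perm, Fintype.card_fin]; decide
    have h3 : 3 ∣ Nat.card N := by
      rw [← hyo, ← orderOf_mk yb (hnoN N hlt)]; exact orderOf_dvd_natCard _
    exact ((Nat.Prime.coprime_iff_not_dvd Nat.prime_three).1 hco.symm) h3
  · haveI : Fact (Nat.Prime 2) := ⟨Nat.prime_two⟩
    have hN2 : IsPGroup 2 N := fun a => ⟨1, by rw [pow_one]; exact Subtype.ext (h2 _ a.2)⟩
    obtain ⟨n, hn2⟩ := IsPGroup.iff_card.1 hN2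
    have hq : Nat.card (K ⧸ zpowers sK) = 60 * Nat.card N := by
      rw [card_eq_card_quotient_mul_card_subgroup N, Nat.card_congr e.toEquiv, card_A5]
    have hn : n ≤ 2 := by
      by_contra hn
      refine C.not_dvd_64 hS χ ht hs (Dvd.dvd.trans ?_ (card_dvd_of_le (inf_le_right : K ≤ χ.ker)))
      rw [hcard, hq, hn2]
      obtain ⟨m, rfl⟩ := Nat.exists_eq_add_of_le (show 3 ≤ n by omega)
      rw [pow_add]
      exact ⟨15 * 2 ^ m, by ring⟩
    -- the diagonal acts trivially on `N`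
    let act : alternatingGroup (Fin 5) →* Perm N :=
      { toFun := fun a =>
          { toFun := fun x => ⟨δ a * x * (δ a)⁻¹, hN.conj_mem _ x.2 _⟩
            invFun := fun x => ⟨(δ a)⁻¹ * x * δ a, by simpa using hN.conj_mem _ x.2 (δ a)⁻¹⟩
            left_inv := fun x => Subtype.ext (by show (δ a)⁻¹ * (δ a * x * (δ a)⁻¹) * δ a = x; group)
            right_inv := fun x => Subtype.ext (by show δ a * ((δ a)⁻¹ * x * δ a) * (δ a)⁻¹ = x; group) }
        map_one' := Equiv.ext fun x => Subtype.ext (by show δ 1 * x * (δ 1)⁻¹ = x; simp)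
        map_mul' := fun a b => Equiv.ext fun x => Subtype.ext (by
          show δ (a * b) * x * (δ (a * b))⁻¹ = δ a * (δ b * x * (δ b)⁻¹) * (δ a)⁻¹
          rw [map_mul]; group) }
    have hN1 : Nat.card N = 1 := by
      have htriv := hom_small act (by
        rw [Nat.card_perm, hn2]
        interval_cases n <;> simp [Nat.factorial]) w'
      refine card_eq_one.2 ((eq_bot_iff_forall _).2 fun x hx => ?_)
      have h1 : yb * x * yb⁻¹ = x := congrArg Subtype.val (DFunLike.congr_fun htriv ⟨x, hx⟩)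
      have hx' : x ∈ zpowers yb := by
        rw [← hself, mem_centralizer_iff]
        rintro c ⟨m, rfl⟩
        exact ((show Commute yb x from mul_inv_eq_iff_eq_mul.1 h1).zpow_left m).eq
      obtain ⟨m, rfl⟩ := hx'
      have h3 : orderOf (yb ^ m) ∣ 3 := orderOf_dvd_of_pow_eq_one (by
        rw [← zpow_natCast, ← zpow_mul, mul_comm, zpow_mul, zpow_natCast, ← hyo, pow_orderOf_eq_one, one_zpow])
      have h2' : orderOf (yb ^ m) ∣ 2 := orderOf_dvd_of_pow_eq_one (h2 _ hx)
      exact orderOf_eq_one_iff.1 (Nat.dvd_one.1 (Nat.dvd_gcd h3 h2'))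
    rw [hcard, hq, hN1]
  · exfalso
    have h := Subgroup.card_dvd_of_injective δ hδinj
    rw [card_A5, Nat.card_congr e.toEquiv, card_psl7] at h
    norm_num at h

/-- The second character. -/
theorem exists_sign2 : ∃ χ2 : χ.ker →* ℤˣ, χ2 ⟨C.s, hs⟩ = -1 := by
  haveI : Fact (Nat.Prime 2) := ⟨Nat.prime_two⟩
  refine SignThompson.exists_sign_hom ((C.M0 hS).subgroupOf χ.ker) ⟨C.s, hs⟩ 0 (C.Mb hS).index ?_ (fun g hg => ?_)
    (C.index_odd hS) ?_
  · rw [zero_add, pow_one]
    exact orderOf_eq_prime (Subtype.ext (by rw [SubmonoidClass.coe_pow, pow_two]; exact C.ss))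
      fun h => C.s_not_Om hS 1 ((congrArg Subtype.val h).trans (map_one _).symm)
  · rw [pow_zero, pow_one, mem_subgroupOf] at hg
    simp only [Subgroup.coe_mul, Subgroup.coe_inv] at hg
    set x := (g : G)⁻¹ * C.s * g with hxd
    have hx2 : x * x = 1 := by
      rw [hxd, show (g : G)⁻¹ * C.s * g * ((g : G)⁻¹ * C.s * g) = (g : G)⁻¹ * (C.s * C.s) * g by group, C.ss]
      group
    have hx1 : x ≠ 1 := fun h => C.s_not_Om hS 1 (by
      rw [map_one, show C.s = (g : G) * x * (g : G)⁻¹ by rw [hxd]; group, h, mul_one, mul_inv_cancel])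
    have hxM : x ∈ C.Mb hS := C.M1_le hS (C.M0_le hS hg)
    have hsx : IsConj C.s x := isConj_iff.2 ⟨(g : G)⁻¹, by rw [inv_inv]⟩
    have hcl : IsConj (C.F i0) C.s ∨ IsConj (C.F j0) C.s ∨ IsConj (C.F (i0 * j0)) C.s := by
      obtain ⟨a, ha⟩ := hg
      rcases C.invol_cases hS hxM hx2 hx1 with ⟨_, _, _, _, -, h | h | h⟩ | ⟨m, -, hm⟩ | ⟨⟨p, hp⟩, -⟩
      · exact Or.inl (h.trans hsx.symm)
      · exact Or.inr (Or.inl (h.trans hsx.symm))
      · exact Or.inr (Or.inr (h.trans hsx.symm))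
      · exact absurd ((isConj_iff.2 ⟨m, hm.symm⟩ : IsConj (C.F t0) x).trans hsx.symm) C.t_ne_s
      · exact (C.Om_cases hS (show C.Om hS (toK a) = C.Om hS p * C.s from ha.trans hp)).elim
    have h16 := C.dvd_16 hS χ ht hs hcl
    rw [C.card_cent_s hS χ ht hs] at h16
    norm_num at h16
  · show ((C.M0 hS).subgroupOf χ.ker).index = 2 ^ (0 + 1) * (C.Mb hS).index
    have h := relIndex_mul_index (C.M0_le_ker hS χ ht hs)
    rw [C.ker_index hS χ ht hs, C.M0_index] at h
    show (C.M0 hS).relIndex χ.ker = _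
    rw [zero_add, pow_one]
    omega

end Cfg

end Cfsg.Agent.S8Three
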