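import Cfsg.Agent.Lib.S8Three.SmallPre

/-!
When `C(t)` normalises `D`, the involution `e` commutes with its image under the swap.
-/

set_option autoImplicit false
set_option linter.style.haveILetI false
set_option maxRecDepth 20000

namespace Cfsg.Agent.S8Three

open Equiv Subgroup

/-- The 2-group in the chart, as a subgroup. -/
def Qm : Subgroup LL where
  carrier := {p | p ∈ QL}
  one_mem' := QL_facts.2.1
  mul_mem' ha hb := (QL_facts.2.2.1 _ ha _ hb).1
  inv_mem' ha := (QL_facts.2.2.1 _ ha _ ha).2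

instance : DecidablePred (· ∈ Qm) := fun p => inferInstanceAs (Decidable (p ∈ QL))

theorem Qm_card : Fintype.card {p : LL // p ∈ Qm} = 16 := by decide +kernel

theorem quot_three : ∀ p : Multiplicative (ZMod 3), p ^ 4 = 1 → p * p = 1 := by decide +kernel

namespace Cfg

variable {G : Type*} [Group G] [Finite G] (C : Cfg G) (hS : C.Small)
include C hS

theorem rer : C.r * C.F e0 * C.r = C.F e0 * (C.F e0 * C.r * C.F e0 * C.r) := by
  rw [show C.F e0 * (C.F e0 * C.r * C.F e0 * C.r) = (C.F e0 * C.F e0) * C.r * C.F e0 * C.r by group,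
    ← map_mul, small_rels.2.2.2.2.2.2.2.2.2.2.2.2.1, map_one, one_mul]

theorem r_norm {q : LL} (hq : q ∈ Qm) : ∃ q', q' ∈ Qm ∧ C.r * C.F q * C.r = C.F q' := by
  have hr := C.r_sq hS
  let N : Subgroup LL :=
    { carrier := {p | ∃ q', q' ∈ Qm ∧ C.r * C.F p * C.r = C.F q'}
      one_mem' := ⟨1, one_mem _, by rw [map_one, mul_one, hr]⟩
      mul_mem' := by
        rintro a b ⟨a', ha, ea⟩ ⟨b', hb, eb⟩
        refine ⟨a' * b', mul_mem ha hb, ?_⟩
        rw [map_mul, map_mul, ← ea, ← eb]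
        calc C.r * (C.F a * C.F b) * C.r = C.r * C.F a * 1 * C.F b * C.r := by group
          _ = C.r * C.F a * (C.r * C.r) * C.F b * C.r := by rw [hr]
          _ = _ := by group
      inv_mem' := by
        rintro a ⟨a', ha, ea⟩
        refine ⟨a'⁻¹, inv_mem ha, ?_⟩
        rw [map_inv, map_inv, ← ea, mul_inv_rev, mul_inv_rev, inv_of_sq hr]
        group }
  have hi : i0 ∈ N := ⟨i0, QL_facts.2.2.2.2.1, by rw [C.r_i hS, mul_assoc, hr, mul_one]⟩
  have hj : j0 ∈ N := ⟨j0, QL_facts.2.2.2.2.2.1, by rw [C.r_j hS, mul_assoc, hr, mul_one]⟩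
  have ht : t0 ∈ N := ⟨t0 * j0, Qm.mul_mem QL_facts.2.2.2.1 QL_facts.2.2.2.2.2.1, C.rtr hS⟩
  have he : e0 ∈ N := by
    rcases C.f_val hS with h | h
    · exact ⟨e0, QL_facts.2.2.2.2.2.2.1, by rw [C.rer hS, h, mul_one]⟩
    · exact ⟨e0 * (i0 * j0), Qm.mul_mem QL_facts.2.2.2.2.2.2.1
        (Qm.mul_mem QL_facts.2.2.2.2.1 QL_facts.2.2.2.2.2.1), by rw [C.rer hS, h, ← map_mul]⟩
  have hle : ∀ p ∈ QL, p ∈ N := by
    intro p hp
    simp only [QL, List.mem_cons, List.not_mem_nil, or_false] at hp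
    rcases hp with h | h | h | h | h | h | h | h | h | h | h | h | h | h | h | h <;> subst h <;>
      first
        | exact one_mem _
        | assumption
        | exact mul_mem ‹_› ‹_›
        | exact mul_mem (mul_mem ht hi) he
        | exact mul_mem (mul_mem ht hi) hj
        | exact mul_mem (mul_mem ht he) hj
        | exact mul_mem (mul_mem hi he) hj
        | exact mul_mem (mul_mem (mul_mem ht hi) he) hj
        | exact mul_mem ht hi
        | exact mul_mem ht he
        | exact mul_mem ht hj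
        | exact mul_mem hi he
        | exact mul_mem hi hj
        | exact mul_mem he hj
  exact hle q hq

theorem r_not_chart (q : LL) : C.r ≠ C.F q := by
  intro h
  have hz : C.r * C.F z0 * C.r⁻¹ ∈ zpowers (C.F z0) := by
    rw [h]
    exact (mem_normalizer_iff.1 ((C.F_range ▸ ⟨q, rfl⟩ : C.F q ∈ normalizer (zpowers (C.F z0) : Set G))) _).1
      (mem_zpowers _)
  rw [inv_of_sq (C.r_sq hS)] at hz
  have e : C.r * C.F z0 * C.r = C.s * C.F (e0 * w0 * e0) * C.s := by
    show C.s * C.F e0 * C.s * C.F z0 * (C.s * C.F e0 * C.s) = _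
    rw [map_mul, map_mul, ← C.sz]; group
  rw [e] at hz
  have key : e0 * w0 * e0 ≠ 1 ∧ e0 * w0 * e0 ≠ w0 ∧ e0 * w0 * e0 ≠ w0 * w0 := by decide +kernel
  have back : ∀ a b : LL, C.s * C.F a * C.s = C.s * C.F b * C.s → a = b := fun a b h =>
    C.F_inj (mul_left_cancel (mul_right_cancel h))
  rcases mem_zpowers_three (C.cube (mem_map_of_mem _ Dm_facts.1)) hz with h' | h' | h'
  · exact key.1 (back _ 1 (by rw [h', map_one, mul_one, C.ss]))
  · exact key.2.1 (back _ w0 (by rw [h', C.sw]))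
  · exact key.2.2 (back _ (w0 * w0) (by rw [h', map_mul, C.sconj_mul, C.sw]))

/-- A subgroup containing the 2-group of the chart and `r` has order divisible by 32. -/
theorem dvd_32 (H : Subgroup G) (hQ : ∀ q ∈ Qm, C.F q ∈ H) (hr : C.r ∈ H) : 32 ∣ Nat.card H := by
  have rr := C.r_sq hS
  let R : Subgroup G :=
    { carrier := {x | ∃ b : Bool, ∃ q, q ∈ Qm ∧ x = (bif b then C.r else 1) * C.F q}
      one_mem' := ⟨false, 1, one_mem _, by simp⟩
      mul_mem' := by
        rintro x y ⟨b, q, hq, rfl⟩ ⟨c, p, hp, rfl⟩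
        cases c
        · exact ⟨b, q * p, mul_mem hq hp, by rw [cond_false, one_mul, map_mul]; group⟩
        · obtain ⟨q', hq', e⟩ := C.r_norm hS hq
          have eq : C.F q * C.r = C.r * C.F q' := by
            rw [← e]
            calc C.F q * C.r = (C.r * C.r) * (C.F q * C.r) := by rw [rr, one_mul]
              _ = _ := by group
          refine ⟨!b, q' * p, mul_mem hq' hp, ?_⟩
          rw [cond_true, map_mul,
            show (bif b then C.r else 1) * C.F q * (C.r * C.F p) = (bif b then C.r else 1) * (C.F q * C.r) * C.F p by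
              group, eq]
          cases b
          · simp [mul_assoc]
          · simp only [cond_true, Bool.not_true, cond_false, ← mul_assoc, rr, one_mul]
      inv_mem' := by
        rintro x ⟨b, q, hq, rfl⟩
        cases b
        · exact ⟨false, q⁻¹, inv_mem hq, by simp⟩
        · obtain ⟨q', hq', e⟩ := C.r_norm hS (inv_mem hq)
          refine ⟨true, q', hq', ?_⟩
          simp only [cond_true]
          rw [← e, mul_inv_rev, inv_of_sq rr, map_inv, ← mul_assoc, ← mul_assoc, rr,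
            one_mul] }
  have hle : R ≤ H := by
    rintro x ⟨b, q, hq, rfl⟩
    cases b
    · simpa using hQ q hq
    · exact mul_mem hr (hQ q hq)
  have hc : Nat.card R = 32 := by
    have e : Nat.card (Bool × {q : LL // q ∈ Qm}) = 32 := by
      rw [Nat.card_prod, Nat.card_eq_fintype_card, Nat.card_eq_fintype_card, Qm_card]; rfl
    rw [← e]
    refine (Nat.card_eq_of_bijective (fun p : Bool × {q : LL // q ∈ Qm} =>
      (⟨(bif p.1 then C.r else 1) * C.F p.2, p.1, p.2, p.2.2, rfl⟩ : R)) ⟨?_, fun x => ?_⟩).symm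
    · rintro ⟨b, q, hq⟩ ⟨c, p, hp⟩ h
      have h' := Subtype.ext_iff.1 h
      cases b <;> cases c <;> simp only [cond_false, cond_true, one_mul, mul_right_inj] at h'
      · obtain rfl := C.F_inj h'; rfl
      · exact absurd (by rw [map_mul, map_inv, h', mul_inv_cancel_right]) (C.r_not_chart hS (q * p⁻¹))
      · exact absurd (by rw [map_mul, map_inv, ← h', mul_inv_cancel_right]) (C.r_not_chart hS (p * q⁻¹))
      · obtain rfl := C.F_inj h'; rfl
    · obtain ⟨b, q, hq, e⟩ := x.2
      exact ⟨(b, ⟨q, hq⟩), Subtype.ext e.symm⟩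
  rw [← hc]
  exact card_dvd_of_le hle

theorem t_ne_k : ¬ IsConj (C.F t0) (C.F (i0 * j0)) := by
  intro h
  obtain ⟨g, hg⟩ := isConj_iff.1 h
  have h32 := C.dvd_32 hS (centralizer ({C.F (i0 * j0)} : Set G))
    (fun q hq => mem_centralizer_singleton_iff.2 (C.F_comm.2 (QL_facts.2.2.2.2.2.2.2 q hq)))
    (mem_centralizer_singleton_iff.2 (by
      rw [map_mul]; exact (Commute.mul_right (C.r_i hS) (C.r_j hS)).eq))
  rw [← hg, card_cent_conj, C.card_cent_t_small hS] at h32
  norm_num at h32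

/-- The classes met in `⟨e, i, j⟩` differ from the class of `t`. -/
theorem t_ne_chart {a : LL} (ha : a ∈ [e0, e0 * i0, e0 * j0, e0 * i0 * j0]) :
    ¬ IsConj (C.F t0) (C.F a) := by
  simp only [List.mem_cons, List.not_mem_nil, or_false] at ha
  have h1 : ∀ a ∈ [e0, e0 * i0, i0 * e0], ¬ IsConj (C.F t0) (C.F a) := fun a ha h => by
    obtain ⟨q, hq, -⟩ := small_classes.1 a ha
    refine C.t_ne_a (h.trans (IsConj.symm (isConj_iff.2 ⟨C.F q, ?_⟩)))
    rw [← map_inv, ← map_mul, ← map_mul, hq]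
  have h2 : ∀ a ∈ [e0 * j0, e0 * i0 * j0], ¬ IsConj (C.F t0) (C.F a) := fun a ha h => by
    obtain ⟨q, hq⟩ := small_classes.2.1 a ha
    refine C.t_ne_k hS (h.trans (IsConj.symm (isConj_iff.2 ⟨C.F q, ?_⟩)))
    rw [← map_inv, ← map_mul, ← map_mul, hq]
  rcases ha with rfl | rfl | rfl | rfl
  · exact h1 _ (by simp)
  · exact h1 _ (by simp)
  · exact h2 _ (by simp)
  · exact h2 _ (by simp)

/-- The images of those classes under the swap differ from the class of `t`. -/
theorem t_ne_swap {a : LL} (ha : a ∈ [e0, e0 * i0, e0 * j0, e0 * i0 * j0]) :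
    ¬ IsConj (C.F t0) (C.s * C.F a * C.s) := by
  intro h
  refine C.t_ne_chart hS ha (h.trans (isConj_iff.2 ⟨C.s, ?_⟩))
  rw [inv_of_sq C.ss]; exact C.sconj_sconj _

/-- The involution `e` commutes with its image under the swap. -/
theorem er_comm : C.F e0 * C.r = C.r * C.F e0 := by
  classical
  set t := C.F t0 with ht
  set i := C.F i0 with hi
  set j := C.F j0 with hj
  set e := C.F e0 with he
  set r := C.r with hr
  have ee : e * e = 1 := by rw [he, ← map_mul, small_rels.2.2.2.2.2.2.2.2.2.2.2.2.1, map_one]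
  have tt : t * t = 1 := by rw [ht, ← map_mul, small_rels.2.2.2.2.2.2.2.2.2.2.2.2.2.1, map_one]
  have ii : i * i = 1 := by rw [hi, ← map_mul, small_rels.2.2.2.2.2.2.2.2.2.2.1, map_one]
  have jj : j * j = 1 := by rw [hj, ← map_mul, small_rels.2.2.2.2.2.2.2.2.2.2.2.1, map_one]
  have rr : r * r = 1 := C.r_sq hS
  have ie := inv_of_sq ee
  have it := inv_of_sq tt
  have ir := inv_of_sq rr
  have ri : r * i = i * r := C.r_i hS
  have rj : r * j = j * r := C.r_j hS
  have ei : e * i = i * e := C.F_comm.2 small_rels.2.2.1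
  have ej : e * j = j * e := C.F_comm.2 small_rels.2.1
  have ij : i * j = j * i := C.F_comm.2 small_rels.2.2.2.1
  have ti : t * i = i * t := C.F_comm.2 small_rels.2.2.2.2.1
  have tj : t * j = j * t := C.F_comm.2 rel_facts.2.2.2.2.1.symm
  have ete : e * t * e = t * i := by rw [he, ht, hi, ← map_mul, ← map_mul, ← map_mul, small_rels.1]
  have rtr : r * t * r = t * j := by rw [hr, ht, hj, C.rtr hS, map_mul]
  have trt : t * r * t = r * j := by
    calc t * r * t = t * (r * t * r) * r := by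
          rw [show t * (r * t * r) * r = t * r * t * (r * r) by group, rr, mul_one]
      _ = (t * t) * (j * r) := by rw [rtr]; group
      _ = r * j := by rw [tt, one_mul, rj]
  rcases C.f_val hS with hf | hf
  · calc e * r = (e * r * e * r) * (r⁻¹ * e⁻¹) := by group
      _ = r * e := by rw [hf, one_mul, ie, ir]
  exfalso
  have hf' : e * r * e * r = i * j := by rw [hf, map_mul]
  set x := r * t with hx
  set u := e * t with hu
  have xx : x * x = j := by
    rw [hx, show r * t * (r * t) = r * t * r * t by group, rtr, tj, mul_assoc, tt, mul_one]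
  have x4 : x ^ 4 = 1 := by
    rw [show x ^ 4 = (x * x) * (x * x) by simp only [pow_succ, pow_zero, one_mul, mul_assoc], xx, jj]
  have txt : t * x * t = x⁻¹ := by
    rw [hx, mul_inv_rev, ir, it, show t * (r * t) * t = t * r * (t * t) by group, tt, mul_one]
  have hux : u * x = x * u := by
    have h1 : t * r = r * j * t := by rw [← trt, mul_assoc, tt, mul_one]
    have h2 : e * r = i * j * r * e := by
      rw [← hf']
      calc e * r = e * r * e * (r * r) * e := by rw [rr, mul_one, mul_assoc, ee, mul_one]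
        _ = _ := by group
    have h3 : u * x * u⁻¹ = x := by
      calc u * x * u⁻¹ = e * (t * r) * (t * t⁻¹) * e⁻¹ := by rw [hu, hx]; group
        _ = e * (r * j * t) * e := by rw [h1, mul_inv_cancel, mul_one, ie]
        _ = (e * r) * j * (t * e) := by group
        _ = i * j * r * (e * j) * (t * e) := by rw [h2]; group
        _ = i * j * r * j * (e * t * e) := by rw [ej]; group
        _ = i * (j * (r * j)) * (t * i) := by rw [ete]; group
        _ = i * (j * j) * r * (t * i) := by rw [rj]; group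
        _ = i * r * (i * t) := by rw [jj, mul_one, ti]
        _ = r * (i * i) * t := by rw [← ri]; group
        _ = x := by rw [ii, mul_one]
    exact mul_inv_eq_iff_eq_mul.1 h3
  have uu : u * u = i := by
    rw [hu, show e * t * (e * t) = e * t * e * t by group, ete, ti, mul_assoc, tt, mul_one]
  have tut : t * u * t = u⁻¹ := by
    rw [hu, mul_inv_rev, it, ie, show t * (e * t) * t = t * e * (t * t) by group, tt, mul_one]
  -- the quotient by `⟨x⟩`
  set Cx := centralizer ({x} : Set G) with hCx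
  set xC : Cx := ⟨x, mem_centralizer_singleton_iff.2 rfl⟩ with hxC
  haveI hZn : (zpowers xC).Normal := ⟨fun n hn g => by
    obtain ⟨k, rfl⟩ := hn
    have hc : Commute (g : Cx) xC := Subtype.ext (mem_centralizer_singleton_iff.1 g.2)
    rw [show g * xC ^ k * g⁻¹ = xC ^ k by rw [(hc.zpow_right k).eq, mul_inv_cancel_right]]
    exact ⟨k, rfl⟩⟩
  set π := QuotientGroup.mk' (zpowers xC) with hπ
  have hπ1 : ∀ a : Cx, π a = 1 → ∃ n : Fin 4, (a : G) = x ^ (n : ℕ) := by
    intro a ha
    obtain ⟨k, hk⟩ := (QuotientGroup.eq_one_iff a).1 ha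
    refine ⟨⟨(k % 4).toNat, by omega⟩, ?_⟩
    rw [← hk]
    show ((xC ^ k : Cx) : G) = x ^ (k % 4).toNat
    rw [SubgroupClass.coe_zpow]
    show x ^ k = _
    conv_lhs => rw [← Int.emod_add_ediv_mul k 4, zpow_add, mul_comm (k / 4) 4, zpow_mul]
    rw [show x ^ (4 : ℤ) = 1 by exact_mod_cast x4, one_zpow, mul_one, ← zpow_natCast, Int.toNat_of_nonneg (by omega)]
  have hcong : ∀ a b : Cx, π a = π b → ∃ n : Fin 4, (a : G) = (b : G) * x ^ (n : ℕ) := by
    intro a b h
    obtain ⟨n, hn⟩ := hπ1 (b⁻¹ * a) (by rw [map_mul, map_inv, h, inv_mul_cancel])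
    exact ⟨n, by rw [← hn, Subgroup.coe_mul, Subgroup.coe_inv, mul_inv_cancel_left]⟩
  have hπx : π xC = 1 := (QuotientGroup.eq_one_iff _).2 (mem_zpowers _)
  -- the elements in use
  have hwx : C.F w0 * x = x * C.F w0 := by
    have hwt : C.F w0 * t = t * C.F w0 := C.F_comm.2 (Dm_facts.2.2.2.1 _ Dm_facts.2.1).2.2.2.1
    have hwr : C.F w0 * r = r * C.F w0 := by
      rw [← C.sz]; exact C.sconj_comm (C.F_comm.2 rel_facts.2.2.2.2.2.2.2.2.2.2.2.1.symm)
    exact (Commute.mul_right hwr hwt).eq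
  set wC : Cx := ⟨C.F w0, mem_centralizer_singleton_iff.2 hwx⟩ with hwC
  set uC : Cx := ⟨u, mem_centralizer_singleton_iff.2 hux⟩ with huC
  set ū := π uC with hū
  set wb := π wC with hwb
  have hxj : x * j = j * x := by rw [← xx]; exact (mul_assoc x x x).symm
  have hib : ū * ū ≠ 1 := by
    rw [hū, ← map_mul]
    intro h
    obtain ⟨n, hn⟩ := hπ1 _ h
    rw [Subgroup.coe_mul, show (uC : G) = u from rfl, uu] at hn
    have hx1 : x * x ≠ 1 := by
      rw [xx]; exact fun h => rel_facts.2.2.2.2.2.2.2.2.2.2.2.2.2.2.2.2.2.2.1 (C.F_inj (h.trans (map_one C.F).symm))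
    fin_cases n <;> simp only [pow_zero, pow_one, pow_two] at hn
    · exact rel_facts.2.2.2.2.2.2.2.2.2.2.2.2.2.2.2.2.1 (C.F_inj (hn.trans (map_one C.F).symm))
    · exact hx1 (by rw [← hn]; exact ii)
    · rw [xx] at hn; exact no_swap.1 1 (by rw [one_mul, mul_one]; exact C.F_inj hn)
    · apply hx1
      have : (x ^ 3) * (x ^ 3) = 1 := by rw [← hn]; exact ii
      rw [show x ^ 3 * x ^ 3 = x ^ 4 * (x * x) by simp only [pow_succ, pow_zero, one_mul, mul_assoc], x4,
        one_mul] at this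
      exact this
  have hu4 : ū ^ 4 = 1 := by
    rw [hū, ← map_pow, ← map_one π]
    congr 1
    refine Subtype.ext ?_
    rw [SubmonoidClass.coe_pow, show (uC : G) = u from rfl,
      show u ^ 4 = (u * u) * (u * u) by simp only [pow_succ, pow_zero, one_mul, mul_assoc], uu, ii]
    rfl
  have hiw : (ū * ū) * wb * (ū * ū)⁻¹ = wb⁻¹ := by
    rw [hū, hwb, ← map_mul, ← map_inv, ← map_mul, ← map_mul, ← map_inv]
    congr 1
    refine Subtype.ext ?_
    show u * u * C.F w0 * (u * u)⁻¹ = (C.F w0)⁻¹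
    rw [uu, inv_of_sq ii, hi, ← map_mul, ← map_mul, small_rels.2.2.2.2.2.2.2.1, map_inv]
  have hwc : C.F w0 ^ 3 = 1 := C.cube (mem_map_of_mem _ Dm_facts.2.1)
  have hw1 : wb ≠ 1 := by
    intro h
    obtain ⟨n, hn⟩ := hπ1 _ h
    have h3 : (x ^ (n : ℕ)) ^ 3 = 1 := by rw [← hn]; exact hwc
    have : x ^ (n : ℕ) = 1 := by
      have h4 : (x ^ (n : ℕ)) ^ 4 = 1 := by rw [← pow_mul, mul_comm, pow_mul, x4, one_pow]
      rw [pow_succ, h3, one_mul] at h4; exact h4
    exact z_move.2.1 (C.F_inj (hn.trans (this.trans (map_one C.F).symm)))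
  have hwo : orderOf wb = 3 := by
    haveI : Fact (Nat.Prime 3) := ⟨Nat.prime_three⟩
    refine orderOf_eq_prime ?_ hw1
    rw [hwb, ← map_pow, ← map_one π]
    exact congrArg π (Subtype.ext (by rw [SubmonoidClass.coe_pow]; exact hwc))
  have hcw : ∀ a : Cx, π a * wb = wb * π a → ∃ k : Fin 3, ∃ m : Fin 4, π a = wb ^ (k : ℕ) * 1 ^ (m : ℕ) := by
    intro a ha
    rw [hwb, ← map_mul, ← map_mul] at ha
    obtain ⟨n, hn⟩ := hcong _ _ ha
    simp only [Subgroup.coe_mul, show (wC : G) = C.F w0 from rfl] at hn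
    have hconj : (a : G) * C.F w0 * (a : G)⁻¹ = C.F w0 * x ^ (n : ℕ) := by
      rw [hn, mul_assoc (C.F w0) (a : G), ← (Commute.pow_left (show Commute x (a : G) from
        (mem_centralizer_singleton_iff.1 a.2).symm) (n : ℕ)).eq]
      group
    have h3 : (C.F w0 * x ^ (n : ℕ)) ^ 3 = 1 := by rw [← hconj, conj_pow, hwc, mul_one, mul_inv_cancel]
    have hc : Commute (C.F w0) (x ^ (n : ℕ)) := Commute.pow_right hwx _
    rw [hc.mul_pow, hwc, one_mul] at h3
    have hn1 : x ^ (n : ℕ) = 1 := by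
      have h4 : (x ^ (n : ℕ)) ^ 4 = 1 := by rw [← pow_mul, mul_comm, pow_mul, x4, one_pow]
      rw [pow_succ, h3, one_mul] at h4; exact h4
    rw [hn1, mul_one] at hconj
    obtain ⟨q, hq, hqz⟩ := C.mem_cent_w (mul_inv_eq_iff_eq_mul.1 hconj)
    have hxa : C.s * x * C.s = C.F (e0 * t0) := by
      show C.s * (C.s * C.F e0 * C.s * C.F t0) * C.s = _
      rw [map_mul]
      calc C.s * (C.s * C.F e0 * C.s * C.F t0) * C.s = (C.s * C.s) * C.F e0 * (C.s * C.F t0 * C.s) := by group
        _ = _ := by rw [C.ss, one_mul, C.st]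
    have hqe : q * (e0 * t0) = e0 * t0 * q := C.F_comm.1 (by
      rw [← hxa, show C.F q = C.s * (a : G) * C.s by rw [← hq, C.sconj_sconj]]
      exact C.sconj_comm (mem_centralizer_singleton_iff.1 a.2))
    obtain ⟨k, b, rfl⟩ := cent_et q hqz hqe
    refine ⟨k, 0, ?_⟩
    have hpow : ∀ g : G, ∀ m : ℕ, C.s * g ^ m * C.s = (C.s * g * C.s) ^ m := fun g m => by
      rw [show C.s * g * C.s = C.s * g * C.s⁻¹ by rw [inv_of_sq C.ss], conj_pow, inv_of_sq C.ss]
    have ea : a = wC ^ (k : ℕ) * xC ^ (b : ℕ) := by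
      refine Subtype.ext ?_
      rw [Subgroup.coe_mul, SubmonoidClass.coe_pow, SubmonoidClass.coe_pow, ← hq, map_mul, map_pow, map_pow,
        C.sconj_mul, hpow, hpow, C.sz, ← hxa, C.sconj_sconj]
    rw [ea, map_mul, map_pow, map_pow, hπx, one_pow, mul_one, one_pow, mul_one]
  have hself : centralizer (zpowers wb : Set (Cx ⧸ zpowers xC)) = zpowers wb := by
    refine le_antisymm (fun b hb => ?_) (fun b hb => ?_)
    · obtain ⟨a, rfl⟩ := QuotientGroup.mk'_surjective _ b
      obtain ⟨k, m, e⟩ := hcw a ((mem_centralizer_iff.1 hb) wb (mem_zpowers _)).symm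
      rw [e, one_pow, mul_one]
      exact pow_mem (mem_zpowers _) _
    · rw [mem_centralizer_iff]
      rintro c ⟨m, rfl⟩
      obtain ⟨l, rfl⟩ := hb
      exact (Commute.zpow_zpow_self wb m l).eq
  have hno : ∀ {Q : Type} [Group Q] (q : (Cx ⧸ zpowers xC) →* Q), (∀ p : Q, p ^ 4 = 1 → p * p = 1) →
      q wb ≠ 1 → False := by
    intro Q _ q hQ hne
    have h1 : q (ū * ū) = 1 := by
      rw [map_mul]; exact hQ _ (by rw [← map_pow, hu4, map_one])
    have h2 := congrArg q hiw
    rw [map_mul, map_mul, map_inv, map_inv, h1, one_mul, inv_one, mul_one] at h2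
    have h3 : q wb ^ 3 = 1 := by rw [← map_pow, ← hwo, pow_orderOf_eq_one, map_one]
    rw [pow_succ, pow_two] at h3
    nth_rewrite 2 [h2] at h3
    rw [mul_inv_cancel, one_mul] at h3
    exact hne h3
  rcases Cfsg.Agent.S3331.result (zpowers wb) (by rw [Nat.card_zpowers, hwo]) hself with
    ⟨N, hN, -, hco, hq⟩ | ⟨N, hN, -, h2, ⟨eA⟩⟩ | ⟨⟨eL⟩⟩
  · have hwN : wb ∉ N := fun h => by
      have h3 : 3 ∣ Nat.card N := by rw [← hwo, ← orderOf_mk wb h]; exact orderOf_dvd_natCard _
      exact ((Nat.Prime.coprime_iff_not_dvd Nat.prime_three).1 hco.symm) h3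
    rcases hq with hq | ⟨⟨eS⟩⟩
    · haveI : Fact (Nat.Prime 3) := ⟨Nat.prime_three⟩
      have eC : (Cx ⧸ zpowers xC) ⧸ N ≃* Multiplicative (ZMod 3) := mulEquivOfPrimeCardEq hq (by
        rw [Nat.card_eq_fintype_card, Fintype.card_multiplicative, ZMod.card])
      refine hno (eC.toMonoidHom.comp (QuotientGroup.mk' N)) quot_three ?_
      rw [MonoidHom.comp_apply, MulEquiv.coe_toMonoidHom, Ne, MulEquiv.map_eq_one_iff]
      exact fun h => hwN ((QuotientGroup.eq_one_iff _).1 h)
    · refine hno (eS.toMonoidHom.comp (QuotientGroup.mk' N)) quot_small.1 ?_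
      rw [MonoidHom.comp_apply, MulEquiv.coe_toMonoidHom, Ne, MulEquiv.map_eq_one_iff]
      exact fun h => hwN ((QuotientGroup.eq_one_iff _).1 h)
  · have hwN : wb ∉ N := fun h => by
      have h' := h2 wb h
      rw [← orderOf_dvd_iff_pow_eq_one, hwo] at h'
      norm_num at h'
    refine hno (eA.toMonoidHom.comp (QuotientGroup.mk' N))
      (fun p hp => Subtype.ext (quot_small.2 p.1 p.2 (by rw [← SubmonoidClass.coe_pow, hp]; rfl))) ?_
    rw [MonoidHom.comp_apply, MulEquiv.coe_toMonoidHom, Ne, MulEquiv.map_eq_one_iff]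
    exact fun h => hwN ((QuotientGroup.eq_one_iff _).1 h)
  -- the case of `PSL(2,7)`
  obtain ⟨hcu, φ, hφ⟩ := psl7_four (eL ū) (by rw [← map_pow, hu4, map_one])
    (by rw [← map_mul, Ne, MulEquiv.map_eq_one_iff]; exact hib)
  obtain ⟨c, hc⟩ := QuotientGroup.mk'_surjective _ (eL.symm φ)
  have hci : π c * ū * (π c)⁻¹ = ū⁻¹ := by
    apply eL.injective
    rw [map_mul, map_mul, map_inv, map_inv, show π c = eL.symm φ from hc, MulEquiv.apply_symm_apply]
    exact hφ
  -- no inverting element sends `t` to `t x^even`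
  have hclaim : ∀ c : Cx, π c * ū * (π c)⁻¹ = ū⁻¹ → ∀ n : ℕ, Even n → (c : G) * t * (c : G)⁻¹ = t * x ^ n →
      False := by
    intro c hc n hn hct
    have hn2 : x ^ n = 1 ∨ x ^ n = j := by
      obtain ⟨m, rfl⟩ := hn
      rw [← two_mul, pow_mul, pow_two, xx]
      rcases Nat.even_or_odd m with ⟨a, rfl⟩ | ⟨a, rfl⟩
      · left; rw [← two_mul, pow_mul, pow_two, jj, one_pow]
      · right; rw [pow_add, pow_mul, pow_two, jj, one_pow, one_mul, pow_one]
    obtain ⟨d, hd, hdt⟩ : ∃ d : Cx, π d = π c ∧ (d : G) * t = t * d := by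
      rcases hn2 with h | h <;> rw [h] at hct
      · exact ⟨c, rfl, by rw [mul_one] at hct; exact mul_inv_eq_iff_eq_mul.1 hct⟩
      · refine ⟨xC⁻¹ * c, by rw [map_mul, map_inv, hπx, inv_one, one_mul], ?_⟩
        rw [Subgroup.coe_mul, Subgroup.coe_inv, show (xC : G) = x from rfl]
        have e : x * t * x⁻¹ = t * j := by
          rw [hx, mul_inv_rev, ir, show r * t * t * (t⁻¹ * r) = r * t * r by group, rtr]
        calc x⁻¹ * (c : G) * t = x⁻¹ * ((c : G) * t * (c : G)⁻¹) * c := by group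
          _ = x⁻¹ * (x * t * x⁻¹) * c := by rw [hct, e]
          _ = _ := by group
    rw [← hd] at hc
    have hdj : (d : G) * j = j * d := by
      rw [← xx]
      have h := mem_centralizer_singleton_iff.1 d.2
      exact (Commute.mul_right h h).eq
    obtain ⟨q, hq, hdq | hdq⟩ := hS _ hdt
    swap
    · rw [hdq] at hdj
      refine no_swap.2 q (C.F_inj ?_)
      rw [map_mul, map_mul]
      calc C.F q * C.F j0 = C.s * C.s * (C.F q * C.F j0) := by rw [C.ss, one_mul]
        _ = C.s * (C.s * C.F q * j) := by rw [hj]; group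
        _ = C.s * (j * (C.s * C.F q)) := by rw [hdj]
        _ = C.s * C.F j0 * C.s * C.F q := by rw [hj]; group
        _ = _ := by rw [C.sjs hS]
    obtain ⟨a, b, m, dd, rfl⟩ := cent_tj q hq (C.F_comm.1 (hdq ▸ hdj))
    have hjx : C.F (w0 ^ (a : ℕ) * i0 ^ (b : ℕ) * j0 ^ (m : ℕ)) * x =
        x * C.F (w0 ^ (a : ℕ) * i0 ^ (b : ℕ) * j0 ^ (m : ℕ)) := by
      rw [map_mul, map_mul, map_pow, map_pow, map_pow]
      have hix : i * x = x * i := by rw [← uu]; exact (Commute.mul_left hux hux).eq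
      exact (((Commute.pow_left hwx _).mul_left (Commute.pow_left hix _)).mul_left
        (Commute.pow_left (show Commute (C.F j0) x from hxj.symm) _)).eq
    have hdd : dd = 0 := by
      fin_cases dd
      · rfl
      · exfalso
        have hdx := mem_centralizer_singleton_iff.1 d.2
        rw [hdq, map_mul, show C.F (t0 ^ ((⟨1, by norm_num⟩ : Fin 2) : ℕ)) = t by simp [ht]] at hdx
        set p := C.F (w0 ^ (a : ℕ) * i0 ^ (b : ℕ) * j0 ^ (m : ℕ)) with hp
        rw [mul_assoc t p x, hjx, ← mul_assoc t x p, ← mul_assoc x t p] at hdx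
        have h' : t * x = x * t := mul_right_cancel hdx
        have h1 : x⁻¹ = x := by rw [← txt, h', mul_assoc, tt, mul_one]
        have h2 : x * x = 1 := by nth_rewrite 1 [← h1]; exact inv_mul_cancel x
        rw [xx] at h2
        exact rel_facts.2.2.2.2.2.2.2.2.2.2.2.2.2.2.2.2.2.2.1 (C.F_inj (h2.trans (map_one C.F).symm))
    subst hdd
    rw [Fin.val_zero, pow_zero, one_mul, map_mul, map_mul, map_pow, map_pow, map_pow] at hdq
    have hd' : π d = wb ^ (a : ℕ) * (ū * ū) ^ (b : ℕ) := by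
      have hjC : j ∈ Cx := mem_centralizer_singleton_iff.2 hxj.symm
      have e : d = wC ^ (a : ℕ) * (uC * uC) ^ (b : ℕ) * (xC * xC) ^ (m : ℕ) := by
        refine Subtype.ext ?_
        simp only [Subgroup.coe_mul, SubmonoidClass.coe_pow]
        show (d : G) = C.F w0 ^ (a : ℕ) * (u * u) ^ (b : ℕ) * (x * x) ^ (m : ℕ)
        rw [uu, xx]; exact hdq
      rw [e, map_mul, map_mul, map_pow, map_pow, map_pow, map_mul π xC xC, hπx, mul_one, one_pow, mul_one,
        map_mul]
    have hui : π d * (ū * ū) = (ū * ū) * π d := by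
      have e : π d * (ū * ū) * (π d)⁻¹ = (ū * ū)⁻¹ := by
        rw [show π d * (ū * ū) * (π d)⁻¹ = (π d * ū * (π d)⁻¹) * (π d * ū * (π d)⁻¹) by group, hc, mul_inv_rev]
      have h4 : (ū * ū)⁻¹ = ū * ū := inv_eq_of_mul_eq_one_right (by
        rw [← hu4]; simp only [pow_succ, pow_zero, one_mul, mul_assoc])
      rw [h4] at e
      exact mul_inv_eq_iff_eq_mul.1 e
    have hbc : Commute ((ū * ū) ^ (b : ℕ)) (ū * ū) := Commute.pow_self _ _
    have hwi : wb ^ (a : ℕ) * (ū * ū) = (ū * ū) * wb ^ (a : ℕ) := by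
      rw [hd'] at hui
      have h := (Commute.mul_left (show Commute (wb ^ (a : ℕ) * (ū * ū) ^ (b : ℕ)) (ū * ū) from hui) hbc.inv_left)
      simpa [mul_assoc] using h.eq
    have ha0 : wb ^ (a : ℕ) = 1 := by
      have h1 : (ū * ū) * wb ^ (a : ℕ) * (ū * ū)⁻¹ = (wb ^ (a : ℕ))⁻¹ := by rw [← conj_pow, hiw, inv_pow]
      rw [← hwi, mul_inv_cancel_right] at h1
      have h2 : wb ^ (a : ℕ) * wb ^ (a : ℕ) = 1 := by
        nth_rewrite 2 [h1]; exact mul_inv_cancel _
      have wo3 : wb ^ 3 = 1 := hwo ▸ pow_orderOf_eq_one wb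
      have h3 : (wb ^ (a : ℕ)) ^ 3 = 1 := by rw [← pow_mul, mul_comm, pow_mul, wo3, one_pow]
      rw [pow_succ, pow_two, h2, one_mul] at h3
      exact h3
    rw [hd', ha0, one_mul] at hc
    have hbu : Commute ((ū * ū) ^ (b : ℕ)) ū := Commute.pow_left (Commute.mul_left rfl rfl) _
    rw [hbu.eq, mul_inv_cancel_right] at hc
    exact hib (by nth_rewrite 2 [hc]; exact mul_inv_cancel ū)
  -- the image of `t`
  have htC : ∀ a : Cx, t * (a : G) * t ∈ Cx := fun a => by
    rw [mem_centralizer_singleton_iff]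
    have h := (Commute.inv_right (show Commute (a : G) x from mem_centralizer_singleton_iff.1 a.2)).eq
    rw [← txt] at h
    calc t * (a : G) * t * x = t * ((a : G) * (t * x * t)) * t := by
          rw [show t * ((a : G) * (t * x * t)) * t = t * (a : G) * t * x * (t * t) by group, tt, mul_one]
      _ = t * (t * x * t * a) * t := by rw [h]
      _ = (t * t) * x * (t * a * t) := by group
      _ = _ := by rw [tt, one_mul]
  set d : Cx := ⟨t * (c : G) * t, htC c⟩ * c⁻¹ with hd
  have hdG : (d : G) = t * (c : G) * t * (c : G)⁻¹ := rfl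
  have hct : (c : G) * t * (c : G)⁻¹ = t * (d : G) := by
    rw [hdG, show t * (t * (c : G) * t * (c : G)⁻¹) = (t * t) * ((c : G) * t * (c : G)⁻¹) by group, tt, one_mul]
  obtain ⟨m, hm⟩ := hcong (c * uC * c⁻¹) uC⁻¹ (by rw [map_mul, map_mul, map_inv, map_inv]; exact hci)
  simp only [Subgroup.coe_mul, Subgroup.coe_inv, show (uC : G) = u from rfl] at hm
  have hcx : (c : G) * x = x * c := mem_centralizer_singleton_iff.1 c.2
  have hxu : Commute x u := hux.symm
  obtain ⟨k, n, hdk⟩ : ∃ k : Fin 4, ∃ n : Fin 4, (d : G) = u ^ (k : ℕ) * x ^ (n : ℕ) := by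
    have hdu : π d * ū = ū * π d := by
      have hinv : π ⟨t * (c : G) * t, htC c⟩ * ū * (π ⟨t * (c : G) * t, htC c⟩)⁻¹ = ū⁻¹ := by
        rw [hū, ← map_inv, ← map_mul, ← map_mul, ← map_inv]
        have e : ((⟨t * (c : G) * t, htC c⟩ : Cx) * uC * (⟨t * (c : G) * t, htC c⟩ : Cx)⁻¹ : Cx) =
            xC ^ (m : ℕ) * uC⁻¹ := by
          refine Subtype.ext ?_
          simp only [Subgroup.coe_mul, Subgroup.coe_inv, SubmonoidClass.coe_pow]
          show t * (c : G) * t * u * (t * (c : G) * t)⁻¹ = x ^ (m : ℕ) * u⁻¹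
          calc t * (c : G) * t * u * (t * (c : G) * t)⁻¹ = t * ((c : G) * (t * u * t⁻¹) * (c : G)⁻¹) * t⁻¹ := by
                group
            _ = t * ((c : G) * u * (c : G)⁻¹)⁻¹ * t := by rw [it, tut]; group
            _ = t * (u⁻¹ * x ^ (m : ℕ))⁻¹ * t := by rw [hm]
            _ = (t * x * t⁻¹)⁻¹ ^ (m : ℕ) * (t * u * t) := by
                rw [inv_pow, conj_pow, mul_inv_rev, inv_inv, mul_inv_rev, mul_inv_rev, inv_inv]; group
            _ = _ := by rw [it, txt, inv_inv, tut]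
        rw [e, map_mul, map_pow, hπx, one_pow, one_mul]
      have hci' : (π c)⁻¹ * ū * π c = ū⁻¹ := by
        have h := congrArg (fun a => (π c)⁻¹ * a⁻¹ * π c) hci
        simp only [inv_inv] at h
        rw [← h]; group
      have e : π d * ū * (π d)⁻¹ = ū := by
        rw [show π d = π ⟨t * (c : G) * t, htC c⟩ * (π c)⁻¹ by rw [hd, map_mul, map_inv],
          show ∀ a : Cx ⧸ zpowers xC, a * (π c)⁻¹ * ū * (a * (π c)⁻¹)⁻¹ = a * ((π c)⁻¹ * ū * π c) * a⁻¹ from
            fun a => by group, hci']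
        have h := congrArg (·⁻¹) hinv
        simp only [mul_inv_rev, inv_inv] at h
        rw [mul_assoc]; exact h
      exact mul_inv_eq_iff_eq_mul.1 e
    have hk : ∃ k : Fin 4, π d = ū ^ (k : ℕ) := by
      rcases hcu (eL (π d)) ((map_mul eL _ _).symm.trans ((congrArg eL hdu).trans (map_mul eL _ _))) with h | h | h | h
      · exact ⟨0, eL.injective (by rw [h]; simp)⟩
      · exact ⟨1, eL.injective (by rw [h]; simp)⟩
      · exact ⟨2, eL.injective (by rw [h]; simp [pow_two])⟩
      · exact ⟨3, eL.injective (by rw [h]; simp [pow_succ])⟩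
    obtain ⟨k, hk⟩ := hk
    rw [hū, ← map_pow] at hk
    obtain ⟨n, hn⟩ := hcong _ _ hk
    rw [SubmonoidClass.coe_pow] at hn
    exact ⟨k, n, hn⟩
  rw [hdk] at hct
  -- classes
  have hxodd : ∀ n : Fin 4, Odd (n : ℕ) → t * x ^ (n : ℕ) = C.s * C.F (e0 * i0) * C.s ∨ t * x ^ (n : ℕ) = C.s * C.F e0 * C.s := by
    intro n hn
    fin_cases n
    · exact absurd hn (by decide)
    · left
      rw [pow_one, hx, ← mul_assoc, trt, hr, hj, ← C.sis hS, map_mul, C.sconj_mul]; rfl
    · exact absurd hn (by decide)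
    · right
      rw [show x ^ ((⟨3, by norm_num⟩ : Fin 4) : ℕ) = x⁻¹ from eq_inv_of_mul_eq_one_left (by
        show x ^ 3 * x = 1
        rw [← pow_succ]; exact x4), hx, mul_inv_rev, ir, ← mul_assoc, mul_inv_cancel, one_mul]
      rfl
  have hxeven : ∀ n : ℕ, Even n → x ^ n = 1 ∨ x ^ n = j := by
    intro n hn
    obtain ⟨m, rfl⟩ := hn
    rw [← two_mul, pow_mul, pow_two, xx]
    rcases Nat.even_or_odd m with ⟨a, rfl⟩ | ⟨a, rfl⟩
    · left; rw [← two_mul, pow_mul, pow_two, jj, one_pow]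
    · right; rw [pow_add, pow_mul, pow_two, jj, one_pow, one_mul, pow_one]
  have hconjt : IsConj t ((c : G) * t * (c : G)⁻¹) := isConj_iff.2 ⟨c, rfl⟩
  rcases Nat.even_or_odd (n : ℕ) with hn | hn
  · -- `n` even
    rcases Nat.even_or_odd (k : ℕ) with hk | hk
    · have hk2 : u ^ (k : ℕ) = 1 ∨ u ^ (k : ℕ) = i := by
        fin_cases k
        · exact Or.inl (pow_zero u)
        · exact absurd hk (by decide)
        · exact Or.inr ((pow_two u).trans uu)
        · exact absurd hk (by decide)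
      rcases hk2 with h | h <;> rw [h] at hct
      · rw [one_mul] at hct; exact hclaim c hci _ hn hct
      · have hci' : π (c * uC) * ū * (π (c * uC))⁻¹ = ū⁻¹ := by
          rw [map_mul, ← hū, show π c * ū * ū * (π c * ū)⁻¹ = π c * ū * (π c)⁻¹ by group, hci]
        have hcii : (c : G) * i * (c : G)⁻¹ = i * x ^ (2 * (m : ℕ)) := by
          rw [← uu, show (c : G) * (u * u) * (c : G)⁻¹ = ((c : G) * u * (c : G)⁻¹) * ((c : G) * u * (c : G)⁻¹) by group,
            hm, two_mul, pow_add]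
          have hc' : Commute (x ^ (m : ℕ)) u⁻¹ := (hxu.inv_right).pow_left _
          calc u⁻¹ * x ^ (m : ℕ) * (u⁻¹ * x ^ (m : ℕ)) = u⁻¹ * (x ^ (m : ℕ) * u⁻¹) * x ^ (m : ℕ) := by group
            _ = (u⁻¹ * u⁻¹) * (x ^ (m : ℕ) * x ^ (m : ℕ)) := by rw [hc'.eq]; group
            _ = _ := by
              rw [show u⁻¹ * u⁻¹ = u * u by rw [← mul_inv_rev, uu]; exact inv_of_sq ii]
        refine hclaim _ hci' ((n : ℕ) + 2 * (m : ℕ)) (hn.add (even_two_mul _)) ?_
        rw [Subgroup.coe_mul, show (uC : G) = u from rfl,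
          show (c : G) * u * t * ((c : G) * u)⁻¹ = (c : G) * (u * t * u⁻¹) * (c : G)⁻¹ by group,
          show u * t * u⁻¹ = t * i by
            rw [hu, mul_inv_rev, it, ie, show e * t * t * (t * e) = e * (t * t) * t * e by group, tt, mul_one, ete],
          show (c : G) * (t * i) * (c : G)⁻¹ = ((c : G) * t * (c : G)⁻¹) * ((c : G) * i * (c : G)⁻¹) by group,
          hct, hcii, pow_add]
        have hxi : Commute (x ^ (n : ℕ)) i := by rw [← uu]; exact ((hxu.mul_right hxu)).pow_left _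
        calc t * (i * x ^ (n : ℕ)) * (i * x ^ (2 * (m : ℕ))) = t * i * (x ^ (n : ℕ) * i) * x ^ (2 * (m : ℕ)) := by
              group
          _ = t * (i * i) * (x ^ (n : ℕ) * x ^ (2 * (m : ℕ))) := by rw [hxi.eq]; group
          _ = _ := by rw [ii, mul_one]
    · have hk2 : t * u ^ (k : ℕ) = C.F (e0 * i0) ∨ t * u ^ (k : ℕ) = C.F e0 := by
        fin_cases k
        · exact absurd hk (by decide)
        · left
          rw [pow_one, hu, ← mul_assoc, show t * e * t = e * i by
            rw [show t * e * t = t * (e * t * e) * e by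
              rw [show t * (e * t * e) * e = t * e * t * (e * e) by group, ee, mul_one],
              ete, ← mul_assoc, tt, one_mul, ei], map_mul]
        · exact absurd hk (by decide)
        · right
          rw [show u ^ ((⟨3, by norm_num⟩ : Fin 4) : ℕ) = u⁻¹ from eq_inv_of_mul_eq_one_left (by
            show u ^ 3 * u = 1
            rw [← pow_succ, show u ^ (3 + 1) = (u * u) * (u * u) by simp only [pow_succ, pow_zero, one_mul, mul_assoc],
              uu, ii]), hu, mul_inv_rev, ie, ← mul_assoc, mul_inv_cancel, one_mul]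
      rw [hct, ← mul_assoc] at hconjt
      rcases hk2 with h | h <;> rw [h] at hconjt <;> rcases hxeven _ hn with h' | h' <;> rw [h'] at hconjt
      · rw [mul_one] at hconjt; exact C.t_ne_chart hS (by simp) hconjt
      · rw [hj, ← map_mul] at hconjt; exact C.t_ne_chart hS (by simp) hconjt
      · rw [mul_one] at hconjt; exact C.t_ne_chart hS (by simp) hconjt
      · rw [hj, ← map_mul] at hconjt; exact C.t_ne_chart hS (by simp) hconjt
  -- `n` odd
  have hte : t * u ^ (k : ℕ) = (u ^ (k : ℕ))⁻¹ * t := by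
    have h : t * u ^ (k : ℕ) * t⁻¹ = (u ^ (k : ℕ))⁻¹ := by rw [← conj_pow, it, tut, inv_pow]
    exact mul_inv_eq_iff_eq_mul.1 h
  rcases Nat.even_or_odd (k : ℕ) with hk | hk
  · have hk2 : u ^ (k : ℕ) = 1 ∨ u ^ (k : ℕ) = i := by
      fin_cases k
      · exact Or.inl (pow_zero u)
      · exact absurd hk (by decide)
      · exact Or.inr ((pow_two u).trans uu)
      · exact absurd hk (by decide)
    rw [hct] at hconjt
    rcases hk2 with h | h <;> rw [h] at hconjt <;> rcases hxodd n hn with h' | h'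
    · rw [one_mul, h'] at hconjt; exact C.t_ne_swap hS (by simp) hconjt
    · rw [one_mul, h'] at hconjt; exact C.t_ne_swap hS (by simp) hconjt
    · rw [← mul_assoc, ti, mul_assoc, h', hi, ← C.sjs hS, ← C.sconj_mul, ← map_mul,
        show j0 * (e0 * i0) = e0 * i0 * j0 by decide +kernel] at hconjt
      exact C.t_ne_swap hS (by simp) hconjt
    · rw [← mul_assoc, ti, mul_assoc, h', hi, ← C.sjs hS, ← C.sconj_mul, ← map_mul,
        show j0 * e0 = e0 * j0 by decide +kernel] at hconjt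
      exact C.t_ne_swap hS (by simp) hconjt
  -- both odd: the image of `e`
  have hce : (c : G) * e * (c : G)⁻¹ = u⁻¹ * (u ^ (k : ℕ))⁻¹ * (x ^ (m : ℕ) * (t * x ^ (n : ℕ))) := by
    rw [show e = u * t by rw [hu, mul_assoc, tt, mul_one],
      show (c : G) * (u * t) * (c : G)⁻¹ = ((c : G) * u * (c : G)⁻¹) * ((c : G) * t * (c : G)⁻¹) by group,
      hm, hct, ← mul_assoc t, hte]
    have hc' : Commute (x ^ (m : ℕ)) (u ^ (k : ℕ))⁻¹ := ((hxu.pow_right _).inv_right).pow_left _
    calc u⁻¹ * x ^ (m : ℕ) * ((u ^ (k : ℕ))⁻¹ * t * x ^ (n : ℕ))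
        = u⁻¹ * (x ^ (m : ℕ) * (u ^ (k : ℕ))⁻¹) * (t * x ^ (n : ℕ)) := by group
      _ = _ := by rw [hc'.eq]; group
  have hev : u⁻¹ * (u ^ (k : ℕ))⁻¹ = 1 ∨ u⁻¹ * (u ^ (k : ℕ))⁻¹ = i := by
    rw [← mul_inv_rev, ← pow_succ]
    fin_cases k
    · exact absurd hk (by decide)
    · right
      show (u ^ (1 + 1))⁻¹ = i
      rw [pow_two, uu, inv_of_sq ii]
    · exact absurd hk (by decide)
    · left
      show (u ^ (3 + 1))⁻¹ = 1
      rw [show u ^ (3 + 1) = (u * u) * (u * u) by simp only [pow_succ, pow_zero, one_mul, mul_assoc], uu, ii, inv_one]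
  have hxt : x ^ (m : ℕ) * t = t * (x ^ (m : ℕ))⁻¹ := by
    have h : t * x ^ (m : ℕ) * t⁻¹ = (x ^ (m : ℕ))⁻¹ := by rw [← conj_pow, it, txt, inv_pow]
    rw [← h, it, show t * (t * x ^ (m : ℕ) * t) = (t * t) * x ^ (m : ℕ) * t by group, tt, one_mul]
  rw [← mul_assoc (x ^ (m : ℕ)), hxt, mul_assoc t] at hce
  have hconje : IsConj e ((c : G) * e * (c : G)⁻¹) := isConj_iff.2 ⟨c, rfl⟩
  rcases Nat.even_or_odd (m : ℕ) with hme | hmo
  swap
  · -- `m` odd: `e` would be conjugate to `t`
    have hev' : (x ^ (m : ℕ))⁻¹ * x ^ (n : ℕ) = 1 ∨ (x ^ (m : ℕ))⁻¹ * x ^ (n : ℕ) = j := by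
      have e : (x ^ (m : ℕ))⁻¹ = x ^ (3 * (m : ℕ)) := inv_eq_of_mul_eq_one_right (by
        rw [← pow_add, show (m : ℕ) + 3 * m = 4 * m by ring, pow_mul, x4, one_pow])
      rw [e, ← pow_add]
      exact hxeven _ ((Odd.mul (by decide) hmo).add_odd hn)
    have htj : IsConj t (t * j) := isConj_iff.2 ⟨r, by rw [ir, rtr]⟩
    have hti' : IsConj t (i * t) := isConj_iff.2 ⟨e, by rw [ie, ete, ti]⟩
    have htij : IsConj t (i * (t * j)) := by
      refine hti'.trans (isConj_iff.2 ⟨r, ?_⟩)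
      rw [ir, show r * (i * t) * r = (r * i) * t * r by group, ri, show i * r * t * r = i * (r * t * r) by group, rtr]
    have hcl : IsConj t ((c : G) * e * (c : G)⁻¹) := by
      rw [hce]
      rcases hev with h | h <;> rcases hev' with h' | h' <;> rw [h, h']
      · rw [one_mul, mul_one]
      · rw [one_mul]; exact htj
      · rw [mul_one]; exact hti'
      · exact htij
    exact C.t_ne_chart hS (a := e0) (by simp) (hcl.trans hconje.symm)
  -- `m` even: `c` fixes `i` and maps `e` into `r⟨i, j⟩`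
  have hci2 : (c : G) * i * (c : G)⁻¹ = i := by
    rw [← uu, show (c : G) * (u * u) * (c : G)⁻¹ = ((c : G) * u * (c : G)⁻¹) * ((c : G) * u * (c : G)⁻¹) by group, hm]
    have hc' : Commute (x ^ (m : ℕ)) u⁻¹ := (hxu.inv_right).pow_left _
    calc u⁻¹ * x ^ (m : ℕ) * (u⁻¹ * x ^ (m : ℕ)) = u⁻¹ * (x ^ (m : ℕ) * u⁻¹) * x ^ (m : ℕ) := by group
      _ = (u * u)⁻¹ * (x ^ (m : ℕ) * x ^ (m : ℕ)) := by rw [hc'.eq]; group
      _ = u * u := by
        obtain ⟨m', hm'⟩ := hme
        rw [← pow_add, hm', show m' + m' + (m' + m') = 4 * m' by ring, pow_mul, x4, one_pow, mul_one, uu,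
          inv_of_sq ii]
  obtain ⟨a, ρ, hρ, ha, hce'⟩ : ∃ a ρ : G, (ρ = C.s * C.F e0 * C.s ∨ ρ = C.s * C.F (e0 * i0) * C.s) ∧
      (a = 1 ∨ a = i) ∧ (c : G) * e * (c : G)⁻¹ = a * ρ := by
    refine ⟨u⁻¹ * (u ^ (k : ℕ))⁻¹, _, ?_, hev, hce⟩
    have e : (x ^ (m : ℕ))⁻¹ * x ^ (n : ℕ) = x ^ (((3 * (m : ℕ) + n) % 4)) := by
      rw [← pow_eq_pow_mod _ x4, pow_add]
      congr 1
      exact inv_eq_of_mul_eq_one_right (by
        rw [← pow_add, show (m : ℕ) + 3 * m = 4 * m by ring, pow_mul, x4, one_pow])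
    have hodd : Odd ((3 * (m : ℕ) + n) % 4) := by
      rw [Nat.odd_iff, Nat.mod_mod_of_dvd _ (by norm_num)]
      exact Nat.odd_iff.1 ((hme.mul_left 3).add_odd hn)
    rcases hxodd ⟨_, Nat.mod_lt _ (by norm_num)⟩ hodd with h | h
    · right; rw [e]; exact h
    · left; rw [e]; exact h
  -- compare the centralisers
  set K1 := centralizer ({i} : Set G) ⊓ centralizer ({e} : Set G) with hK1
  set K2 := centralizer ({i} : Set G) ⊓ centralizer ({ρ} : Set G) with hK2
  set K3 := centralizer ({i} : Set G) ⊓ centralizer ({j} : Set G) with hK3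
  have conjK : ∀ g a b a' b' : G, g * a * g⁻¹ = a' → g * b * g⁻¹ = b' →
      Nat.card (centralizer ({a'} : Set G) ⊓ centralizer ({b'} : Set G) : Subgroup G) =
        Nat.card (centralizer ({a} : Set G) ⊓ centralizer ({b} : Set G) : Subgroup G) := by
    intro g a b a' b' h1 h2
    rw [← h1, ← h2]
    refine (Nat.card_congr (Equiv.subtypeEquiv (MulAut.conj g).toEquiv fun y => ?_)).symm
    rw [mem_inf, mem_inf, mem_centralizer_singleton_iff, mem_centralizer_singleton_iff,
      mem_centralizer_singleton_iff, mem_centralizer_singleton_iff]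
    have key : ∀ a : G, y * a = a * y ↔
        MulAut.conj g y * (g * a * g⁻¹) = g * a * g⁻¹ * MulAut.conj g y := by
      intro a
      show _ ↔ g * y * g⁻¹ * (g * a * g⁻¹) = g * a * g⁻¹ * (g * y * g⁻¹)
      rw [show g * y * g⁻¹ * (g * a * g⁻¹) = g * (y * a) * g⁻¹ by group,
        show g * a * g⁻¹ * (g * y * g⁻¹) = g * (a * y) * g⁻¹ by group, mul_left_inj, mul_right_inj]
    exact Iff.and (key a) (key b)
  have hρi : ρ * i = i * ρ := by
    rcases hρ with rfl | rfl <;> rw [hi, ← C.sjs hS] <;> refine C.sconj_comm (C.F_comm.2 ?_) <;> decide +kernel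
  have hsame : centralizer ({i} : Set G) ⊓ centralizer ({a * ρ} : Set G) = K2 := by
    ext y
    rw [hK2, mem_inf, mem_inf, mem_centralizer_singleton_iff, mem_centralizer_singleton_iff,
      mem_centralizer_singleton_iff]
    refine and_congr_right fun hy => ?_
    rcases ha with rfl | rfl
    · rw [one_mul]
    · constructor <;> intro h
      · have h' := Commute.mul_right hy h
        rw [← mul_assoc, ii, one_mul] at h'
        exact h'.eq
      · exact (Commute.mul_right hy h).eq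
  have h12 : Nat.card K1 = Nat.card K2 := by
    rw [← hsame]
    exact (conjK c i e i (a * ρ) hci2 hce').symm
  have h23 : Nat.card K2 = Nat.card K3 := by
    have key : ∀ a ∈ [e0, e0 * i0], ∀ ρ, ρ = C.s * C.F a * C.s → ∃ g, g * i * g⁻¹ = i ∧ g * j * g⁻¹ = ρ := by
      intro a ha ρ hρ
      obtain ⟨q, hq, hq1⟩ := small_classes.1 a (by
        simp only [List.mem_cons, List.not_mem_nil, or_false] at ha ⊢; tauto)
      refine ⟨C.s * C.F q * C.s, ?_, ?_⟩
      · rw [hi, ← C.sjs hS, mul_inv_eq_iff_eq_mul]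
        exact C.sconj_comm (C.F_comm.2 (small_classes.2.2 q hq1).1)
      · rw [hj, ← C.sis hS, mul_inv_eq_iff_eq_mul, hρ, ← C.sconj_mul, ← C.sconj_mul, ← map_mul, ← map_mul,
          mul_inv_eq_iff_eq_mul.1 hq]
    obtain ⟨g, hg1, hg2⟩ : ∃ g, g * i * g⁻¹ = i ∧ g * j * g⁻¹ = ρ := by
      rcases hρ with h | h
      · exact key e0 (by simp) ρ h
      · exact key _ (by simp) ρ h
    exact conjK g i j i ρ hg1 hg2
  have h32 : 32 ∣ Nat.card K3 := by
    refine C.dvd_32 hS _ (fun q hq => ?_) ?_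
    · rw [mem_inf, mem_centralizer_singleton_iff, mem_centralizer_singleton_iff]
      have key : ∀ p ∈ QL, p * i0 = i0 * p ∧ p * j0 = j0 * p := by decide +kernel
      exact ⟨C.F_comm.2 (key q hq).1, C.F_comm.2 (key q hq).2⟩
    · rw [mem_inf, mem_centralizer_singleton_iff, mem_centralizer_singleton_iff]
      exact ⟨ri, rj⟩
  -- compare with the four-group
  obtain ⟨c1, c2, c3⟩ := conj24
  have hK1' : centralizer ({C.F (1, swap 0 1 * swap 2 3)} : Set G) ⊓
      centralizer ({C.F (1, swap 0 3 * swap 1 2)} : Set G) = C.CV := by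
    ext y
    rw [C.mem_CV, mem_inf, mem_centralizer_singleton_iff, mem_centralizer_singleton_iff, c3, map_mul]
    show (y * C.F u0 = C.F u0 * y ∧ y * (C.F u0 * C.F u1) = C.F u0 * C.F u1 * y) ↔ _
    constructor
    · rintro ⟨h1, h2⟩
      refine ⟨h1, ?_⟩
      have h := (Commute.mul_right (Commute.inv_right (show Commute y (C.F u0) from h1)) h2).eq
      rwa [inv_mul_cancel_left] at h
    · rintro ⟨h1, h2⟩
      exact ⟨h1, (Commute.mul_right h1 h2).eq⟩
  have h0 : Nat.card C.CV = Nat.card K1 := by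
    rw [← hK1']
    exact conjK (C.F (1, swap 2 4)) i e _ _ (by rw [hi, ← map_inv, ← map_mul, ← map_mul, c1])
      (by rw [he, ← map_inv, ← map_mul, ← map_mul, c2])
  rw [← h23, ← h12, ← h0] at h32
  rcases C.cv_card (C.eps_true hS) with h | h | h <;> rw [h] at h32 <;> norm_num at h32

end Cfg

end Cfsg.Agent.S8Three
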