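import Cfsg.Agent.Lib.S8Three.Model

/-!
Finite facts about pairs of permutations of five points.
-/

set_option autoImplicit false
set_option maxRecDepth 20000
set_option synthInstance.maxSize 4096

namespace Cfsg.Agent.S8Three

open Equiv

/-- Permutations of five points. -/
abbrev P5t := Perm (Fin 5)

/-- `(01)(34)` -/
def i5 : P5t := swap 0 1 * swap 3 4
/-- `(03)(14)` -/
def e5 : P5t := swap 0 3 * swap 1 4
/-- `(34)` -/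
def t5 : P5t := swap 3 4

/-- The parity representative in `⟨(34)⟩`. -/
def uu5 (σ : P5t) : P5t := if Perm.sign σ = 1 then 1 else t5

/-- The three generators of `Alt(5)`. -/
def gen5 : Fin 3 → P5t := ![i5, e5, w5]

/-- A word for every element of `Alt(5)`. -/
def words5 : List (List (Fin 3)) := [
  [], [0], [1], [2], [0, 1], [0, 2], [1, 2], [2, 0], [2, 1], [2, 2], [0, 1, 2], [0, 2, 1], [1, 2, 0],
  [1, 2, 1], [1, 2, 2], [2, 0, 1], [2, 1, 2], [2, 2, 1], [0, 1, 2, 1], [0, 2, 1, 2], [1, 2, 0, 1], [1,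
  2, 1, 2], [1, 2, 2, 1], [2, 0, 1, 2], [2, 1, 2, 0], [2, 1, 2, 1], [2, 1, 2, 2], [2, 2, 1, 2], [0, 1,
  2, 1, 2], [0, 2, 1, 2, 0], [0, 2, 1, 2, 1], [0, 2, 1, 2, 2], [1, 2, 0, 1, 2], [1, 2, 1, 2, 0], [1,
  2, 1, 2, 1], [1, 2, 1, 2, 2], [1, 2, 2, 1, 2], [2, 0, 1, 2, 1], [2, 1, 2, 0, 1], [2, 1, 2, 1, 2],
  [2, 1, 2, 2, 1], [2, 2, 1, 2, 1], [0, 1, 2, 1, 2, 0], [0, 1, 2, 1, 2, 1], [0, 1, 2, 1, 2, 2], [0, 2,
  1, 2, 0, 1], [0, 2, 1, 2, 1, 2], [0, 2, 1, 2, 2, 1], [1, 2, 0, 1, 2, 1], [1, 2, 1, 2, 2, 1], [1, 2,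
  2, 1, 2, 1], [2, 0, 1, 2, 1, 2], [2, 1, 2, 0, 1, 2], [2, 1, 2, 1, 2, 2], [2, 2, 1, 2, 1, 2], [0, 1,
  2, 1, 2, 2, 1], [0, 2, 1, 2, 0, 1, 2], [0, 2, 1, 2, 1, 2, 2], [1, 2, 0, 1, 2, 1, 2], [1, 2, 2, 1, 2,
  1, 2]]

theorem words5_cover : ∀ σ : P5t, Perm.sign σ = 1 → ∃ w ∈ words5, (w.map gen5).prod = σ := by
  decide +kernel

theorem mem_of_gens5 (H : Subgroup P5t) (hi : i5 ∈ H) (he : e5 ∈ H) (hw : w5 ∈ H) {σ : P5t}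
    (hσ : Perm.sign σ = 1) : σ ∈ H := by
  obtain ⟨w, -, rfl⟩ := words5_cover σ hσ
  refine list_prod_mem fun x hx => ?_
  obtain ⟨k, -, rfl⟩ := List.mem_map.1 hx
  fin_cases k <;> assumption

theorem uu5_mul : ∀ σ τ : P5t, uu5 (σ * τ) = uu5 σ * uu5 τ := by decide +kernel

theorem uu5_facts : ∀ σ : P5t, Perm.sign (σ * uu5 σ) = 1 ∧ (uu5 σ = 1 ∨ uu5 σ = t5) ∧
    uu5 σ * uu5 σ = 1 ∧ Perm.sign (uu5 σ) = Perm.sign σ := by decide +kernel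

theorem uu5_vals : uu5 1 = 1 ∧ uu5 t5 = t5 ∧ Perm.sign i5 = 1 ∧ Perm.sign e5 = 1 ∧ Perm.sign w5 = 1 ∧
    Perm.sign t5 = -1 := by decide +kernel

theorem centre5 : ∀ σ : P5t, σ * i5 = i5 * σ → σ * e5 = e5 * σ → σ * w5 = w5 * σ → σ = 1 := by
  decide +kernel

theorem invol5 : ∀ σ : P5t, σ * σ = 1 → σ ≠ 1 →
    (Perm.sign σ = 1 → ∃ c : P5t, Perm.sign c = 1 ∧ c * i5 * c⁻¹ = σ) ∧
    (Perm.sign σ ≠ 1 → ∃ c : P5t, Perm.sign c = 1 ∧ c * t5 * c⁻¹ = σ) := by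
  decide +kernel

theorem three5 : ∀ a : Perm (Fin 3), a ∈ [1, c3, c3 * c3, swap 0 1, swap 0 1 * c3, swap 0 1 * (c3 * c3)] := by
  decide +kernel

end Cfsg.Agent.S8Three
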