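import Cfsg.Agent.Lib.S8Three.SmallK
import Cfsg.Agent.Lib.S8Three.SmallMFacts
import Mathlib.GroupTheory.SpecificGroups.Alternating

/-!
The subgroup `(A₅ × A₅).4` containing the local subgroups.
-/

set_option autoImplicit false
set_option linter.style.haveILetI false
set_option linter.unusedSectionVars false
set_option maxRecDepth 20000

namespace Cfsg.Agent.S8Three

open Equiv Subgroup

/-- Pairs of permutations of equal sign. -/
def K5 : Subgroup (P5t × P5t) where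
  carrier := {p | Perm.sign p.1 = Perm.sign p.2}
  one_mem' := by simp
  mul_mem' := by
    intro a b ha hb
    simp only [Set.mem_setOf_eq] at ha hb ⊢
    simp [ha, hb]
  inv_mem' := by
    intro a ha
    simp only [Set.mem_setOf_eq] at ha ⊢
    simp [ha]

theorem K5_uu {p : P5t × P5t} (hp : p ∈ K5) : uu5 p.1 = uu5 p.2 := by
  have h : Perm.sign p.1 = Perm.sign p.2 := hp
  unfold uu5; rw [h]

/-- Exchanging the two entries. -/
def swapK (p : K5) : K5 := ⟨(p.1.2, p.1.1), (show Perm.sign p.1.1 = Perm.sign p.1.2 from p.2).symm⟩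

/-- The pairs of even permutations. -/
def toK : alternatingGroup (Fin 5) × alternatingGroup (Fin 5) →* K5 where
  toFun a := ⟨((a.1 : P5t), (a.2 : P5t)), a.1.2.trans a.2.2.symm⟩
  map_one' := rfl
  map_mul' _ _ := rfl

theorem toK_inj : Function.Injective toK := fun a b h => by
  have h' := congrArg (fun p : K5 => (p : P5t × P5t)) h
  exact Prod.ext (Subtype.ext (congrArg Prod.fst h' :)) (Subtype.ext (congrArg Prod.snd h' :))

namespace Cfg

variable {G : Type*} [Group G] [Finite G] (C : Cfg G)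
include C

/-- The large part of the chart. -/
def Fb : P5t →* G := C.F.comp (MonoidHom.inr (Perm (Fin 3)) P5t)

/-- Its image under the swap. -/
def Pb : P5t →* G := (MulAut.conj C.s).toMonoidHom.comp C.Fb

theorem Pb_eq (σ : P5t) : C.Pb σ = C.s * C.Fb σ * C.s := by
  show C.s * C.Fb σ * C.s⁻¹ = _
  rw [inv_of_sq C.ss]

theorem Fb_inj : Function.Injective C.Fb := fun a b h => (congrArg Prod.snd (C.F_inj h) :)

theorem Pb_inj : Function.Injective C.Pb := (MulAut.conj C.s).injective.comp C.Fb_inj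

theorem s_Pb (σ : P5t) : C.s * C.Pb σ * C.s = C.Fb σ := by rw [C.Pb_eq, C.sconj_sconj]

theorem Pb_t : C.Pb t5 = C.F t0 := by rw [C.Pb_eq]; exact C.st

theorem Pb_uu (σ : P5t) : C.Pb (uu5 σ) = C.Fb (uu5 σ) := by
  rcases (uu5_facts σ).2.1 with h | h <;> rw [h]
  · rw [map_one, map_one]
  · exact C.Pb_t

variable (hS : C.Small)
include hS

theorem gens_comm {a b : P5t} (ha : a ∈ [i5, e5, w5]) (hb : b ∈ [i5, e5, w5]) :
    C.Fb a * C.Pb b = C.Pb b * C.Fb a := by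
  have pi : C.Pb i5 = C.F j0 := by rw [C.Pb_eq]; exact C.sis hS
  have pe : C.Pb e5 = C.r := C.Pb_eq e5
  have pw : C.Pb w5 = C.F z0 := by rw [C.Pb_eq]; exact C.sw
  simp only [List.mem_cons, List.not_mem_nil, or_false] at ha hb
  rcases ha with rfl | rfl | rfl <;> rcases hb with rfl | rfl | rfl <;> simp only [pi, pe, pw]
  · exact C.F_comm.2 (by decide +kernel)
  · exact (C.r_i hS).symm
  · exact C.F_comm.2 (by decide +kernel)
  · exact C.F_comm.2 (by decide +kernel)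
  · exact C.er_comm hS
  · exact C.F_comm.2 (by decide +kernel)
  · exact C.F_comm.2 (by decide +kernel)
  · show C.F w0 * (C.s * C.F e0 * C.s) = C.s * C.F e0 * C.s * C.F w0
    rw [← C.sz]; exact C.sconj_comm (C.F_comm.2 (by decide +kernel))
  · exact C.F_comm.2 (by decide +kernel)

theorem even_comm {a b : P5t} (ha : Perm.sign a = 1) (hb : Perm.sign b = 1) :
    C.Fb a * C.Pb b = C.Pb b * C.Fb a := by
  have h1 : ∀ g ∈ [i5, e5, w5], ∀ {a : P5t}, Perm.sign a = 1 → C.Fb a * C.Pb g = C.Pb g * C.Fb a :=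
    fun g hg a ha => mem_centralizer_singleton_iff.1 (mem_comap.1 (mem_of_gens5
      ((centralizer ({C.Pb g} : Set G)).comap C.Fb)
      (mem_centralizer_singleton_iff.2 (C.gens_comm hS (by simp) hg))
      (mem_centralizer_singleton_iff.2 (C.gens_comm hS (by simp) hg))
      (mem_centralizer_singleton_iff.2 (C.gens_comm hS (by simp) hg)) ha))
  exact (mem_centralizer_singleton_iff.1 (mem_comap.1 (mem_of_gens5
    ((centralizer ({C.Fb a} : Set G)).comap C.Pb)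
    (mem_centralizer_singleton_iff.2 (h1 _ (by simp) ha).symm)
    (mem_centralizer_singleton_iff.2 (h1 _ (by simp) ha).symm)
    (mem_centralizer_singleton_iff.2 (h1 _ (by simp) ha).symm) hb))).symm

theorem Pb_act (σ : P5t) {α : P5t} (hα : Perm.sign α = 1) :
    C.Pb σ * C.Fb α = C.Fb (uu5 σ * α * uu5 σ) * C.Pb σ := by
  obtain ⟨h1, -, h3, h4⟩ := uu5_facts σ
  have hc : Perm.sign (uu5 σ * α * uu5 σ) = 1 := by
    rw [map_mul, map_mul, hα, mul_one, ← map_mul, h3, map_one]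
  have hP : C.Pb σ = C.Pb (σ * uu5 σ) * C.Fb (uu5 σ) := by
    rw [← C.Pb_uu, ← map_mul, mul_assoc, h3, mul_one]
  calc C.Pb σ * C.Fb α = C.Pb (σ * uu5 σ) * (C.Fb (uu5 σ) * C.Fb α) := by rw [hP, mul_assoc]
    _ = C.Pb (σ * uu5 σ) * (C.Fb (uu5 σ * α * uu5 σ) * C.Fb (uu5 σ)) := by
        rw [← map_mul, ← map_mul, mul_assoc (uu5 σ * α), h3, mul_one]
    _ = C.Fb (uu5 σ * α * uu5 σ) * C.Pb σ := by
        rw [← mul_assoc, ← C.even_comm hS hc h1, mul_assoc, ← hP]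

/-- The homomorphism from the pairs of equal sign. -/
def Om : K5 →* G where
  toFun p := C.Fb (p.1.1 * uu5 p.1.1) * C.Pb p.1.2
  map_one' := by simp [uu5_vals.1]
  map_mul' p q := by
    obtain ⟨hq1, -, -, -⟩ := uu5_facts q.1.1
    obtain ⟨-, -, hp3, -⟩ := uu5_facts p.1.1
    show C.Fb (p.1.1 * q.1.1 * uu5 (p.1.1 * q.1.1)) * C.Pb (p.1.2 * q.1.2) =
      C.Fb (p.1.1 * uu5 p.1.1) * C.Pb p.1.2 * (C.Fb (q.1.1 * uu5 q.1.1) * C.Pb q.1.2)
    rw [mul_assoc (C.Fb (p.1.1 * uu5 p.1.1)), ← mul_assoc (C.Pb p.1.2), C.Pb_act hS _ hq1, ← K5_uu p.2,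
      mul_assoc (C.Fb (uu5 p.1.1 * (q.1.1 * uu5 q.1.1) * uu5 p.1.1)), ← map_mul C.Pb, ← mul_assoc,
      ← map_mul C.Fb]
    congr 2
    rw [uu5_mul]
    have hcomm : uu5 q.1.1 * uu5 p.1.1 = uu5 p.1.1 * uu5 q.1.1 := by
      rcases (uu5_facts p.1.1).2.1 with h | h <;> rcases (uu5_facts q.1.1).2.1 with h' | h' <;> rw [h, h'] <;> simp
    calc p.1.1 * q.1.1 * (uu5 p.1.1 * uu5 q.1.1) = p.1.1 * q.1.1 * (uu5 q.1.1 * uu5 p.1.1) := by rw [hcomm]
      _ = p.1.1 * (uu5 p.1.1 * uu5 p.1.1) * (q.1.1 * uu5 q.1.1) * uu5 p.1.1 := by rw [hp3]; group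
      _ = _ := by group

theorem Om_apply (p : K5) : C.Om hS p = C.Fb (p.1.1 * uu5 p.1.1) * C.Pb p.1.2 := rfl

theorem Om_swap (p : K5) : C.s * C.Om hS p * C.s = C.Om hS (swapK p) := by
  obtain ⟨h1, -, h3, -⟩ := uu5_facts p.1.1
  obtain ⟨h1', -, h3', -⟩ := uu5_facts p.1.2
  have huu : uu5 p.1.1 = uu5 p.1.2 := K5_uu p.2
  rw [C.Om_apply, C.Om_apply, C.sconj_mul, ← C.Pb_eq, C.s_Pb]
  show C.Pb (p.1.1 * uu5 p.1.1) * C.Fb p.1.2 = C.Fb (p.1.2 * uu5 p.1.2) * C.Pb p.1.1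
  calc C.Pb (p.1.1 * uu5 p.1.1) * C.Fb p.1.2
      = C.Pb (p.1.1 * uu5 p.1.1) * (C.Fb (p.1.2 * uu5 p.1.2) * C.Fb (uu5 p.1.2)) := by
        rw [← map_mul, mul_assoc p.1.2, h3', mul_one]
    _ = C.Fb (p.1.2 * uu5 p.1.2) * (C.Pb (p.1.1 * uu5 p.1.1) * C.Pb (uu5 p.1.1)) := by
        rw [← mul_assoc, ← C.even_comm hS h1' h1, mul_assoc, C.Pb_uu, huu]
    _ = _ := by rw [← map_mul, mul_assoc p.1.1, h3, mul_one]

theorem s_Om (p : K5) : C.s * C.Om hS p = C.Om hS (swapK p) * C.s := by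
  rw [← C.Om_swap hS, mul_assoc (C.s * C.Om hS p), C.ss, mul_one]

theorem Om_inj : Function.Injective (C.Om hS) := by
  rw [← MonoidHom.ker_eq_bot_iff, eq_bot_iff]
  intro p hp
  rw [MonoidHom.mem_ker, C.Om_apply] at hp
  obtain ⟨h1, -, h3, -⟩ := uu5_facts p.1.1
  set α := p.1.1 * uu5 p.1.1 with hα
  have hP : C.Pb p.1.2 = (C.Fb α)⁻¹ := eq_inv_of_mul_eq_one_right hp
  have hc : ∀ g : P5t, Perm.sign g = 1 → p.1.1 * g = g * p.1.1 := by
    intro g hg
    have h := C.Pb_act hS p.1.2 hg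
    rw [hP, ← K5_uu p.2, ← map_inv, ← map_mul, ← map_mul] at h
    have h' := C.Fb_inj h
    calc p.1.1 * g = p.1.1 * (uu5 p.1.1 * (uu5 p.1.1 * g * uu5 p.1.1) * α⁻¹) * α * uu5 p.1.1 := by
          rw [show uu5 p.1.1 * (uu5 p.1.1 * g * uu5 p.1.1) = uu5 p.1.1 * uu5 p.1.1 * g * uu5 p.1.1 by group, h3,
            one_mul, show g * uu5 p.1.1 * α⁻¹ = g * uu5 p.1.1 * α⁻¹ from rfl]
          calc p.1.1 * g = p.1.1 * g * (uu5 p.1.1 * uu5 p.1.1) := by rw [h3, mul_one]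
            _ = _ := by group
      _ = p.1.1 * uu5 p.1.1 * ((uu5 p.1.1 * g * uu5 p.1.1) * α⁻¹) * α * uu5 p.1.1 := by group
      _ = α * (α⁻¹ * g) * α * uu5 p.1.1 := by rw [← h', hα]
      _ = g * (p.1.1 * (uu5 p.1.1 * uu5 p.1.1)) := by rw [hα]; group
      _ = g * p.1.1 := by rw [h3, mul_one]
  have e1 : p.1.1 = 1 := centre5 _ (hc _ uu5_vals.2.2.1) (hc _ uu5_vals.2.2.2.1) (hc _ uu5_vals.2.2.2.2.1)
  rw [hα, e1, uu5_vals.1, mul_one, map_one, inv_one] at hP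
  have e2 : p.1.2 = 1 := C.Pb_inj (hP.trans (map_one C.Pb).symm)
  exact mem_bot.2 (Subtype.ext (Prod.ext e1 e2))

/-- The pair of the transpositions. -/
def tK : K5 := ⟨(t5, t5), rfl⟩

theorem Om_even (a b : P5t) (ha : Perm.sign a = 1) (hb : Perm.sign b = 1) :
    C.Om hS ⟨(a, b), ha.trans hb.symm⟩ = C.Fb a * C.Pb b := by
  rw [C.Om_apply]
  show C.Fb (a * uu5 a) * C.Pb b = _
  rw [show uu5 a = 1 by unfold uu5; rw [if_pos ha], mul_one]

theorem Om_tK : C.Om hS ⟨(t5, t5), rfl⟩ = C.F t0 := by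
  rw [C.Om_apply]
  show C.Fb (t5 * uu5 t5) * C.Pb t5 = _
  rw [uu5_vals.2.1, C.Pb_t, show t5 * t5 = 1 from swap_mul_self _ _, map_one, one_mul]

theorem s_not_Om (p : K5) : C.s ≠ C.Om hS p := by
  intro h
  have e : C.Om hS p * C.Om hS ⟨(w5, 1), uu5_vals.2.2.2.2.1.trans (map_one _).symm⟩ * (C.Om hS p)⁻¹ =
      C.Om hS ⟨(1, w5), (map_one _).trans uu5_vals.2.2.2.2.1.symm⟩ := by
    rw [← h, inv_of_sq C.ss, C.Om_swap]
    rfl
  rw [← map_inv, ← map_mul, ← map_mul] at e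
  have e' := congrArg (fun q : K5 => q.1.2) (C.Om_inj hS e)
  simp only [Subgroup.coe_mul, Prod.snd_mul, Subgroup.coe_inv, Prod.snd_inv, mul_one, mul_inv_cancel] at e'
  exact absurd e' (by decide +kernel)

/-- The subgroup `(A₅ × A₅).4`. -/
def Mb : Subgroup G where
  carrier := {g | ∃ p : K5, g = C.Om hS p ∨ g = C.Om hS p * C.s}
  one_mem' := ⟨1, Or.inl (map_one _).symm⟩
  mul_mem' := by
    rintro a b ⟨p, rfl | rfl⟩ ⟨q, rfl | rfl⟩
    · exact ⟨p * q, Or.inl (map_mul _ _ _).symm⟩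
    · exact ⟨p * q, Or.inr (by rw [← mul_assoc, map_mul])⟩
    · exact ⟨p * swapK q, Or.inr (by rw [mul_assoc, C.s_Om hS, ← mul_assoc, map_mul])⟩
    · refine ⟨p * swapK q, Or.inl ?_⟩
      rw [mul_assoc (C.Om hS p), ← mul_assoc C.s, C.s_Om hS, mul_assoc, C.ss, mul_one, map_mul]
  inv_mem' := by
    rintro a ⟨p, rfl | rfl⟩
    · exact ⟨p⁻¹, Or.inl (map_inv _ _).symm⟩
    · exact ⟨swapK p⁻¹, Or.inr (by rw [mul_inv_rev, inv_of_sq C.ss, ← map_inv, C.s_Om hS])⟩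

theorem Om_mem (p : K5) : C.Om hS p ∈ C.Mb hS := ⟨p, Or.inl rfl⟩

theorem s_mem : C.s ∈ C.Mb hS := ⟨1, Or.inr (by rw [map_one, one_mul])⟩

theorem t_mem : C.F t0 ∈ C.Mb hS := C.Om_tK hS ▸ C.Om_mem hS _

theorem Fb_mem (σ : P5t) : C.Fb σ ∈ C.Mb hS := by
  obtain ⟨h1, -, h3, -⟩ := uu5_facts σ
  rw [show σ = σ * uu5 σ * uu5 σ by rw [mul_assoc, h3, mul_one], map_mul]
  refine mul_mem ?_ ?_
  · have h := C.Om_mem hS ⟨(σ * uu5 σ, 1), h1.trans (map_one _).symm⟩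
    rwa [C.Om_even hS _ _ h1 (map_one _), map_one, mul_one] at h
  · rcases (uu5_facts σ).2.1 with h | h <;> rw [h]
    · rw [map_one]; exact one_mem _
    · exact C.t_mem hS

theorem F_mem (q : LL) : C.F q ∈ C.Mb hS := by
  rw [show q = (q.1, 1) * (1, q.2) from Prod.ext (mul_one _).symm (one_mul _).symm, map_mul]
  refine mul_mem ?_ (C.Fb_mem hS q.2)
  have hz : C.F z0 ∈ C.Mb hS := by
    rw [← C.sw]; exact mul_mem (mul_mem (C.s_mem hS) (C.Fb_mem hS w5)) (C.s_mem hS)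
  have hj : C.F j0 ∈ C.Mb hS := by
    rw [← C.sis hS]; exact mul_mem (mul_mem (C.s_mem hS) (C.Fb_mem hS i5)) (C.s_mem hS)
  have h := three5 q.1
  simp only [List.mem_cons, List.not_mem_nil, or_false] at h
  rcases h with h | h | h | h | h | h <;> rw [h]
  · exact (map_one C.F).symm ▸ one_mem _
  · exact hz
  · rw [show ((c3 * c3, 1) : LL) = z0 * z0 from Prod.ext rfl (by simp [z0]), map_mul]; exact mul_mem hz hz
  · exact hj
  · rw [show ((swap 0 1 * c3, 1) : LL) = j0 * z0 from Prod.ext rfl (by simp [z0, j0]), map_mul]; exact mul_mem hj hz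
  · rw [show ((swap 0 1 * (c3 * c3), 1) : LL) = j0 * (z0 * z0) from Prod.ext rfl (by simp [z0, j0]), map_mul,
      map_mul]
    exact mul_mem hj (mul_mem hz hz)

theorem cent_t_mem {g : G} (h : g * C.F t0 = C.F t0 * g) : g ∈ C.Mb hS := by
  obtain ⟨q, -, rfl | rfl⟩ := hS g h
  · exact C.F_mem hS q
  · exact mul_mem (C.s_mem hS) (C.F_mem hS q)

theorem normD_mem {g : G} (h : ∀ d ∈ Dm.map C.F, g * d * g⁻¹ ∈ Dm.map C.F) : g ∈ C.Mb hS := by
  obtain ⟨q, -, rfl | rfl⟩ := C.normD h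
  · exact C.F_mem hS q
  · exact mul_mem (C.s_mem hS) (C.F_mem hS q)

theorem cent_d_mem {d : LL} (hd : d ∈ Dm) (hd1 : d ≠ 1) {x : G} (hx : x * C.F d = C.F d * x) :
    x ∈ C.Mb hS := by
  have sq : ∀ p : LL, p ∈ Dm → x * C.F (p * p) = C.F (p * p) * x → x * C.F p = C.F p * x := fun p hp h => by
    have e : C.F p = C.F (p * p) * C.F (p * p) := by
      rw [← map_mul]; congr 1
      calc p = p * p * p * p := by rw [(Dm_facts.2.2.2.1 p hp).1, one_mul]
        _ = p * p * (p * p) := by group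
    rw [e]; exact (Commute.mul_right h h).eq
  have hz : x * C.F z0 = C.F z0 * x → x ∈ C.Mb hS := fun h => by
    obtain ⟨q, rfl, -⟩ := C.mem_cent_z h; exact C.F_mem hS q
  have hw : x * C.F w0 = C.F w0 * x → x ∈ C.Mb hS := fun h => by
    obtain ⟨q, rfl, -⟩ := C.mem_cent_w h
    exact mul_mem (mul_mem (C.s_mem hS) (C.F_mem hS q)) (C.s_mem hS)
  have hy : ∀ g : G, g * C.F y0 = C.F y0 * g → g ∈ C.Mb hS := fun g h => C.normD_mem hS (C.ynorm g h)
  have hj : ∀ e : LL, x * C.F (j0 * e * j0) = C.F (j0 * e * j0) * x →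
      C.F j0 * x * C.F j0 * C.F e = C.F e * (C.F j0 * x * C.F j0) := by
    intro e h
    have jj : C.F j0 * C.F j0 = 1 := by rw [← map_mul, small_rels.2.2.2.2.2.2.2.2.2.2.2.1, map_one]
    rw [map_mul, map_mul] at h
    calc C.F j0 * x * C.F j0 * C.F e = C.F j0 * (x * (C.F j0 * C.F e * C.F j0)) * (C.F j0)⁻¹ := by group
      _ = C.F j0 * (C.F j0 * C.F e * C.F j0 * x) * C.F j0 := by rw [h, inv_of_sq jj]
      _ = (C.F j0 * C.F j0) * C.F e * (C.F j0 * x * C.F j0) := by group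
      _ = _ := by rw [jj, one_mul]
  have back : C.F j0 * x * C.F j0 ∈ C.Mb hS → x ∈ C.Mb hS := fun h => by
    have jj : C.F j0 * C.F j0 = 1 := by rw [← map_mul, small_rels.2.2.2.2.2.2.2.2.2.2.2.1, map_one]
    have h2 := mul_mem (mul_mem (C.F_mem hS j0) h) (C.F_mem hS j0)
    rwa [show C.F j0 * (C.F j0 * x * C.F j0) * C.F j0 = (C.F j0 * C.F j0) * x * (C.F j0 * C.F j0) by group, jj,
      one_mul, mul_one] at h2
  rcases Dm_lines d hd with rfl | rfl | rfl | rfl | rfl | rfl | rfl | rfl | rfl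
  · exact absurd rfl hd1
  · exact hz hx
  · exact hz (sq _ Dm_facts.1 hx)
  · exact hw hx
  · exact hw (sq _ Dm_facts.2.1 hx)
  · exact hy x hx
  · exact hy x (sq _ Dm_facts.2.2.1 hx)
  · exact back (hy _ (hj y0 hx))
  · refine back (hy _ ?_)
    have h := hj _ hx
    have e : C.F y0 = C.F (y0 * y0) * C.F (y0 * y0) := by rw [← map_mul]; congr 1; decide +kernel
    rw [e]; exact (Commute.mul_right h h).eq

/-- A subgroup of order prime to three normalised by `D` lies in `M`. -/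
theorem invariant_le (X : Subgroup G) (hX : ¬ 3 ∣ Nat.card X)
    (hD : ∀ d ∈ Dm.map C.F, ∀ x ∈ X, d * x * d⁻¹ ∈ X) : X ≤ C.Mb hS := by
  haveI : IsMulCommutative (Dm.map C.F) := ⟨⟨fun a b => Subtype.ext (by
    obtain ⟨p, hp, ep⟩ := a.2
    obtain ⟨q, hq, eq⟩ := b.2
    show (a : G) * b = b * a
    rw [← ep, ← eq]; exact C.F_comm.2 (Dm_comm hp hq))⟩⟩
  have hnc : ¬ IsCyclic (Dm.map C.F) := by
    intro h
    obtain ⟨g, hg⟩ := IsCyclic.exists_generator (α := Dm.map C.F)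
    have h9 := orderOf_eq_card_of_forall_mem_zpowers hg
    rw [C.card_D] at h9
    have h3' : orderOf g ∣ 3 := orderOf_dvd_of_pow_eq_one (Subtype.ext (by rw [SubmonoidClass.coe_pow]; exact C.cube g.2))
    rw [h9] at h3'
    norm_num at h3'
  have hnorm : Dm.map C.F ≤ normalizer (X : Set G) := fun d hd => by
    rw [mem_normalizer_iff]
    refine fun n => ⟨hD d hd n, fun h => ?_⟩
    have := hD _ (inv_mem hd) _ h
    simpa [mul_assoc] using this
  have hcop : (Nat.card (Dm.map C.F)).Coprime (Nat.card X) := by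
    rw [C.card_D, show (9 : ℕ) = 3 ^ 2 by norm_num]
    exact ((Nat.Prime.coprime_iff_not_dvd Nat.prime_three).2 hX).pow_left 2
  rw [← CoprimeAct.generated_by_centralizers hnc hnorm hcop]
  refine iSup₂_le ?_
  rintro a ⟨⟨d, hd, rfl⟩, hd1⟩ x hx
  exact C.cent_d_mem hS hd (fun h => hd1 (by rw [h, map_one]))
    (mem_centralizer_singleton_iff.1 (mem_inf.1 hx).2)

/-- The involutions of `M`. -/
theorem invol_cases {x : G} (hx : x ∈ C.Mb hS) (h2 : x * x = 1) (h1 : x ≠ 1) :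
    (∃ a b : P5t, ∃ ha : Perm.sign a = 1, ∃ hb : Perm.sign b = 1, x = C.Om hS ⟨(a, b), ha.trans hb.symm⟩ ∧
      (IsConj (C.F i0) x ∨ IsConj (C.F j0) x ∨ IsConj (C.F (i0 * j0)) x)) ∨
      (∃ m ∈ C.Mb hS, x = m * C.F t0 * m⁻¹) ∨
      ((∃ p, x = C.Om hS p * C.s) ∧ (IsConj C.s x ∨ IsConj (C.s * C.F t0) x)) := by
  obtain ⟨⟨⟨σ1, σ2⟩, hp⟩, rfl | rfl⟩ := hx
  · have hp' : Perm.sign σ1 = Perm.sign σ2 := hp
    rw [← map_mul] at h2
    have h2' := C.Om_inj hS (h2.trans (map_one _).symm)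
    have e1 : σ1 * σ1 = 1 := congrArg (fun q : K5 => q.1.1) h2'
    have e2 : σ2 * σ2 = 1 := congrArg (fun q : K5 => q.1.2) h2'
    by_cases hsg : Perm.sign σ1 = 1
    · left
      have hsg2 : Perm.sign σ2 = 1 := hp'.symm.trans hsg
      refine ⟨σ1, σ2, hsg, hsg2, rfl, ?_⟩
      rw [C.Om_even hS _ _ hsg hsg2]
      have hci : ∀ σ c : P5t, Perm.sign c = 1 → c * i5 * c⁻¹ = σ → IsConj (C.F i0) (C.Fb σ) ∧ IsConj (C.F j0) (C.Pb σ) := by
        intro σ c _ e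
        have hji : C.Pb i5 = C.F j0 := by rw [C.Pb_eq]; exact C.sis hS
        exact ⟨isConj_iff.2 ⟨C.Fb c, by rw [← e, map_mul, map_mul, map_inv]; rfl⟩,
          isConj_iff.2 ⟨C.Pb c, by rw [← e, map_mul, map_mul, map_inv, hji]⟩⟩
      by_cases h11 : σ1 = 1
      · have h21 : σ2 ≠ 1 := fun e => h1 (by
          rw [show (⟨(σ1, σ2), hp⟩ : K5) = 1 from Subtype.ext (Prod.ext h11 e), map_one])
        obtain ⟨c, hc, e⟩ := (invol5 σ2 e2 h21).1 hsg2
        rw [h11, map_one, one_mul]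
        exact Or.inr (Or.inl (hci σ2 c hc e).2)
      · obtain ⟨c, hc, e⟩ := (invol5 σ1 e1 h11).1 hsg
        by_cases h21 : σ2 = 1
        · rw [h21, map_one, mul_one]
          exact Or.inl (hci σ1 c hc e).1
        · obtain ⟨c', hc', e'⟩ := (invol5 σ2 e2 h21).1 hsg2
          refine Or.inr (Or.inr (isConj_iff.2 ⟨C.Fb c * C.Pb c', ?_⟩))
          have hji : C.Pb i5 = C.F j0 := by rw [C.Pb_eq]; exact C.sis hS
          rw [map_mul C.F, show C.F i0 = C.Fb i5 from rfl, ← hji, ← C.Om_even hS c c' hc hc',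
            ← C.Om_even hS i5 i5 uu5_vals.2.2.1 uu5_vals.2.2.1, ← map_inv, ← map_mul, ← map_mul,
            ← C.Om_even hS σ1 σ2 hsg hsg2]
          exact congrArg (C.Om hS) (Subtype.ext (Prod.ext e e'))
    · right; left
      have hsg2 : Perm.sign σ2 ≠ 1 := fun e => hsg (hp'.trans e)
      have n1 : σ1 ≠ 1 := fun e => hsg (by rw [e, map_one])
      have n2 : σ2 ≠ 1 := fun e => hsg2 (by rw [e, map_one])
      obtain ⟨c, hc, e⟩ := (invol5 σ1 e1 n1).2 hsg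
      obtain ⟨c', hc', e'⟩ := (invol5 σ2 e2 n2).2 hsg2
      refine ⟨_, C.Om_mem hS ⟨(c, c'), hc.trans hc'.symm⟩, ?_⟩
      rw [← C.Om_tK hS, ← map_inv, ← map_mul, ← map_mul]
      exact congrArg (C.Om hS) (Subtype.ext (Prod.ext e.symm e'.symm))
  · have hp' : Perm.sign σ1 = Perm.sign σ2 := hp
    rw [show C.Om hS ⟨(σ1, σ2), hp⟩ * C.s * (C.Om hS ⟨(σ1, σ2), hp⟩ * C.s) =
      C.Om hS ⟨(σ1, σ2), hp⟩ * (C.s * C.Om hS ⟨(σ1, σ2), hp⟩ * C.s) by group, C.Om_swap, ← map_mul] at h2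
    have h2' := C.Om_inj hS (h2.trans (map_one _).symm)
    have e : σ1 * σ2 = 1 := congrArg (fun q : K5 => q.1.1) h2'
    have e2 : σ2 = σ1⁻¹ := eq_inv_of_mul_eq_one_right e
    refine Or.inr (Or.inr ⟨⟨_, rfl⟩, ?_⟩)
    by_cases hsg : Perm.sign σ1 = 1
    · left
      refine isConj_iff.2 ⟨C.Om hS ⟨(σ1, 1), hsg.trans (map_one _).symm⟩, ?_⟩
      rw [← map_inv, mul_assoc, C.s_Om hS, ← mul_assoc, ← map_mul]
      congr 2
      exact Subtype.ext (Prod.ext (by simp [swapK]) (by simp [swapK, e2]))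
    · right
      have hodd : Perm.sign (σ1 * t5) = 1 := by
        rw [map_mul, uu5_vals.2.2.2.2.2, (Int.units_eq_one_or _).resolve_left hsg]; decide
      refine isConj_iff.2 ⟨C.Om hS ⟨(σ1 * t5, 1), hodd.trans (map_one _).symm⟩, ?_⟩
      rw [← C.Om_tK hS, ← map_inv]
      rw [C.s_Om hS, mul_assoc, mul_assoc, C.s_Om hS, ← mul_assoc, ← mul_assoc, ← map_mul, ← map_mul]
      congr 2
      refine Subtype.ext (Prod.ext ?_ ?_)
      · simp [swapK, mul_assoc, show t5 * t5 = 1 from swap_mul_self _ _]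
      · simp [swapK, e2, show t5 * t5 = 1 from swap_mul_self _ _, show t5⁻¹ = t5 from Equiv.swap_inv _ _,
          ← mul_assoc]

end Cfg

end Cfsg.Agent.S8Three
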