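import Cfsg.Agent.Lib.S8Three.SmallG0
import Cfsg.Agent.Lib.FiniteGroup.FrattiniAut

/-!
The normaliser of the Sylow 2-subgroup of the subgroup of index four.
-/

set_option autoImplicit false
set_option linter.style.haveILetI false
set_option linter.unusedSectionVars false
set_option maxRecDepth 20000

namespace Cfsg.Agent.S8Three

open Equiv Subgroup

theorem divisors315 : ∀ q ∈ Nat.divisors 315, 9 ∣ q → (16 * q / 9) % 3 = 1 → q = 9 ∨ q = 63 := by decide +kernel

namespace Sub0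

variable {G : Type*} [Group G] [Finite G] {C : Cfg G} {hS : C.Small} (Z : Sub0 C hS)
include Z

theorem norm_conj {g : G} (hg : g ∈ normalizer (Z.W : Set G)) {x : G} (hx : x ∈ Z.W) : g * x * g⁻¹ ∈ Z.W :=
  (mem_normalizer_iff.1 hg x).1 hx

theorem W_sq {x : G} (hx : x ∈ Z.W) : x * x = 1 := by
  obtain ⟨a, b, ha, hb, rfl⟩ := Z.mem_W.1 hx
  rw [← map_mul, Prod.mk_mul_mk, show a * a = 1 from Subtype.ext (V5L_facts.2.2.2.2.1 _ ha),
    show b * b = 1 from Subtype.ext (V5L_facts.2.2.2.2.1 _ hb)]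
  exact map_one _

/-- The elements of `N(W) ∩ N(D)` lie in `D`. -/
theorem norm_WD {y : G} (hy : y ∈ Z.G0) (hW : y ∈ normalizer (Z.W : Set G))
    (hD : ∀ d ∈ Dm.map C.F, y * d * y⁻¹ ∈ Dm.map C.F) : y ∈ Dm.map C.F := by
  obtain ⟨⟨a, b⟩, rfl⟩ := Z.inter y hy (C.normD_mem hS hD)
  -- conjugates of the two 3-cycles
  have hDio : ∀ x, C.io hS x ∈ Dm.map C.F → (x.1 : P5t) ∈ [1, w5, w5 * w5] ∧ (x.2 : P5t) ∈ [1, w5, w5 * w5] := by
    intro x hx
    obtain ⟨p, hp, e⟩ := hx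
    obtain ⟨i, j, rfl⟩ := Dm_gen p hp
    have hz : C.F z0 = C.io hS (1, wa) := by
      rw [C.io_apply]; show _ = C.Fb 1 * C.Pb w5
      rw [map_one, one_mul, C.Pb_eq]; exact C.sw.symm
    have hw : C.F w0 = C.io hS (wa, 1) := by
      rw [C.io_apply]; show _ = C.Fb w5 * C.Pb 1
      rw [map_one, mul_one]; rfl
    rw [map_mul, map_pow, map_pow, hz, hw, ← map_pow, ← map_pow, ← map_mul] at e
    rw [← C.io_inj hS e]
    have hpw : ∀ k : Fin 3, ((wa ^ (k : ℕ) : alternatingGroup (Fin 5)) : P5t) ∈ [1, w5, w5 * w5] := fun k => by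
      rw [SubmonoidClass.coe_pow]
      fin_cases k <;> simp [wa, pow_two]
    refine ⟨?_, ?_⟩
    · simpa using hpw j
    · simpa using hpw i
  have hV : ∀ v : P5t, v ∈ V5L → (a : P5t) * v * (a : P5t)⁻¹ ∈ V5L ∧ (b : P5t) * v * (b : P5t)⁻¹ ∈ V5L := by
    intro v hv
    have hvs : Perm.sign v = 1 := V5L_facts.2.2.2.1 _ hv
    have h := Z.norm_conj hW (Z.mem_W.2 ⟨⟨v, hvs⟩, ⟨v, hvs⟩, hv, hv, rfl⟩)
    rw [← map_inv, ← map_mul, ← map_mul] at h
    obtain ⟨c, d, hc, hd, e⟩ := Z.mem_W.1 h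
    have e' := C.io_inj hS e
    have e1 : c = a * ⟨v, hvs⟩ * a⁻¹ := congrArg Prod.fst e'
    have e2 : d = b * ⟨v, hvs⟩ * b⁻¹ := congrArg Prod.snd e'
    rw [e1] at hc; rw [e2] at hd
    exact ⟨hc, hd⟩
  have hwD : ∀ x, (x = (wa, 1) ∨ x = (1, wa)) → C.io hS ((a, b) * x * (a, b)⁻¹) ∈ Dm.map C.F := by
    intro x hx
    rw [map_mul, map_mul, map_inv]
    refine hD _ ?_
    rcases hx with rfl | rfl
    · exact ⟨w0, Dm_facts.2.1, by rw [C.io_apply]; show _ = C.Fb w5 * C.Pb 1; rw [map_one, mul_one]; rfl⟩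
    · exact ⟨z0, Dm_facts.1, by
        rw [C.io_apply]; show _ = C.Fb 1 * C.Pb w5
        rw [map_one, one_mul, C.Pb_eq]; exact C.sw.symm⟩
  have ha := norm_VD _ a.2 (fun v hv => (hV v hv).1) (hDio _ (hwD _ (Or.inl rfl))).1
  have hb := norm_VD _ b.2 (fun v hv => (hV v hv).2) (hDio _ (hwD _ (Or.inr rfl))).2
  have hp : ∀ c : alternatingGroup (Fin 5), (c : P5t) ∈ [1, w5, w5 * w5] → ∃ k : ℕ, c = wa ^ k := by
    intro c hc
    simp only [List.mem_cons, List.not_mem_nil, or_false] at hc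
    rcases hc with h | h | h
    · exact ⟨0, by rw [pow_zero]; exact Subtype.ext h⟩
    · exact ⟨1, by rw [pow_one]; exact Subtype.ext h⟩
    · exact ⟨2, by rw [pow_two]; exact Subtype.ext h⟩
  obtain ⟨k, rfl⟩ := hp a ha
  obtain ⟨l, rfl⟩ := hp b hb
  refine ⟨z0 ^ l * w0 ^ k, mul_mem (pow_mem Dm_facts.1 _) (pow_mem Dm_facts.2.1 _), ?_⟩
  have hz : C.F z0 = C.io hS (1, wa) := by
    rw [C.io_apply]; show _ = C.Fb 1 * C.Pb w5
    rw [map_one, one_mul, C.Pb_eq]; exact C.sw.symm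
  have hw : C.F w0 = C.io hS (wa, 1) := by
    rw [C.io_apply]; show _ = C.Fb w5 * C.Pb 1
    rw [map_one, mul_one]; rfl
  rw [map_mul, map_pow, map_pow, hz, hw, ← map_pow, ← map_pow, ← map_mul]
  congr 1
  simp

theorem norm_W_le {x : G} (hx0 : x ∈ Z.G0) (hxW : x ∈ normalizer (Z.W : Set G)) : x ∈ C.M0 hS := by
  classical
  haveI : Fact (Nat.Prime 3) := ⟨Nat.prime_three⟩
  haveI : Fact (Nat.Prime 2) := ⟨Nat.prime_two⟩
  haveI : Fact (Nat.Prime 7) := ⟨by norm_num⟩
  set X := normalizer (Z.W : Set G) ⊓ Z.G0 with hX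
  have hWX : Z.W ≤ X := le_inf le_normalizer Z.W_le
  have hDX : Dm.map C.F ≤ X := fun d hd => mem_inf.2 ⟨by
    rw [mem_normalizer_iff]
    refine fun v => ⟨fun hv => Z.D_norm_W hd hv, fun hv => ?_⟩
    have h := Z.D_norm_W (inv_mem hd) hv
    rwa [show d⁻¹ * (d * v * d⁻¹) * d⁻¹⁻¹ = v by group] at h, Z.M0_le (Z.D_le hd)⟩
  letI : CommGroup Z.W :=
    { (inferInstance : Group Z.W) with mul_comm := fun a b => Subtype.ext (Z.W_comm _ a.2 _ b.2) }
  let ρ : X →* MulAut Z.W :=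
    { toFun := fun g =>
        { toFun := fun v => ⟨(g : G) * v * (g : G)⁻¹, Z.norm_conj (mem_inf.1 g.2).1 v.2⟩
          invFun := fun v => ⟨(g : G)⁻¹ * v * g, by
            have h := Z.norm_conj (inv_mem (mem_inf.1 g.2).1) v.2; rwa [inv_inv] at h⟩
          left_inv := fun v => Subtype.ext (by show (g : G)⁻¹ * ((g : G) * v * (g : G)⁻¹) * g = v; group)
          right_inv := fun v => Subtype.ext (by show (g : G) * ((g : G)⁻¹ * v * g) * (g : G)⁻¹ = v; group)
          map_mul' := fun v v' => Subtype.ext (by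
            show (g : G) * ((v : G) * v') * (g : G)⁻¹ = (g : G) * v * (g : G)⁻¹ * ((g : G) * v' * (g : G)⁻¹)
            group) }
      map_one' := MulEquiv.ext fun v => Subtype.ext (by show (1 : G) * v * (1 : G)⁻¹ = v; simp)
      map_mul' := fun g h => MulEquiv.ext fun v => Subtype.ext (by
        show ((g : G) * h) * v * ((g : G) * h)⁻¹ = (g : G) * ((h : G) * v * (h : G)⁻¹) * (g : G)⁻¹
        group) }
  have hker : ∀ g : X, ρ g = 1 → (g : G) ∈ Z.W := fun g hg => Z.cent_W (mem_inf.1 g.2).2 fun v hv => by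
    have h : (g : G) * v * (g : G)⁻¹ = v := congrArg Subtype.val (DFunLike.congr_fun hg ⟨v, hv⟩)
    exact mul_inv_eq_iff_eq_mul.1 h
  have hkereq : ρ.ker = Z.W.subgroupOf X := by
    ext g
    refine ⟨fun h => mem_subgroupOf.2 (hker g h), fun h => MulEquiv.ext fun v => Subtype.ext ?_⟩
    show (g : G) * v * (g : G)⁻¹ = v
    rw [Z.W_comm _ (mem_subgroupOf.1 h) _ v.2, mul_inv_cancel_right]
  have hq : Nat.card ρ.range = Z.W.relIndex X := by rw [← index_ker, hkereq]; rfl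
  have hXcard : Nat.card X = 16 * Nat.card ρ.range := by
    rw [hq, ← Z.card_W, PBasic.card_mul_relIndex hWX]
  have hodd : Odd (Nat.card ρ.range) := hq ▸ Z.rel_odd hWX inf_le_right
  have h315 : Nat.card ρ.range ∣ 315 := by
    have h := (card_subgroup_dvd_card ρ.range)
    rw [(FrattiniAut.elemAbelian_facts (p := 2) (r := 4) (V := Z.W)
      (fun v => Subtype.ext (by rw [SubmonoidClass.coe_pow, pow_two]; exact Z.W_sq v.2)) Z.card_W).2] at h
    have e : ∏ i ∈ Finset.range 4, (2 ^ 4 - 2 ^ i) = 2 ^ 6 * 315 := by decide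
    rw [e] at h
    exact ((Nat.coprime_two_right.2 hodd).pow_right 6).dvd_of_dvd_mul_left h
  -- the Sylow 3-subgroup
  have hinj : ∀ a b : X, (a : G) ∈ Dm.map C.F → (b : G) ∈ Dm.map C.F → ρ a = ρ b → a = b := by
    intro a b ha hb h
    have hw := hker (a⁻¹ * b) (by rw [map_mul, map_inv, h, inv_mul_cancel])
    simp only [Subgroup.coe_mul, Subgroup.coe_inv] at hw
    have h2 := Z.W_sq hw
    have h3 := C.cube (mul_mem (inv_mem ha) hb)
    rw [pow_succ, pow_two, h2, one_mul] at h3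
    exact Subtype.ext (inv_mul_eq_one.1 h3)
  set Db := ((Dm.map C.F).subgroupOf X).map ρ with hDb
  have hDbc : Nat.card Db = 9 := by
    rw [← C.card_D]
    refine (Nat.card_eq_of_bijective (fun d : Dm.map C.F =>
      (⟨ρ ⟨d, hDX d.2⟩, mem_map_of_mem _ (mem_subgroupOf.2 d.2)⟩ : Db)) ⟨fun a b h => ?_, fun v => ?_⟩).symm
    · exact Subtype.ext (congrArg Subtype.val (hinj _ _ a.2 b.2 (congrArg Subtype.val h)) :)
    · obtain ⟨d, hd, e⟩ := v.2
      exact ⟨⟨d, mem_subgroupOf.1 hd⟩, Subtype.ext e⟩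
  have h9 : 9 ∣ Nat.card ρ.range := hDbc ▸ card_dvd_of_le (map_le_range _ _)
  have hDc : Nat.card ((Dm.map C.F).subgroupOf X) = 9 :=
    (Nat.card_congr (subgroupOfEquivOfLe hDX).toEquiv).trans C.card_D
  have hfac : (Nat.card X).factorization 3 = 2 := by
    have hd : Nat.card X ∣ 16 * 315 := hXcard ▸ mul_dvd_mul_left 16 h315
    have h1 : 3 ^ 2 ∣ Nat.card X := by rw [hXcard]; exact dvd_mul_of_dvd_right h9 _
    have h2 : ¬ 3 ^ 3 ∣ Nat.card X := fun h => by
      have := h.trans hd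
      norm_num at this
    have a1 := (Nat.prime_three.pow_dvd_iff_le_factorization Nat.card_pos.ne').1 h1
    have a2 : ¬ 3 ≤ (Nat.card X).factorization 3 := fun h =>
      h2 ((Nat.prime_three.pow_dvd_iff_le_factorization Nat.card_pos.ne').2 h)
    omega
  let R : Sylow 3 X := Sylow.ofCard ((Dm.map C.F).subgroupOf X) (by rw [hDc, hfac]; rfl)
  have hR : (R : Subgroup X) = (Dm.map C.F).subgroupOf X := rfl
  have hN : normalizer (R : Set X) = (R : Subgroup X) := by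
    refine le_antisymm (fun g hg => ?_) le_normalizer
    rw [hR, mem_subgroupOf]
    refine Z.norm_WD (mem_inf.1 g.2).2 (mem_inf.1 g.2).1 fun d hd => ?_
    have h : (⟨(g : G) * d * (g : G)⁻¹, mul_mem (mul_mem g.2 (hDX hd)) (inv_mem g.2)⟩ : X) ∈ (R : Subgroup X) :=
      (mem_normalizer_iff.1 hg ⟨d, hDX hd⟩).1 (show (⟨d, hDX hd⟩ : X) ∈ (R : Subgroup X) by rw [hR]; exact mem_subgroupOf.2 hd)
    rw [hR, mem_subgroupOf] at h
    exact h
  have hn3 : (16 * Nat.card ρ.range / 9) % 3 = 1 := by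
    have h : Nat.card (Sylow 3 X) % 3 = 1 := card_sylow_modEq_one 3 X
    rw [R.card_eq_index_normalizer, hN, hR] at h
    have h2 := ((Dm.map C.F).subgroupOf X).card_mul_index
    rw [hDc, hXcard] at h2
    rwa [← h2, Nat.mul_div_cancel_left _ (by norm_num)]
  rcases divisors315 _ (Nat.mem_divisors.2 ⟨h315, by norm_num⟩) h9 hn3 with h | h
  · -- `N(W) = W D`
    have hsup : Z.W ⊔ Dm.map C.F = X := by
      refine eq_of_le_of_card_ge (sup_le hWX hDX) (Nat.le_of_dvd Nat.card_pos ?_)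
      rw [hXcard, h]
      have e1 : 16 ∣ Nat.card (Z.W ⊔ Dm.map C.F : Subgroup G) := Z.card_W ▸ card_dvd_of_le le_sup_left
      have e2 : 9 ∣ Nat.card (Z.W ⊔ Dm.map C.F : Subgroup G) := C.card_D ▸ card_dvd_of_le le_sup_right
      exact Nat.Coprime.mul_dvd_of_dvd_of_dvd (by norm_num) e1 e2
    have hxX : x ∈ Z.W ⊔ Dm.map C.F := hsup ▸ mem_inf.2 ⟨hxW, hx0⟩
    exact (sup_le (fun _ ⟨a, _, e⟩ => ⟨a, e⟩) Z.D_le : Z.W ⊔ Dm.map C.F ≤ C.M0 hS) hxX
  exfalso
  -- an element of order 21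
  obtain ⟨P⟩ : Nonempty (Sylow 7 ρ.range) := inferInstance
  have hPc : Nat.card (P : Subgroup ρ.range) = 7 := by
    rw [P.card_eq_multiplicity, h]
    have : (63 : ℕ).factorization 7 = 1 := by
      rw [show (63 : ℕ) = 9 * 7 by norm_num, Nat.factorization_mul (by norm_num) (by norm_num),
        Finsupp.add_apply, Nat.factorization_eq_zero_of_not_dvd (by norm_num), zero_add,
        Nat.Prime.factorization_self (by norm_num)]
    rw [this]; rfl
  have hPn : (P : Subgroup ρ.range).Normal := by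
    have h1 := P.card_dvd_index
    have h2 := (P : Subgroup ρ.range).card_mul_index
    rw [hPc, h] at h2
    rw [show (P : Subgroup ρ.range).index = 9 by omega] at h1
    have h3 : Nat.card (Sylow 7 ρ.range) % 7 = 1 := card_sylow_modEq_one 7 ρ.range
    have key : ∀ n ∈ Nat.divisors 9, n % 7 = 1 → n = 1 := by decide +kernel
    have h4 := key _ (Nat.mem_divisors.2 ⟨h1, by norm_num⟩) h3
    rw [P.card_eq_index_normalizer, index_eq_one] at h4
    exact Subgroup.normalizer_eq_top_iff.1 h4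
  obtain ⟨⟨c, hc⟩, hco⟩ := exists_prime_orderOf_dvd_card' (G := (P : Subgroup ρ.range)) 7 (by rw [hPc])
  rw [orderOf_mk] at hco
  let f : Db → (P : Subgroup ρ.range) := fun d =>
    ⟨⟨(d : MulAut Z.W), (map_le_range _ _) d.2⟩ * c * ⟨(d : MulAut Z.W), (map_le_range _ _) d.2⟩⁻¹,
      hPn.conj_mem c hc _⟩
  obtain ⟨d1, d2, hne, hf⟩ : ∃ d1 d2 : Db, d1 ≠ d2 ∧ f d1 = f d2 := by
    by_contra hno
    push Not at hno
    have hle := Nat.card_le_card_of_injective f fun a b hab => by_contra fun hne => hno a b hne hab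
    rw [hDbc, hPc] at hle
    omega
  set e : ρ.range := (⟨(d1 : MulAut Z.W), (map_le_range _ _) d1.2⟩ : ρ.range)⁻¹ *
    ⟨(d2 : MulAut Z.W), (map_le_range _ _) d2.2⟩ with he
  have hec : e * c = c * e := by
    have hf' := congrArg Subtype.val hf
    simp only [f] at hf'
    set a : ρ.range := ⟨(d1 : MulAut Z.W), (map_le_range _ _) d1.2⟩
    set b : ρ.range := ⟨(d2 : MulAut Z.W), (map_le_range _ _) d2.2⟩
    calc e * c = a⁻¹ * (b * c * b⁻¹) * b := by rw [he]; group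
      _ = a⁻¹ * (a * c * a⁻¹) * b := by rw [hf']
      _ = c * e := by rw [he]; group
  have heo : orderOf e = 3 := by
    refine orderOf_eq_prime ?_ fun h1 => ?_
    · obtain ⟨u, hu, eu⟩ := (d1⁻¹ * d2).2
      refine Subtype.ext ?_
      rw [SubmonoidClass.coe_pow]
      show (((d1⁻¹ * d2 : Db) : MulAut Z.W)) ^ 3 = 1
      rw [← eu, ← map_pow]
      have : u ^ 3 = 1 := Subtype.ext (by rw [SubmonoidClass.coe_pow]; exact C.cube (mem_subgroupOf.1 hu))
      rw [this, map_one]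
    · exact hne (inv_mul_eq_one.1 (Subtype.ext (congrArg Subtype.val h1 :)))
  obtain ⟨g, hg⟩ := (e * c).2
  have h21 : 21 ∣ orderOf g := by
    have h := orderOf_map_dvd ρ g
    rw [hg, orderOf_coe, (show Commute e c from hec).orderOf_mul_eq_mul_orderOf_of_coprime
      (by rw [heo, hco]; norm_num), heo, hco] at h
    exact h
  obtain ⟨k, hk⟩ := h21
  have hk0 : 0 < k := Nat.pos_of_ne_zero fun h0 => (orderOf_pos g).ne' (by rw [hk, h0, mul_zero])
  have ha : orderOf (((g : G)) ^ (7 * k)) = 3 := by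
    rw [orderOf_pow_of_dvd (by omega) (by rw [orderOf_coe, hk]; exact ⟨3, by ring⟩), orderOf_coe, hk]
    exact Nat.div_eq_of_eq_mul_left (by omega) (by ring)
  have hb : orderOf (((g : G)) ^ (3 * k)) = 7 := by
    rw [orderOf_pow_of_dvd (by omega) (by rw [orderOf_coe, hk]; exact ⟨7, by ring⟩), orderOf_coe, hk]
    exact Nat.div_eq_of_eq_mul_left (by omega) (by ring)
  have h7 : 7 ∣ Nat.card (centralizer ({((g : G)) ^ (7 * k)} : Set G)) := by
    have h := orderOf_dvd_natCard (⟨((g : G)) ^ (3 * k), mem_centralizer_singleton_iff.2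
      (Commute.pow_pow_self (g : G) _ _).eq⟩ : centralizer ({((g : G)) ^ (7 * k)} : Set G))
    rwa [orderOf_mk, hb] at h
  rcases C.cent_three (a := ((g : G)) ^ (7 * k)) (by rw [← ha]; exact pow_orderOf_eq_one _)
    (fun e => by rw [e, orderOf_one] at ha; norm_num at ha) with e | e <;> rw [e] at h7 <;> norm_num at h7

end Sub0

end Cfsg.Agent.S8Three
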