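import Cfsg.Agent.Lib.S8Three.SmallFusion
import Cfsg.Agent.Lib.Components.FStar
import Cfsg.Prelude.Def_Local

/-!
The structure of the whole group in the small case.
-/

set_option autoImplicit false
set_option linter.style.haveILetI false
set_option linter.unusedSectionVars false
set_option maxRecDepth 20000

namespace Cfsg.Agent.S8Three

open Equiv Subgroup

namespace Sub0

variable {G : Type*} [Group G] [Finite G] {C : Cfg G} {hS : C.Small} (Z : Sub0 C hS)
include Z

theorem whole (g : G) : ∃ p : K5, g = C.Om hS p ∨ g = C.Om hS p * C.s :=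
  show g ∈ C.Mb hS from Z.Mb_top ▸ mem_top g

theorem M0_normal : (C.M0 hS).Normal := by
  refine ⟨fun x hx g => ?_⟩
  have hOm : ∀ p : K5, ∀ x ∈ C.M0 hS, C.Om hS p * x * (C.Om hS p)⁻¹ ∈ C.M0 hS := by
    rintro p _ ⟨a, rfl⟩
    obtain ⟨b, hb⟩ := C.io_eq hS (p := p * toK a * p⁻¹) (by
      show Perm.sign (p.1.1 * (a.1 : P5t) * p.1.1⁻¹) = 1
      rw [map_mul, map_mul, map_inv, show Perm.sign (a.1 : P5t) = 1 from a.1.2, mul_one, mul_inv_cancel])
    exact ⟨b, by rw [hb, map_mul, map_mul, map_inv]; rfl⟩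
  have hs : ∀ x ∈ C.M0 hS, C.s * x * C.s ∈ C.M0 hS := by
    rintro _ ⟨⟨a, b⟩, rfl⟩
    exact ⟨(b, a), (Z.io_swap a b).symm⟩
  obtain ⟨p, rfl | rfl⟩ := Z.whole g
  · exact hOm p x hx
  · have h := hOm p _ (hs x hx)
    rwa [show C.Om hS p * (C.s * x * C.s) * (C.Om hS p)⁻¹ = C.Om hS p * C.s * x * (C.Om hS p * C.s)⁻¹ by
      rw [mul_inv_rev, inv_of_sq C.ss]; group] at h

theorem sq_mem (g : G) : g ^ 2 ∈ C.M0 hS := by
  rw [pow_two]
  obtain ⟨p, rfl | rfl⟩ := Z.whole g
  · obtain ⟨b, hb⟩ := C.io_eq hS (p := p * p) (by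
      show Perm.sign (p.1.1 * p.1.1) = 1
      rw [map_mul]; exact Int.units_mul_self _)
    exact ⟨b, by rw [hb, map_mul]⟩
  · obtain ⟨b, hb⟩ := C.io_eq hS (p := p * swapK p) (by
      show Perm.sign (p.1.1 * p.1.2) = 1
      rw [map_mul, ← (show Perm.sign p.1.1 = Perm.sign p.1.2 from p.2)]; exact Int.units_mul_self _)
    refine ⟨b, ?_⟩
    rw [hb, map_mul, ← C.Om_swap hS]
    group

theorem centralizer_M0 : centralizer (C.M0 hS : Set G) = ⊥ := by
  rw [eq_bot_iff]
  intro g hg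
  have h : ∀ a, C.io hS a * g = g * C.io hS a := fun a => mem_centralizer_iff.1 hg _ ⟨a, rfl⟩
  obtain ⟨p, rfl | rfl⟩ := Z.whole g
  · have h' : ∀ a, toK a * p = p * toK a := fun a => C.Om_inj hS (by rw [map_mul, map_mul]; exact h a)
    have e1 := h' (va, va)
    have e2 := h' (wa, wa)
    have hp1 : p.1.1 = 1 := cent_pair _ (congrArg (fun q : K5 => q.1.1) e1 :).symm
      (congrArg (fun q : K5 => q.1.1) e2 :).symm
    have hp2 : p.1.2 = 1 := cent_pair _ (congrArg (fun q : K5 => q.1.2) e1 :).symm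
      (congrArg (fun q : K5 => q.1.2) e2 :).symm
    rw [mem_bot, show p = 1 from Subtype.ext (Prod.ext hp1 hp2), map_one]
  · exfalso
    have e := h (1, wa)
    have e' : toK (1, wa) * p = p * toK (wa, 1) := by
      refine C.Om_inj hS ?_
      rw [map_mul, map_mul]
      refine mul_right_cancel (b := C.s) ?_
      rw [mul_assoc (C.Om hS p) (C.Om hS (toK (wa, 1))), mul_assoc]
      rw [show C.Om hS (toK (wa, 1)) * C.s = C.s * C.Om hS (toK (1, wa)) from (C.s_Om hS (toK (1, wa))).symm]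
      exact e.trans (mul_assoc _ _ _)
    have e1 : (1 : P5t) * p.1.1 = p.1.1 * w5 := congrArg (fun q : K5 => q.1.1) e'
    rw [one_mul, left_eq_mul] at e1
    exact absurd e1 (by decide +kernel)

theorem iso : Nonempty (C.M0 hS ≃* alternatingGroup (Fin 5) × alternatingGroup (Fin 5)) :=
  ⟨(MonoidHom.ofInjective (C.io_inj hS)).symm⟩

theorem minimal {K : Subgroup G} (hK : K.Normal) (hle : K ≤ C.M0 hS) : K = ⊥ ∨ K = C.M0 hS := by
  by_cases h : K = ⊥
  · exact Or.inl h
  refine Or.inr (le_antisymm hle ?_)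
  obtain ⟨x, hxK, hx1⟩ := K.bot_or_exists_ne_one.resolve_left h
  have hsw : ∀ {a b}, C.io hS (a, b) ∈ K → C.io hS (b, a) ∈ K := fun {a b} hm => by
    have h' := hK.conj_mem _ hm C.s
    rwa [inv_of_sq C.ss, Z.io_swap] at h'
  obtain ⟨a, b, hab, ha⟩ : ∃ a b, C.io hS (a, b) ∈ K ∧ a ≠ 1 := by
    obtain ⟨⟨a, b⟩, rfl⟩ := hle hxK
    by_cases ha : a = 1
    · subst ha
      exact ⟨b, 1, hsw hxK, fun hb => hx1 (by rw [hb]; exact map_one _)⟩
    · exact ⟨a, b, hxK, ha⟩
  obtain ⟨c, hc⟩ : ∃ c, c * a * c⁻¹ * a⁻¹ ≠ 1 := by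
    by_contra hno
    have hno' : ∀ c, c * a = a * c := fun c => by
      have h' : c * a * c⁻¹ * a⁻¹ = 1 := by
        by_contra hne; exact hno ⟨c, hne⟩
      calc c * a = c * a * c⁻¹ * a⁻¹ * (a * c) := by group
        _ = _ := by rw [h', one_mul]
    exact ha (Subtype.ext (cent_pair _ (congrArg Subtype.val (hno' va)).symm
      (congrArg Subtype.val (hno' wa)).symm))
  set L := (K.comap (C.io hS)).comap (MonoidHom.inl (alternatingGroup (Fin 5)) (alternatingGroup (Fin 5))) with hL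
  have hcL : c * a * c⁻¹ * a⁻¹ ∈ L := by
    show C.io hS (c * a * c⁻¹ * a⁻¹, 1) ∈ K
    rw [show ((c * a * c⁻¹ * a⁻¹, 1) : alternatingGroup (Fin 5) × alternatingGroup (Fin 5)) =
      (c, 1) * (a, b) * (c, 1)⁻¹ * (a, b)⁻¹ from Prod.ext rfl (by simp), map_mul, map_mul, map_mul, map_inv, map_inv]
    exact mul_mem (hK.conj_mem _ hab _) (inv_mem hab)
  haveI : L.Normal := inferInstance
  have hLt : L = ⊤ := (IsSimpleGroup.eq_bot_or_eq_top_of_normal L inferInstance).resolve_left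
    fun hb => hc (mem_bot.1 (hb ▸ hcL))
  have hl : ∀ d, C.io hS (d, 1) ∈ K := fun d => (hLt ▸ mem_top d : d ∈ L)
  rintro _ ⟨⟨d, d'⟩, rfl⟩
  rw [show (d, d') = (d, 1) * (1, d') from Prod.ext (mul_one _).symm (one_mul _).symm, map_mul]
  exact mul_mem (hl d) (hsw (hl d'))

theorem component_inl : IsComponent ((C.io hS).comp (MonoidHom.inl _ _)).range := by
  have hinj : Function.Injective ((C.io hS).comp
      (MonoidHom.inl (alternatingGroup (Fin 5)) (alternatingGroup (Fin 5)))) :=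
    fun a b h => (congrArg Prod.fst (C.io_inj hS h) :)
  refine ⟨IsSubnormal.step _ (C.M0 hS) ?_ Z.M0_normal.isSubnormal ?_,
    (Components.quasisimple_congr (MonoidHom.ofInjective hinj)).1 quasisimple_A5⟩
  · rintro _ ⟨a, rfl⟩; exact ⟨_, rfl⟩
  · refine ⟨?_⟩
    rintro ⟨_, -⟩ ⟨d, rfl⟩ ⟨_, ⟨⟨a, b⟩, rfl⟩⟩
    refine ⟨a * d * a⁻¹, ?_⟩
    show C.io hS (a * d * a⁻¹, 1) = C.io hS (a, b) * C.io hS (d, 1) * (C.io hS (a, b))⁻¹
    rw [← map_inv, ← map_mul, ← map_mul]
    congr 1
    exact Prod.ext rfl (by simp)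

theorem fstar_eq : generalizedFittingSubgroup G = C.M0 hS := by
  have hN := Z.M0_normal
  have hcomp := Z.component_inl
  refine le_antisymm (sup_le ((Components.layer_le_iff).2 fun L hL => ?_) ?_) ?_
  · rcases Components.component_le_or_commute hL hN.isSubnormal with h | h
    · exact h
    · exact absurd (le_bot_iff.1 ((commutator_eq_bot_iff_le_centralizer.1 h).trans Z.centralizer_M0.le))
        (Components.component_ne_bot hL)
  · haveI hF : (fittingSubgroup G).Normal := Components.fittingSubgroup_normal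
    rcases Z.minimal (K := fittingSubgroup G ⊓ C.M0 hS) inferInstance inf_le_right with h | h
    · haveI := hN
      have hc : ⁅fittingSubgroup G, C.M0 hS⁆ = ⊥ := le_bot_iff.1 (h ▸ commutator_le_inf _ _)
      exact ((commutator_eq_bot_iff_le_centralizer.1 hc).trans Z.centralizer_M0.le).trans bot_le
    · exfalso
      have h1 : C.io hS (va, 1) ∈ fittingSubgroup G := (inf_eq_right.1 h) ⟨_, rfl⟩
      have h2 : C.io hS (wa, 1) ∈ layer G := Components.component_le_layer hcomp ⟨wa, rfl⟩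
      have e := mem_centralizer_iff.1 (Components.layer_le_centralizer_fitting h2) _ h1
      rw [← map_mul, ← map_mul] at e
      exact absurd (congrArg Subtype.val (congrArg Prod.fst (C.io_inj hS e) :) : v5 * w5 = w5 * v5)
        (by decide +kernel)
  · have h1 : ∀ d, C.io hS (d, 1) ∈ generalizedFittingSubgroup G := fun d =>
      Components.layer_le_generalizedFitting (Components.component_le_layer hcomp ⟨d, rfl⟩)
    haveI := Components.generalizedFitting_normal (G := G)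
    rintro _ ⟨⟨d, d'⟩, rfl⟩
    rw [show (d, d') = (d, 1) * (1, d') from Prod.ext (mul_one _).symm (one_mul _).symm, map_mul]
    refine mul_mem (h1 d) ?_
    have h' := Normal.conj_mem inferInstance _ (h1 d') C.s
    rwa [inv_of_sq C.ss, Z.io_swap] at h'

/-- The exceptional configuration. -/
theorem conclusion : ∃ N : Subgroup G, N.Normal ∧ generalizedFittingSubgroup G = N ∧
    Nonempty (N ≃* alternatingGroup (Fin 5) × alternatingGroup (Fin 5)) ∧
    (∀ K : Subgroup G, K.Normal → K ≤ N → K = ⊥ ∨ K = N) ∧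
    N.index = 4 ∧ ∀ g : G, g ^ 2 ∈ N :=
  ⟨C.M0 hS, Z.M0_normal, Z.fstar_eq, Z.iso, fun _ hK hle => Z.minimal hK hle, Z.M0_index_four, Z.sq_mem⟩

end Sub0

end Cfsg.Agent.S8Three
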