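import Cfsg.Agent.Lib.S8Three.SmallMFacts

/-!
Finite facts for the transfer steps.
-/

set_option autoImplicit false
set_option maxRecDepth 20000
set_option synthInstance.maxSize 4096

namespace Cfsg.Agent.S8Three

open Equiv

/-- `(01)(23)` -/
def v5 : P5t := swap 0 1 * swap 2 3
/-- `(02)(13)` -/
def v5' : P5t := swap 0 2 * swap 1 3
/-- The four-group on four points. -/
def V5L : List P5t := [1, v5, v5', v5 * v5']

theorem V5L_facts : (∀ a ∈ V5L, ∀ b ∈ V5L, a * b ∈ V5L ∧ a * b = b * a) ∧ (∀ a ∈ V5L, a⁻¹ ∈ V5L) ∧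
    V5L.Nodup ∧ (∀ a ∈ V5L, Perm.sign a = 1) ∧ (∀ a ∈ V5L, a * a = 1) ∧
    (∀ a ∈ V5L, w5 * a * w5⁻¹ ∈ V5L) ∧ v5 ∈ V5L ∧ v5' ∈ V5L ∧
    (∃ c : P5t, Perm.sign c = 1 ∧ c * i5 * c⁻¹ = v5) := by
  decide +kernel

theorem odd_products : ∀ σ : P5t, Perm.sign σ = 1 → ∃ a b : P5t,
    a ^ 3 = 1 ∧ b ^ 3 = 1 ∧ Perm.sign a = 1 ∧ Perm.sign b = 1 ∧ a * b = σ := by
  decide +kernel

theorem cent_w5 : ∀ σ : P5t, Perm.sign σ = 1 → σ * w5 = w5 * σ → σ ∈ [1, w5, w5 * w5] := by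
  decide +kernel

end Cfsg.Agent.S8Three
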