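import Cfsg.Agent.Lib.S8Three.SmallM
import Cfsg.Agent.Lib.S8Three.SmallTransferFacts
import Cfsg.Agent.Lib.Transfer.SignThompson

/-!
Two transfers.
-/

set_option autoImplicit false
set_option linter.style.haveILetI false
set_option linter.unusedSectionVars false
set_option maxRecDepth 20000

namespace Cfsg.Agent.S8Three

open Equiv Subgroup

theorem units_cube (u : ℤˣ) (h : u ^ 3 = 1) : u = 1 := by
  rcases Int.units_eq_one_or u with e | e
  · exact e
  · rw [e] at h; exact absurd h (by decide)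

namespace Cfg

variable {G : Type*} [Group G] [Finite G] (C : Cfg G)
include C

/-- A character is trivial on the two copies of `Alt(5)`. -/
theorem char_even (χ : G →* ℤˣ) {σ : P5t} (hσ : Perm.sign σ = 1) : χ (C.Fb σ) = 1 ∧ χ (C.Pb σ) = 1 := by
  obtain ⟨a, b, ha, hb, -, -, rfl⟩ := odd_products σ hσ
  have key : ∀ φ : P5t →* G, χ (φ (a * b)) = 1 := fun φ => by
    have h1 : χ (φ a) = 1 := units_cube _ (by rw [← map_pow, ← map_pow, ha, map_one, map_one])
    have h2 : χ (φ b) = 1 := units_cube _ (by rw [← map_pow, ← map_pow, hb, map_one, map_one])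
    rw [map_mul, map_mul, h1, h2, one_mul]
  exact ⟨key _, key _⟩

/-- The same chart with `s` replaced by `s t`. -/
def flip : Cfg G where
  F := C.F
  F_inj := C.F_inj
  F_range := C.F_range
  s := C.s * C.F t0
  ss := by
    rw [show C.s * C.F t0 * (C.s * C.F t0) = (C.s * C.F t0 * C.s) * C.F t0 by group, C.st, ← map_mul,
      rel_facts.2.1, map_one]
  sz := by
    rw [show C.s * C.F t0 * C.F z0 * (C.s * C.F t0) = C.s * (C.F t0 * C.F z0) * C.s * C.F t0 by group,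
      ← map_mul, ← (Dm_facts.2.2.2.1 _ Dm_facts.1).2.2.2.1, map_mul, C.sconj_mul, C.sz, C.st, mul_assoc,
      ← map_mul C.F t0 t0, rel_facts.2.1, map_one, mul_one]
  st := by
    rw [show C.s * C.F t0 * C.F t0 * (C.s * C.F t0) = C.s * (C.F t0 * C.F t0) * C.s * C.F t0 by group,
      ← map_mul, rel_facts.2.1, map_one, mul_one, C.ss, one_mul]
  ε := C.ε
  stau := by
    have htτ : C.F t0 * C.F tau0 = C.F tau0 * C.F t0 := C.F_comm.2 rel_facts.2.2.2.1.symm
    have hbt : C.F (bif C.ε then jt0 else j0) * C.F t0 = C.F t0 * C.F (bif C.ε then jt0 else j0) := by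
      cases C.ε <;> exact C.F_comm.2 (by decide +kernel)
    rw [show C.s * C.F t0 * C.F tau0 * (C.s * C.F t0) = C.s * (C.F t0 * C.F tau0) * C.s * C.F t0 by group,
      htτ, C.sconj_mul, C.st, C.stau, mul_assoc, ← map_mul C.F t0 t0, rel_facts.2.1, map_one, mul_one]
  ycard := C.ycard
  ysq := C.ysq
  ynorm := C.ynorm
  sylow := C.sylow

variable (hS : C.Small)
include hS

theorem flip_small : C.flip.Small := by
  intro g hg
  obtain ⟨q, hq, h | h⟩ := hS g hg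
  · exact ⟨q, hq, Or.inl h⟩
  · refine ⟨t0 * q, (Commute.mul_left (Commute.refl t0) hq).eq, Or.inr ?_⟩
    show g = C.s * C.F t0 * C.F (t0 * q)
    rw [map_mul, mul_assoc, ← mul_assoc (C.F t0), ← map_mul C.F t0 t0, rel_facts.2.1, map_one, one_mul, h]

theorem t_ne_j : ¬ IsConj (C.F t0) (C.F j0) := fun h => by
  refine C.t_ne_a (h.trans (isConj_iff.2 ⟨C.s, ?_⟩))
  rw [inv_of_sq C.ss]; exact C.sjs hS

/-- The conjugates of `t` in `M` are conjugate to it in `M`. -/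
theorem t_class_M {x : G} (hx : x ∈ C.Mb hS) (h : IsConj (C.F t0) x) :
    ∃ m ∈ C.Mb hS, x = m * C.F t0 * m⁻¹ := by
  obtain ⟨g, hg⟩ := isConj_iff.1 h
  have tt : C.F t0 * C.F t0 = 1 := by rw [← map_mul, rel_facts.2.1, map_one]
  have h2 : x * x = 1 := by
    rw [← hg, show g * C.F t0 * g⁻¹ * (g * C.F t0 * g⁻¹) = g * (C.F t0 * C.F t0) * g⁻¹ by group, tt, mul_one,
      mul_inv_cancel]
  have h1 : x ≠ 1 := fun e => by
    rw [e, conj_eq_one_iff] at hg
    exact rel_facts.2.2.2.2.2.2.2.2.2.2.2.2.2.2.2.1 (C.F_inj (hg.trans (map_one C.F).symm))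
  rcases C.invol_cases hS hx h2 h1 with ⟨_, _, _, _, -, h' | h' | h'⟩ | h' | ⟨-, h' | h'⟩
  · exact absurd (h.trans h'.symm) C.t_ne_a
  · exact absurd (h.trans h'.symm) (C.t_ne_j hS)
  · exact absurd (h.trans h'.symm) (C.t_ne_k hS)
  · exact h'
  · exact absurd (h.trans h'.symm) C.t_ne_s
  · exact absurd (h.trans h'.symm) C.t_ne_st

/-- `M` has odd index. -/
theorem index_odd : Odd (C.Mb hS).index := by
  haveI : Fact (Nat.Prime 2) := ⟨Nat.prime_two⟩
  have ht : IsPGroup 2 (zpowers (C.F t0)) := IsPGroup.of_card (n := 1) (by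
    rw [Nat.card_zpowers, pow_one]
    exact orderOf_eq_prime (by rw [pow_two, ← map_mul, rel_facts.2.1, map_one])
      fun h => rel_facts.2.2.2.2.2.2.2.2.2.2.2.2.2.2.2.1 (C.F_inj (h.trans (map_one C.F).symm)))
  obtain ⟨Q, hQ⟩ := ht.exists_le_sylow
  have hle : (Q : Subgroup G) ≤ C.Mb hS := by
    by_contra hne
    haveI : Group.IsNilpotent (Q : Subgroup G) := Q.isPGroup'.isNilpotent
    obtain ⟨g, hgn, hgM⟩ := SetLike.exists_of_lt (Group.normalizerCondition_of_isNilpotent (G := (Q : Subgroup G))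
      ((C.Mb hS).subgroupOf Q) (lt_top_iff_ne_top.2 fun e => hne (subgroupOf_eq_top.1 e)))
    refine hgM (mem_subgroupOf.2 ?_)
    have h1 := mem_subgroupOf.1 ((mem_normalizer_iff.1 hgn ⟨C.F t0, hQ (mem_zpowers _)⟩).1
      (mem_subgroupOf.2 (C.t_mem hS)))
    simp only [Subgroup.coe_mul, Subgroup.coe_inv] at h1
    obtain ⟨m, hm, e⟩ := C.t_class_M hS h1 (isConj_iff.2 ⟨(g : G), rfl⟩)
    have h2 : (m⁻¹ * (g : G)) * C.F t0 = C.F t0 * (m⁻¹ * (g : G)) := by
      calc m⁻¹ * (g : G) * C.F t0 = m⁻¹ * ((g : G) * C.F t0 * (g : G)⁻¹) * g := by group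
        _ = _ := by rw [e]; group
    have h3 := mul_mem hm (C.cent_t_mem hS h2)
    rwa [mul_inv_cancel_left] at h3
  have hd : ¬ 2 ∣ (C.Mb hS).index := fun h => Q.not_dvd_index (h.trans (index_dvd_of_le hle))
  exact Nat.odd_iff.2 (Nat.two_dvd_ne_zero.1 hd)

/-- The pairs of even permutations, translated by `s`. -/
def M1 : Subgroup G where
  carrier := {g | ∃ p : K5, Perm.sign p.1.1 = 1 ∧ (g = C.Om hS p ∨ g = C.Om hS p * C.s)}
  one_mem' := ⟨1, map_one _, Or.inl (map_one _).symm⟩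
  mul_mem' := by
    rintro a b ⟨p, hp, rfl | rfl⟩ ⟨q, hq, rfl | rfl⟩
    · exact ⟨p * q, by simp [hp, hq], Or.inl (map_mul _ _ _).symm⟩
    · exact ⟨p * q, by simp [hp, hq], Or.inr (by rw [← mul_assoc, map_mul])⟩
    · have hq' : Perm.sign (swapK q).1.1 = 1 := (show Perm.sign q.1.1 = Perm.sign q.1.2 from q.2) ▸ hq
      exact ⟨p * swapK q, by simp [hp, hq'], Or.inr (by rw [mul_assoc, C.s_Om hS, ← mul_assoc, map_mul])⟩
    · have hq' : Perm.sign (swapK q).1.1 = 1 := (show Perm.sign q.1.1 = Perm.sign q.1.2 from q.2) ▸ hq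
      refine ⟨p * swapK q, by simp [hp, hq'], Or.inl ?_⟩
      rw [mul_assoc (C.Om hS p), ← mul_assoc C.s, C.s_Om hS, mul_assoc, C.ss, mul_one, map_mul]
  inv_mem' := by
    rintro a ⟨p, hp, rfl | rfl⟩
    · exact ⟨p⁻¹, by simp [hp], Or.inl (map_inv _ _).symm⟩
    · have hq' : Perm.sign (swapK p⁻¹).1.1 = 1 := by
        show Perm.sign (p.1.2)⁻¹ = 1
        rw [Perm.sign_inv]; exact (show Perm.sign p.1.1 = Perm.sign p.1.2 from p.2) ▸ hp
      exact ⟨swapK p⁻¹, hq', Or.inr (by rw [mul_inv_rev, inv_of_sq C.ss, ← map_inv, C.s_Om hS])⟩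

theorem Om_cases {p q : K5} (h : C.Om hS p = C.Om hS q * C.s) : False :=
  C.s_not_Om hS (q⁻¹ * p) (by rw [map_mul, map_inv, h, inv_mul_cancel_left])

theorem Om_M1 {p : K5} : C.Om hS p ∈ C.M1 hS ↔ Perm.sign p.1.1 = 1 := by
  refine ⟨?_, fun h => ⟨p, h, Or.inl rfl⟩⟩
  rintro ⟨q, hq, h | h⟩
  · rw [C.Om_inj hS h]; exact hq
  · exact (C.Om_cases hS h).elim

theorem M1_le : C.M1 hS ≤ C.Mb hS := fun _ ⟨p, _, h⟩ => ⟨p, h⟩

theorem M1_rel : (C.M1 hS).relIndex (C.Mb hS) = 2 := by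
  refine relIndex_eq_two_iff.2 ⟨C.F t0, C.t_mem hS, ?_⟩
  rintro b ⟨p, rfl | rfl⟩
  · rw [← C.Om_tK hS, ← map_mul, C.Om_M1, C.Om_M1]
    show Xor (Perm.sign (p.1.1 * t5) = 1) _
    rw [map_mul, uu5_vals.2.2.2.2.2]
    rcases Int.units_eq_one_or (Perm.sign p.1.1) with h | h <;> rw [h]
    · exact Or.inr ⟨rfl, by decide⟩
    · exact Or.inl ⟨by decide, by decide⟩
  · have key : ∀ r : K5, C.Om hS r * C.s ∈ C.M1 hS ↔ Perm.sign r.1.1 = 1 := fun r => by
      refine ⟨?_, fun h => ⟨r, h, Or.inr rfl⟩⟩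
      rintro ⟨q, hq, h | h⟩
      · exact (C.Om_cases hS h.symm).elim
      · rw [C.Om_inj hS (mul_right_cancel h)]; exact hq
    have e : C.Om hS p * C.s * C.F t0 = C.Om hS (p * ⟨(t5, t5), rfl⟩) * C.s := by
      rw [map_mul, C.Om_tK, mul_assoc, C.s_comm_t, mul_assoc]
    rw [e, key, key]
    show Xor (Perm.sign (p.1.1 * t5) = 1) _
    rw [map_mul, uu5_vals.2.2.2.2.2]
    rcases Int.units_eq_one_or (Perm.sign p.1.1) with h | h <;> rw [h]
    · exact Or.inr ⟨rfl, by decide⟩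
    · exact Or.inl ⟨by decide, by decide⟩

theorem exists_sign1 : ∃ χ : G →* ℤˣ, χ (C.F t0) = -1 := by
  refine SignThompson.exists_sign_hom (C.M1 hS) (C.F t0) 0 (C.Mb hS).index ?_ (fun g hg => ?_) (C.index_odd hS) ?_
  · rw [zero_add, pow_one]
    haveI : Fact (Nat.Prime 2) := ⟨Nat.prime_two⟩
    exact orderOf_eq_prime (by rw [pow_two, ← map_mul, rel_facts.2.1, map_one])
      fun h => rel_facts.2.2.2.2.2.2.2.2.2.2.2.2.2.2.2.1 (C.F_inj (h.trans (map_one C.F).symm))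
  · rw [pow_zero, pow_one] at hg
    obtain ⟨m, hm, e⟩ := C.t_class_M hS (C.M1_le hS hg) (isConj_iff.2 ⟨g⁻¹, by rw [inv_inv]⟩)
    have hn : ((C.M1 hS).subgroupOf (C.Mb hS)).Normal := Subgroup.normal_of_index_eq_two (C.M1_rel hS)
    have h := mem_subgroupOf.1 (hn.conj_mem ⟨_, C.M1_le hS hg⟩ (mem_subgroupOf.2 hg) ⟨m⁻¹, inv_mem hm⟩)
    have ht : C.F t0 ∈ C.M1 hS := by
      simp only [Subgroup.coe_mul, Subgroup.coe_inv] at h
      rwa [e, inv_inv, show m⁻¹ * (m * C.F t0 * m⁻¹) * m = C.F t0 by group] at h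
    rw [← C.Om_tK hS, C.Om_M1] at ht
    exact absurd ht (by rw [uu5_vals.2.2.2.2.2]; decide)
  · rw [← relIndex_mul_index (C.M1_le hS), C.M1_rel hS]; rfl

end Cfg

end Cfsg.Agent.S8Three
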